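import Groth.Prelude.Def_CohB1
import Mathlib.AlgebraicGeometry.Modules.Tilde
import Mathlib.RingTheory.Finiteness.Basic
import Mathlib.Algebra.Module.FinitePresentation

/-!
# Finite type and finite presentation from tilde descriptions on an affine cover
-/

universe u

open CategoryTheory CategoryTheory.Limits AlgebraicGeometry TopologicalSpace Opposite

namespace Groth.Agent.Lib.Kaehler.LocalPres

variable {X : Scheme.{u}} {M : X.Modules} {U : X.Opens}

/-- Transfer a presentation on an affine chart to a presentation on the slice site. -/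
noncomputable def presOver (hU : IsAffineOpen U) (P₀ : (M.restrict hU.fromSpec).Presentation) :
    (SheafOfModules.over M U).Presentation := by
  have hfs : hU.isoSpec.hom ≫ hU.fromSpec = U.ι := (hU.isoSpec.hom_inv_id_assoc _ :)
  let ε := ((Scheme.Modules.restrictFunctorComp hU.isoSpec.hom hU.fromSpec).symm ≪≫
    Scheme.Modules.restrictFunctorCongr hfs).app M
  let P₁ : (M.restrict U.ι).Presentation :=
    @SheafOfModules.Presentation.ofIsIso.{u, u, u} _ _ _ _ _ _ _ _ ε.hom ε.isIso_hom
      (Scheme.Modules.presentationRestrict hU.isoSpec.hom P₀)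
  let E := Scheme.Modules.overEquiv U
  let e (N : X.Modules) : E.inverse.obj (N.restrict U.ι) ≅ SheafOfModules.over N U :=
    E.inverse.mapIso ((Scheme.Modules.overFunctorEquiv U).app N).symm ≪≫
      (E.unitIso.app (SheafOfModules.over N U)).symm
  let F : SheafOfModules.{u} (U : Scheme.{u}).ringCatSheaf ⥤
      SheafOfModules.{u} (X.ringCatSheaf.over U) := E.inverse
  haveI : PreservesColimitsOfSize.{u, u} F :=
    Adjunction.leftAdjoint_preservesColimits.{u, u} E.symm.toAdjunction
  exact @SheafOfModules.Presentation.ofIsIso.{u, u, u} _ _ _ _ _ _ _ _ (e M).hom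
    (e M).isIso_hom
    (P₁.map F ((E.inverse.mapIso (Scheme.Modules.restrictUnitIso U.ι).symm ≪≫
      e (SheafOfModules.unit X.ringCatSheaf)).symm))

theorem presOver_generators_I (hU : IsAffineOpen U) (P₀ : (M.restrict hU.fromSpec).Presentation) :
    (presOver hU P₀).generators.I = P₀.generators.I := rfl

theorem presOver_relations_I (hU : IsAffineOpen U) (P₀ : (M.restrict hU.fromSpec).Presentation) :
    (presOver hU P₀).relations.I = P₀.relations.I := rfl

/-- Quasicoherent data from presentations on an affine cover. -/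
noncomputable def qcohData (U : X → X.Opens) (hU : ∀ x, IsAffineOpen (U x)) (hx : ∀ x, x ∈ U x)
    (P : ∀ x, (M.restrict (hU x).fromSpec).Presentation) :
    SheafOfModules.QuasicoherentData (C := X.Opens) (R := X.ringCatSheaf) M where
  I := X
  X := U
  coversTop := (Opens.coversTop_iff _ _).mpr
    (eq_top_iff.mpr fun x _ ↦ Opens.mem_iSup.mpr ⟨x, hx x⟩)
  presentation x := presOver (hU x) (P x)

theorem isQuasicoherent_of_cover
    (h : ∀ x : X, ∃ (U : X.Opens) (hU : IsAffineOpen U), x ∈ U ∧
      ∃ N : ModuleCat.{u} Γ(X, U), Nonempty (M.restrict hU.fromSpec ≅ tilde N)) :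
    M.IsQuasicoherent := by
  choose U hU hx N hN using h
  exact (qcohData U hU hx fun x =>
    @SheafOfModules.Presentation.ofIsIso.{u, u, u} _ _ _ _ _ _ _ _ (hN x).some.inv
      (hN x).some.isIso_inv (presentationTilde.{u} _ .univ (by simp) _ (Submodule.span_eq _))
    ).isQuasicoherent

theorem isFT_of_cover
    (h : ∀ x : X, ∃ (U : X.Opens) (hU : IsAffineOpen U), x ∈ U ∧
      ∃ N : ModuleCat.{u} Γ(X, U), Module.Finite Γ(X, U) N ∧
        Nonempty (M.restrict hU.fromSpec ≅ tilde N)) :
    CohB1.IsFT M := by
  choose U hU hx N hfin hN using h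
  choose s hs using fun x => (hfin x).fg_top
  let P : ∀ x, (M.restrict (hU x).fromSpec).Presentation := fun x =>
    @SheafOfModules.Presentation.ofIsIso.{u, u, u} _ _ _ _ _ _ _ _ (hN x).some.inv
      (hN x).some.isIso_inv (presentationTilde.{u} (N x) (↑(s x)) (hs x) _ (Submodule.span_eq _))
  let q := qcohData U hU hx P
  have hq : q.localGeneratorsData.IsFiniteType := by
    constructor
    intro x
    constructor
    exact (s x).finite_toSet.to_subtype
  exact SheafOfModules.IsFiniteType.mk (C := X.Opens) (R := X.ringCatSheaf) (M := M)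
    ⟨q.localGeneratorsData, hq⟩

theorem isFP_of_cover
    (h : ∀ x : X, ∃ (U : X.Opens) (hU : IsAffineOpen U), x ∈ U ∧
      ∃ N : ModuleCat.{u} Γ(X, U), Module.FinitePresentation Γ(X, U) N ∧
        Nonempty (M.restrict hU.fromSpec ≅ tilde N)) :
    CohB1.IsFP M := by
  choose U hU hx N hfin hN using h
  choose s hs hker using fun x => (hfin x).out
  choose t ht using hker
  let P : ∀ x, (M.restrict (hU x).fromSpec).Presentation := fun x =>
    @SheafOfModules.Presentation.ofIsIso.{u, u, u} _ _ _ _ _ _ _ _ (hN x).some.inv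
      (hN x).some.isIso_inv (presentationTilde.{u} (N x) (↑(s x)) (hs x) (↑(t x)) (ht x))
  let q := qcohData U hU hx P
  have hq : q.IsFinitePresentation := by
    constructor
    intro x
    constructor
    · constructor
      exact (s x).finite_toSet.to_subtype
    · constructor
      exact (t x).finite_toSet.to_subtype
  exact SheafOfModules.IsFinitePresentation.mk (C := X.Opens) (R := X.ringCatSheaf) (M := M)
    ⟨q, hq⟩

end Groth.Agent.Lib.Kaehler.LocalPres
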