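import Groth.Agent.Lib.Kaehler.AffineUniv

/-!
# Transfer of derivations along a square of affine schemes
-/

universe u

open CategoryTheory CategoryTheory.Limits AlgebraicGeometry TopologicalSpace Opposite

namespace Groth.Agent.Lib.Kaehler.AffinePush

open OmegaSh Groth.Agent.Lib.Kaehler.Basic Groth.Agent.Lib.Kaehler.Affine
open Groth.Agent.Lib.Kaehler.AffineUniv

variable {A B A' B' : CommRingCat.{u}} {φ : A ⟶ B} {φ' : A' ⟶ B'} {α : A ⟶ A'} {ψ : B ⟶ B'}

/-- The algebraic condition: derivations of `B'` over `A'` are the same as derivations of `B`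
over `A` with values in a `B'`-module. -/
def DerRestrictBijective (φ : A ⟶ B) (φ' : A' ⟶ B') (ψ : B ⟶ B') : Prop :=
  ∀ (M : ModuleCat.{u} B') (δ : B →+ M), (∀ a c, δ (a * c) = ψ a • δ c + ψ c • δ a) →
    (∀ a, δ (φ a) = 0) → ∃! D : M.Derivation φ', ∀ b, D.d (ψ b) = δ b

theorem specMap_sq (w : φ ≫ ψ = α ≫ φ') :
    Spec.map φ' ≫ Spec.map α = Spec.map ψ ≫ Spec.map φ := by
  rw [← Spec.map_comp, ← Spec.map_comp, w]

theorem derPush_top (w : φ ≫ ψ = α ≫ φ') {G : (Spec B').Modules} (D : Der (Spec.map φ') G) (b : B) :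
    ((derPush (Spec.map ψ) (Spec.map α) (specMap_sq w) D).app ⊤ ((Scheme.ΓSpecIso B).inv b) :
      Γ(G, ⊤)) = D.app ⊤ ((Scheme.ΓSpecIso B').inv (ψ b)) := by
  have : (Scheme.ΓSpecIso B').inv (ψ b) = (Spec.map ψ).appTop ((Scheme.ΓSpecIso B).inv b) :=
    congr($(Scheme.ΓSpecIso_inv_naturality ψ) b)
  rw [this]
  rfl

theorem push_top_smul (G : (Spec B').Modules) (a : B)
    (x : Γ((Scheme.Modules.pushforward (Spec.map ψ)).obj G, ⊤)) :
    ((Scheme.ΓSpecIso B).inv a) • x = (ψ a • (show Γ(G, ⊤) from x) : Γ(G, ⊤)) := by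
  have h : (Scheme.ΓSpecIso B').inv (ψ a) = (Spec.map ψ).appTop ((Scheme.ΓSpecIso B).inv a) :=
    congr($(Scheme.ΓSpecIso_inv_naturality ψ) a)
  change (Spec.map ψ).appTop ((Scheme.ΓSpecIso B).inv a) • (show Γ(G, ⊤) from x) = _
  rw [← h, top_smul, Iso.inv_hom_id_apply]

theorem derPush_bijective (w : φ ≫ ψ = α ≫ φ') (H : DerRestrictBijective φ φ' ψ)
    (G : (Spec B').Modules) :
    Function.Bijective
      (derPush (f := Spec.map φ) (f' := Spec.map φ') (Spec.map ψ) (Spec.map α) (specMap_sq w)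
        (G := G)) := by
  have base : ∀ (D₀ : Der (Spec.map φ) ((Scheme.Modules.pushforward (Spec.map ψ)).obj G)),
      ∃! D : (gm G).Derivation φ', ∀ b : B, D.d (ψ b) =
        (show Γ(G, ⊤) from D₀.app ⊤ ((Scheme.ΓSpecIso B).inv b)) := by
    intro D₀
    refine H (gm G) (AddMonoidHom.mk' (fun b : B =>
      (show Γ(G, ⊤) from D₀.app ⊤ ((Scheme.ΓSpecIso B).inv b))) fun a c => ?_) (fun a c => ?_)
        (fun a => ?_)
    · change D₀.app ⊤ _ = D₀.app ⊤ _ + D₀.app ⊤ _
      rw [map_add, map_add]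
    · have h := der_app_mul D₀ ⊤ ((Scheme.ΓSpecIso B).inv a) ((Scheme.ΓSpecIso B).inv c)
      rw [← map_mul, push_top_smul, push_top_smul] at h
      exact h
    · change D₀.app ⊤ ((Scheme.ΓSpecIso B).inv (φ a)) = 0
      rw [← ConcreteCategory.comp_apply, Scheme.ΓSpecIso_inv_naturality,
        ConcreteCategory.comp_apply]
      exact top_base _ D₀ _
  constructor
  · intro D₁ D₂ h
    refine (toModDer_bijective φ' G).1 ((base (derPush (Spec.map ψ) (Spec.map α)
      (specMap_sq w) D₁)).unique (fun b => (derPush_top w D₁ b).symm) ?_)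
    rw [h]
    exact fun b => (derPush_top w D₂ b).symm
  · intro D₀
    obtain ⟨E, hE, -⟩ := base D₀
    obtain ⟨D, rfl⟩ := (toModDer_bijective φ' G).2 E
    refine ⟨D, der_ext_top ?_⟩
    ext s
    have h := (derPush_top w D ((Scheme.ΓSpecIso B).hom s)).trans (hE ((Scheme.ΓSpecIso B).hom s))
    rw [Iso.hom_inv_id_apply] at h
    exact h

end Groth.Agent.Lib.Kaehler.AffinePush
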