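import Groth.Agent.Lib.Kaehler.Comp
import Groth.Agent.Lib.Kaehler.AffinePush
import Groth.Agent.Lib.Modules.Local

/-!
# Affine charts for modules of differentials; the canonical map can be checked on charts
-/

universe u

open CategoryTheory CategoryTheory.Limits AlgebraicGeometry TopologicalSpace Opposite

namespace Groth.Agent.Lib.Kaehler.Chart

open OmegaSh Groth.Agent.Lib.Kaehler.Basic Groth.Agent.Lib.Modules

section Local

variable {X : Scheme.{u}} {M N : X.Modules} (c : M ⟶ N)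

theorem pullback_map_eq {U : Scheme.{u}} (j : U ⟶ X) [IsOpenImmersion j] :
    (Scheme.Modules.restrictFunctor j).map c =
      (Scheme.Modules.restrictFunctorIsoPullback j).hom.app M ≫ (Scheme.Modules.pullback j).map c ≫
        (Scheme.Modules.restrictFunctorIsoPullback j).inv.app N := by
  rw [← (Scheme.Modules.restrictFunctorIsoPullback j).hom.naturality_assoc, Iso.hom_inv_id_app,
    Category.comp_id]

theorem stalk_map_eq {U : Scheme.{u}} (j : U ⟶ X) [IsOpenImmersion j] (y : U) :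
    (Stalk.stalkFunctor X (j y)).map c = (Local.restrictStalkIso j y).inv.app M ≫
      (Stalk.stalkFunctor U y).map ((Scheme.Modules.restrictFunctor j).map c) ≫
        (Local.restrictStalkIso j y).hom.app N := by
  erw [(Local.restrictStalkIso j y).hom.naturality c, Iso.inv_hom_id_app_assoc]

/-- A cover by open immersions, each point lying in the image of one of them. -/
def LocallyHolds (P : ∀ {U : Scheme.{u}} {A B : U.Modules}, (A ⟶ B) → Prop) : Prop :=
  ∀ x : X, ∃ (U : Scheme.{u}) (j : U ⟶ X) (_ : IsOpenImmersion j) (y : U),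
    j y = x ∧ P ((Scheme.Modules.pullback j).map c)

theorem isIso_of_locally (h : LocallyHolds c (fun φ => IsIso φ)) : IsIso c := by
  refine (Stalk.isIso_iff_stalk c).mpr fun x => ?_
  obtain ⟨U, j, _, y, rfl, hy⟩ := h x
  rw [stalk_map_eq c j y, pullback_map_eq c j]
  infer_instance

theorem mono_of_locally (h : LocallyHolds c (fun φ => Mono φ)) : Mono c := by
  refine (Stalk.mono_iff_stalk c).mpr fun x => ?_
  obtain ⟨U, j, _, y, rfl, hy⟩ := h x
  rw [stalk_map_eq c j y, pullback_map_eq c j]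
  have : Mono ((Scheme.Modules.restrictFunctorIsoPullback j).hom.app M ≫
      (Scheme.Modules.pullback j).map c ≫
        (Scheme.Modules.restrictFunctorIsoPullback j).inv.app N) := inferInstance
  have := (Stalk.mono_iff_stalk _).mp this y
  exact mono_comp _ _

theorem epi_of_locally (h : LocallyHolds c (fun φ => Epi φ)) : Epi c := by
  refine (Stalk.epi_iff_stalk c).mpr fun x => ?_
  obtain ⟨U, j, _, y, rfl, hy⟩ := h x
  rw [stalk_map_eq c j y, pullback_map_eq c j]
  have : Epi ((Scheme.Modules.restrictFunctorIsoPullback j).hom.app M ≫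
      (Scheme.Modules.pullback j).map c ≫
        (Scheme.Modules.restrictFunctorIsoPullback j).inv.app N) := inferInstance
  have := (Stalk.epi_iff_stalk _).mp this y
  exact epi_comp _ _

theorem isZero_of_locally (M : X.Modules)
    (h : ∀ x : X, ∃ (U : Scheme.{u}) (j : U ⟶ X) (_ : IsOpenImmersion j) (y : U),
      j y = x ∧ IsZero ((Scheme.Modules.pullback j).obj M)) : IsZero M := by
  refine Stalk.isZero_iff_stalk.mpr fun x => ?_
  obtain ⟨U, j, _, y, rfl, hy⟩ := h x
  exact (Stalk.isZero_iff_stalk.mp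
    (hy.of_iso ((Scheme.Modules.restrictFunctorIsoPullback j).app M)) y).of_iso
      ((Local.restrictStalkIso j y).app M).symm

end Local

variable {X Y : Scheme.{u}} (f : X ⟶ Y) {U : X.Opens} {V : Y.Opens}

/-- Every point has an affine chart. -/
theorem exists_chart (x : X) : ∃ (V : Y.Opens) (U : X.Opens) (_ : IsAffineOpen V) (_ : IsAffineOpen U),
    x ∈ U ∧ U ≤ f ⁻¹ᵁ V := by
  obtain ⟨_, ⟨V, hV, rfl⟩, hxV, -⟩ :=
    Y.isBasis_affineOpens.exists_subset_of_mem_open (Set.mem_univ (f x)) isOpen_univ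
  obtain ⟨_, ⟨U, hU, rfl⟩, hxU, hUV⟩ :=
    X.isBasis_affineOpens.exists_subset_of_mem_open (show x ∈ f ⁻¹ᵁ V from hxV) (f ⁻¹ᵁ V).isOpen
  exact ⟨V, U, hV, hU, hxU, hUV⟩

theorem exists_fromSpec_eq (hU : IsAffineOpen U) {x : X} (hx : x ∈ U) : ∃ y, hU.fromSpec y = x := by
  rw [← SetLike.mem_coe, ← hU.range_fromSpec] at hx
  exact hx

variable (hU : IsAffineOpen U) (hV : IsAffineOpen V) (e : U ≤ f ⁻¹ᵁ V)

theorem fromSpec_sq : Spec.map (f.appLE V U e) ≫ hV.fromSpec = hU.fromSpec ≫ f :=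
  IsAffineOpen.SpecMap_appLE_fromSpec f hV hU e

include hV in
/-- The universal derivation on an affine chart. -/
theorem exists_isUniversal_chart {Ω : X.Modules} {d : Der f Ω} (hd : IsUniversal d) :
    ∃ d' : Der (Spec.map (f.appLE V U e)) ((Scheme.Modules.pullback hU.fromSpec).obj Ω),
      IsUniversal d' ∧ IsDiffCompat hU.fromSpec d d' (𝟙 _) :=
  OpenImm.exists_isUniversal_pullback hU.fromSpec hV.fromSpec (fromSpec_sq f hU hV e) hd

include hV in
/-- On an affine chart the module of differentials is the tilde of Kähler differentials. -/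
theorem nonempty_pullback_iso {Ω : X.Modules} {d : Der f Ω} (hd : IsUniversal d) :
    Nonempty ((Scheme.Modules.pullback hU.fromSpec).obj Ω ≅
      AffineUniv.omegaAff (f.appLE V U e)) := by
  obtain ⟨d', hd', -⟩ := exists_isUniversal_chart f hU hV e hd
  exact AffineUniv.nonempty_iso_omegaAff _ hd'

include hV in
theorem nonempty_restrict_iso {Ω : X.Modules} {d : Der f Ω} (hd : IsUniversal d) :
    Nonempty (Ω.restrict hU.fromSpec ≅ AffineUniv.omegaAff (f.appLE V U e)) :=
  (nonempty_pullback_iso f hU hV e hd).map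
    fun i => (Scheme.Modules.restrictFunctorIsoPullback hU.fromSpec).app Ω ≪≫ i

section Map

variable {X' Y' : Scheme.{u}} {f' : X' ⟶ Y'} {h : X' ⟶ X} {b : Y' ⟶ Y} (hsq : f' ≫ b = h ≫ f)

include hsq in
theorem appLE_sq {U' : X'.Opens} {V' : Y'.Opens} (eU : U' ≤ h ⁻¹ᵁ U) (eV : V' ≤ b ⁻¹ᵁ V)
    (e' : U' ≤ f' ⁻¹ᵁ V') :
    f.appLE V U e ≫ h.appLE U U' eU = b.appLE V V' eV ≫ f'.appLE V' U' e' := by
  rw [Scheme.Hom.appLE_comp_appLE, Scheme.Hom.appLE_comp_appLE]
  congr 1
  exact hsq.symm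

include hsq in
theorem isIso_of_charts {Ω : X.Modules} {Ω' : X'.Modules} {d : Der f Ω} {d' : Der f' Ω'}
    (hd : IsUniversal d) (hd' : IsUniversal d')
    (c : (Scheme.Modules.pullback h).obj Ω ⟶ Ω') (hc : IsDiffCompat h d d' c)
    (H : ∀ x' : X', ∃ (V : Y.Opens) (U : X.Opens) (_ : IsAffineOpen V) (_ : IsAffineOpen U)
      (e : U ≤ f ⁻¹ᵁ V) (V' : Y'.Opens) (U' : X'.Opens) (_ : IsAffineOpen V') (_ : IsAffineOpen U')
      (e' : U' ≤ f' ⁻¹ᵁ V') (eU : U' ≤ h ⁻¹ᵁ U) (_ : V' ≤ b ⁻¹ᵁ V), x' ∈ U' ∧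
      AffinePush.DerRestrictBijective (f.appLE V U e) (f'.appLE V' U' e') (h.appLE U U' eU)) :
    IsIso c := by
  refine isIso_of_locally c fun x' => ?_
  obtain ⟨V, U, hV, hU, e, V', U', hV', hU', e', eU, eV, hx', Halg⟩ := H x'
  obtain ⟨y, hy⟩ := exists_fromSpec_eq hU' hx'
  refine ⟨_, hU'.fromSpec, inferInstance, y, hy, ?_⟩
  obtain ⟨d'', hd'', hc''⟩ := exists_isUniversal_chart f' hU' hV' e' hd'
  have h₃ := Comp.isDiffCompat_comp hc hc''
  obtain ⟨β, hs, hbij⟩ : ∃ (β : Spec Γ(Y', V') ⟶ Y)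
      (hs : Spec.map (f'.appLE V' U' e') ≫ β = (hU'.fromSpec ≫ h) ≫ f),
      ∀ G, Function.Bijective (derPush (f := f) (f' := Spec.map (f'.appLE V' U' e'))
        (hU'.fromSpec ≫ h) β hs (G := G)) := by
    rw [← IsAffineOpen.SpecMap_appLE_fromSpec h hU hU' eU]
    exact ⟨Spec.map (b.appLE V V' eV) ≫ hV.fromSpec,
      Comp.sq_comp hU.fromSpec (Spec.map _) hV.fromSpec (Spec.map _) (fromSpec_sq f hU hV e)
        (AffinePush.specMap_sq (appLE_sq f e hsq eU eV e')),
      Comp.derPush_comp_bijective hU.fromSpec (Spec.map _) hV.fromSpec (Spec.map _)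
        (fromSpec_sq f hU hV e) (AffinePush.specMap_sq (appLE_sq f e hsq eU eV e'))
        (OpenImm.derPush_bijective _ _ _)
        (AffinePush.derPush_bijective (appLE_sq f e hsq eU eV e') Halg)⟩
  have := isIso_of_derPush_bijective hs hd hd'' hbij _ h₃
  rw [Category.comp_id] at this
  exact IsIso.of_isIso_comp_left ((Scheme.Modules.pullbackComp hU'.fromSpec h).inv.app Ω) _

end Map

end Groth.Agent.Lib.Kaehler.Chart
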