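import Groth.Agent.Lib.Kaehler.LocFree
import Groth.Agent.H54.FormalEtale

/-!
# Formally smooth morphisms have formally smooth coordinate rings
-/

universe u

open CategoryTheory CategoryTheory.Limits AlgebraicGeometry TopologicalSpace Opposite

namespace Groth.Agent.Lib.Kaehler.FSmooth

theorem formallySmooth_of_specMap {A B : CommRingCat.{u}} (φ : A ⟶ B)
    (h : MoreMor.IsFormallySmoothHom (Spec.map φ)) : φ.hom.FormallySmooth := by
  letI := φ.hom.toAlgebra
  change Algebra.FormallySmooth A B
  refine Algebra.FormallySmooth.of_comp_surjective fun C _ _ I hI g => ?_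
  obtain ⟨l, hl₁, hl₂⟩ := h C I hI (Spec.map (CommRingCat.ofHom g.toRingHom))
    (Spec.map (CommRingCat.ofHom (algebraMap A C))) (by
      rw [← Spec.map_comp, ← Spec.map_comp]
      congr 1
      ext a
      exact (g.commutes a).symm)
  have h₁ : Spec.preimage l ≫ CommRingCat.ofHom (Ideal.Quotient.mk I) =
      CommRingCat.ofHom g.toRingHom := by
    apply Spec.map_injective
    rw [Spec.map_comp, Spec.map_preimage, hl₁]
  have h₂ : φ ≫ Spec.preimage l = CommRingCat.ofHom (algebraMap A C) := by
    apply Spec.map_injective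
    rw [Spec.map_comp, Spec.map_preimage, hl₂]
  exact ⟨{ (Spec.preimage l).hom with
      commutes' := fun a => congr($h₂ a) }, AlgHom.ext fun b => congr($h₁ b)⟩

theorem formallySmooth_appLE {X Y : Scheme.{u}} {f : X ⟶ Y}
    (hf : MoreMor.IsFormallySmoothHom f) {V : Y.Opens} (hV : IsAffineOpen V) {U : X.Opens}
    (hU : IsAffineOpen U) (e : U ≤ f ⁻¹ᵁ V) : (f.appLE V U e).hom.FormallySmooth := by
  refine formallySmooth_of_specMap _ (H54.FormalEtale.smooth_of_comp_mono _ hV.fromSpec ?_)
  rw [hV.SpecMap_appLE_fromSpec f hU e]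
  exact H54.FormalEtale.comp_smooth _ _
    (fun A _ I hI a b w => (H54.FormalEtale.of_isOpenImmersion hU.fromSpec A I hI a b w).exists) hf

theorem isFinLocFree {X Y : Scheme.{u}} {f : X ⟶ Y} (hf : MoreMor.IsFormallySmoothHom f)
    [LocallyOfFiniteType f] {Ω : X.Modules} {d : OmegaSh.Der f Ω} (hd : OmegaSh.IsUniversal d) :
    FlatMod.IsFinLocFree Ω := by
  refine LocFree.isFinLocFree_of_universal hd fun x => ?_
  obtain ⟨V, U, hV, hU, hx, e⟩ := Chart.exists_chart f x
  obtain ⟨h1, h2⟩ := LocFree.kaehler_finite_projective _ (formallySmooth_appLE hf hV hU e)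
    (f.finiteType_appLE hV hU e)
  exact ⟨V, U, hV, hU, e, hx, h1, h2⟩

end Groth.Agent.Lib.Kaehler.FSmooth
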