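import Groth.Agent.Lib.Kaehler.Finite
import Groth.Agent.Lib.Modules.Free
import Groth.Agent.Lib.QCoh.Pullback
import Groth.Agent.Lib.FlatCx.BaseChange
import Groth.Prelude.Def_FlatMod2
import Mathlib.RingTheory.Spectrum.Prime.FreeLocus

/-!
# Finite projective modules give finite locally free sheaves
-/

universe u

open CategoryTheory CategoryTheory.Limits AlgebraicGeometry TopologicalSpace Opposite

namespace Groth.Agent.Lib.Kaehler.LocFree

variable {R : CommRingCat.{u}}

/-- A module with a finite basis is the coproduct of copies of the ring. -/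
noncomputable def isColimitBasis {M : ModuleCat.{u} R} {n : ℕ} (b : Module.Basis (Fin n) R M) :
    IsColimit (Cofan.mk M (fun i => ModuleCat.ofHom (LinearMap.toSpanSingleton R M (b i))) :
      Cofan (fun _ : Fin n => ModuleCat.of R R)) :=
  Cofan.IsColimit.mk _
    (fun s => ModuleCat.ofHom (b.constr R fun i => s.inj i (1 : R)))
    (fun s i => by
      ext
      simp [Limits.Cofan.inj])
    (fun s m hm => by
      apply ModuleCat.hom_ext
      refine b.ext fun i => ?_
      simp only [ModuleCat.hom_ofHom, Module.Basis.constr_basis]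
      rw [← hm i]
      simp [Limits.Cofan.inj])

/-- The sheaf of a module with a finite basis is free. -/
noncomputable def tildeFreeIso {M : ModuleCat.{u} R} {n : ℕ} (b : Module.Basis (Fin n) R M) :
    tilde M ≅ FlatMod.freeMod (Spec R) n :=
  haveI : PreservesColimitsOfShape (Discrete (Fin n)) (tilde.functor R) :=
    tilde.adjunction.leftAdjoint_preservesColimits.preservesColimitsOfShape
  (isColimitOfPreserves (tilde.functor R) (isColimitBasis b)).coconePointUniqueUpToIso
      (colimit.isColimit _) ≪≫
    HasColimit.isoOfNatIso (Discrete.natIso fun _ => tildeSelf (R := R))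

variable {X : Scheme.{u}}

theorem free_nhd_of_chart {M : X.Modules} {W : Scheme.{u}} (j : W ⟶ X) [IsOpenImmersion j] {n : ℕ}
    (i : M.restrict j ≅ FlatMod.freeMod W n) :
    Nonempty (M.restrict j.opensRange.ι ≅ FlatMod.freeMod (↑j.opensRange) n) :=
  ⟨(Scheme.Modules.restrictFunctorCongr j.isoOpensRange_inv_comp.symm).app M ≪≫
    (Scheme.Modules.restrictFunctorComp j.isoOpensRange.inv j).app M ≪≫
    (Scheme.Modules.restrictFunctor j.isoOpensRange.inv).mapIso i ≪≫
    Modules.Free.restrictFreeIso _ n⟩

theorem isFinLocFree_of_charts (M : X.Modules)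
    (h : ∀ x : X, ∃ (W : Scheme.{u}) (j : W ⟶ X) (_ : IsOpenImmersion j) (n : ℕ),
      x ∈ j.opensRange ∧ Nonempty (M.restrict j ≅ FlatMod.freeMod W n)) :
    FlatMod.IsFinLocFree M := fun x => by
  obtain ⟨W, j, hj, n, hx, ⟨i⟩⟩ := h x
  exact ⟨_, n, hx, free_nhd_of_chart j i⟩

theorem exists_free_basicOpen {B : CommRingCat.{u}} (N : ModuleCat.{u} B) [Module.Finite B N]
    [Module.Projective B N] (p : PrimeSpectrum B) :
    ∃ (r : B) (n : ℕ), r ∉ p.asIdeal ∧ Nonempty ((tilde N).restrict
      (Spec.map (CommRingCat.ofHom (algebraMap B (Localization.Away r)))) ≅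
      FlatMod.freeMod (Spec (CommRingCat.of (Localization.Away r))) n) := by
  have := Module.finitePresentation_of_projective B N
  have : Module.Free (Localization.AtPrime p.asIdeal)
      (LocalizedModule p.asIdeal.primeCompl N) := by
    rw [← Module.mem_freeLocus, Module.freeLocus_eq_univ]
    trivial
  obtain ⟨r, hr, hr', -⟩ := Module.FinitePresentation.exists_free_localizedModule_powers
    p.asIdeal.primeCompl (LocalizedModule.mkLinearMap p.asIdeal.primeCompl N)
    (Localization.AtPrime p.asIdeal)
  let S := Localization.Away r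
  let φ : B ⟶ CommRingCat.of S := CommRingCat.ofHom (algebraMap B S)
  let L := LocalizedModule (Submonoid.powers r) N
  haveI : Module.Finite S L := Module.Finite.of_isLocalizedModule (Submonoid.powers r)
    (LocalizedModule.mkLinearMap (Submonoid.powers r) N)
  haveI : Nontrivial S := by
    have hunit : IsUnit (algebraMap B (Localization.AtPrime p.asIdeal) r) :=
      IsLocalization.map_units _ (⟨r, hr⟩ : p.asIdeal.primeCompl)
    exact (IsLocalization.Away.lift r hunit (S := S)).domain_nontrivial
  let e : (ModuleCat.extendScalars (algebraMap B S)).obj N ≃ₗ[S] L :=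
    (FlatCx.BaseChange.extEquiv S N).trans
      (IsLocalizedModule.isBaseChange (Submonoid.powers r) S
        (LocalizedModule.mkLinearMap (Submonoid.powers r) N)).equiv
  let b := (Module.finBasis S L).map e.symm
  refine ⟨r, _, hr, ⟨(Scheme.Modules.restrictFunctorIsoPullback (Spec.map φ)).app (tilde N) ≪≫
    (QCoh.Pullback.pullbackTildeIso φ).app N ≪≫ tildeFreeIso (R := CommRingCat.of S) b⟩⟩

theorem exists_free_restrict {M : X.Modules} {U : X.Opens} (hU : IsAffineOpen U)
    (N : ModuleCat.{u} Γ(X, U)) [Module.Finite Γ(X, U) N] [Module.Projective Γ(X, U) N]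
    (i : M.restrict hU.fromSpec ≅ tilde N) {x : X} (hx : x ∈ U) :
    ∃ (W : Scheme.{u}) (j : W ⟶ X) (_ : IsOpenImmersion j) (n : ℕ),
      x ∈ j.opensRange ∧ Nonempty (M.restrict j ≅ FlatMod.freeMod W n) := by
  obtain ⟨p, hp⟩ := Chart.exists_fromSpec_eq hU hx
  obtain ⟨r, n, hr, ⟨e⟩⟩ := exists_free_basicOpen N p
  let k := Spec.map (CommRingCat.ofHom (algebraMap Γ(X, U) (Localization.Away r)))
  haveI : IsOpenImmersion k := inferInstance
  refine ⟨_, k ≫ hU.fromSpec, inferInstance, n, ?_, ⟨(Scheme.Modules.restrictFunctorComp k hU.fromSpec).app M ≪≫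
    (Scheme.Modules.restrictFunctor k).mapIso i ≪≫ e⟩⟩
  have hmem : p ∈ Set.range k := by
    change p ∈ Set.range (PrimeSpectrum.comap (algebraMap Γ(X, U) (Localization.Away r)))
    rw [PrimeSpectrum.localization_away_comap_range (Localization.Away r) r]
    exact hr
  obtain ⟨q, hq⟩ := hmem
  exact ⟨q, by rw [Scheme.Hom.comp_apply, hq, hp]⟩

variable {Y : Scheme.{u}} {f : X ⟶ Y} {Ω : X.Modules} {d : OmegaSh.Der f Ω}

/-- `Ω` is finite locally free if its Kähler modules on charts are finite projective. -/
theorem isFinLocFree_of_universal (hd : OmegaSh.IsUniversal d)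
    (h : ∀ x : X, ∃ (V : Y.Opens) (U : X.Opens) (_ : IsAffineOpen V) (_ : IsAffineOpen U)
      (e : U ≤ f ⁻¹ᵁ V), x ∈ U ∧
        Module.Finite Γ(X, U) (CommRingCat.KaehlerDifferential (f.appLE V U e)) ∧
        Module.Projective Γ(X, U) (CommRingCat.KaehlerDifferential (f.appLE V U e))) :
    FlatMod.IsFinLocFree Ω := isFinLocFree_of_charts Ω fun x => by
  obtain ⟨V, U, hV, hU, e, hx, h1, h2⟩ := h x
  obtain ⟨i⟩ := Chart.nonempty_restrict_iso f hU hV e hd
  exact exists_free_restrict hU _ i hx

theorem kaehler_finite_projective {A B : CommRingCat.{u}} (φ : A ⟶ B)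
    (hs : φ.hom.FormallySmooth) (hft : φ.hom.FiniteType) :
    Module.Finite B (CommRingCat.KaehlerDifferential φ) ∧
      Module.Projective B (CommRingCat.KaehlerDifferential φ) := by
  letI := φ.hom.toAlgebra
  haveI : Algebra.FormallySmooth A B := hs
  haveI : Algebra.EssFiniteType A B :=
    haveI : Algebra.FiniteType A B := hft
    inferInstance
  exact ⟨(inferInstance : Module.Finite B (Ω[B⁄A])), (inferInstance : Module.Projective B (Ω[B⁄A]))⟩

theorem isFinLocFree_of_smooth [Smooth f] (hd : OmegaSh.IsUniversal d) :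
    FlatMod.IsFinLocFree Ω := by
  refine isFinLocFree_of_universal hd fun x => ?_
  obtain ⟨V, U, hV, hU, hx, e⟩ := Chart.exists_chart f x
  have hs := f.smooth_appLE hV hU e
  obtain ⟨h1, h2⟩ := kaehler_finite_projective (f.appLE V U e) hs.formallySmooth
    (RingHom.FiniteType.of_finitePresentation hs.finitePresentation)
  exact ⟨V, U, hV, hU, e, hx, h1, h2⟩

end Groth.Agent.Lib.Kaehler.LocFree
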