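import Groth.Agent.Lib.Dim.Local
import Mathlib.RingTheory.RingHom.StandardSmooth
import Mathlib.RingTheory.RingHom.Etale
import Mathlib.RingTheory.Unramified.LocalStructure
import Mathlib.RingTheory.QuasiFinite.Basic
import Mathlib.RingTheory.Smooth.Flat
import Mathlib.RingTheory.Ideal.GoingDown

/-!
# Dimension of a standard smooth algebra over a field
-/

universe u

open Groth.Agent.Lib.Dim.Basic Groth.Agent.Lib.Dim.Local Cardinal

namespace Groth.Agent.Lib.Kaehler.SmoothDim

variable (k : Type u) [Field k] {A : Type u} [CommRing A] [Algebra k A]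

theorem dimQ_of_minimal {n : ℕ} [Algebra.IsStandardSmoothOfRelativeDimension n k A]
    [Algebra.FiniteType k A] {q : Ideal A} (hq : q ∈ minimalPrimes A) : dimQ k q = n := by
  have : q.IsPrime := hq.1.1
  obtain ⟨g, hg⟩ := Algebra.IsStandardSmoothOfRelativeDimension.exists_etale_mvPolynomial
    (n := n) k A
  let R := MvPolynomial (Fin n) k
  letI : Algebra R A := g.toRingHom.toAlgebra
  haveI : IsScalarTower k R A := IsScalarTower.of_algebraMap_eq fun x => (g.commutes x).symm
  haveI : Algebra.Etale R A := hg
  have hp : q.comap (algebraMap R A) = ⊥ := by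
    haveI : (⊥ : Ideal R).IsPrime := Ideal.isPrime_bot
    by_contra hne
    obtain ⟨Q, hQlt, hQ, -⟩ := Ideal.exists_ideal_lt_liesOver_of_lt (S := A) (p := (⊥ : Ideal R)) q
      (show (⊥ : Ideal R) < q.comap (algebraMap R A) from lt_of_le_of_ne bot_le (Ne.symm hne))
    exact hQlt.not_ge (hq.2 ⟨hQ, bot_le⟩ hQlt.le)
  haveI : Algebra.QuasiFinite R A := inferInstance
  have hinj : Function.Injective (algebraMap R q.ResidueField) := by
    rw [injective_iff_map_eq_zero]
    intro x hx
    rw [IsScalarTower.algebraMap_apply R A q.ResidueField,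
      Ideal.algebraMap_residueField_eq_zero] at hx
    have : x ∈ q.comap (algebraMap R A) := hx
    rwa [hp, Ideal.mem_bot] at this
  haveI : FaithfulSMul R q.ResidueField :=
    (faithfulSMul_iff_algebraMap_injective _ _).mpr hinj
  letI : Algebra (FractionRing R) q.ResidueField := FractionRing.liftAlgebra R q.ResidueField
  haveI : IsScalarTower R (FractionRing R) q.ResidueField :=
    FractionRing.isScalarTower_liftAlgebra R q.ResidueField
  haveI : Algebra.QuasiFinite (FractionRing R) q.ResidueField :=
    Algebra.QuasiFinite.of_restrictScalars R _ _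
  haveI : Module.Finite (FractionRing R) q.ResidueField := .of_quasiFinite
  haveI : Algebra.IsAlgebraic R (FractionRing R) := IsLocalization.isAlgebraic _ (nonZeroDivisors R)
  haveI : Algebra.IsAlgebraic R q.ResidueField :=
    Algebra.IsAlgebraic.trans R (FractionRing R) q.ResidueField
  have h := trdeg_add_eq k R (A := q.ResidueField)
  rw [trdeg_eq_zero (R := R), add_zero, trdeg_residueField,
    MvPolynomial.trdeg_of_isDomain] at h
  simp only [Cardinal.mk_fintype, Fintype.card_fin, Cardinal.lift_natCast] at h
  exact_mod_cast h.symm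

theorem dimAt_eq {n : ℕ} [Algebra.IsStandardSmoothOfRelativeDimension n k A]
    [Algebra.FiniteType k A] (P : Ideal A) [P.IsPrime] : dimAt k P = n := by
  obtain ⟨q, hq, -, he⟩ := exists_minimalPrimes_dimAt_eq k P
  rw [← he, dimQ_of_minimal (n := n) k hq]

end Groth.Agent.Lib.Kaehler.SmoothDim
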