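import Groth.Agent.Lib.Kaehler.AffinePush
import Mathlib.RingTheory.Etale.Kaehler
import Mathlib.RingTheory.Kaehler.TensorProduct
import Mathlib.Algebra.Category.Ring.Constructions

/-!
# Derivations along pushouts and formally étale maps of rings
-/

universe u

open CategoryTheory CategoryTheory.Limits TensorProduct

namespace Groth.Agent.Lib.Kaehler.Alg

open Groth.Agent.Lib.Kaehler.AffinePush

variable {A B A' B' : CommRingCat.{u}} {φ : A ⟶ B} {φ' : A' ⟶ B'} {α : A ⟶ A'} {ψ : B ⟶ B'}

theorem d_zero {M : ModuleCat.{u} B'} (D : M.Derivation φ') : D.d 0 = 0 := by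
  have := D.d_map 0
  rwa [map_zero] at this

theorem derRestrictBijective_of_isPushout (h : IsPushout φ α ψ φ') :
    DerRestrictBijective φ φ' ψ := by
  intro M δ hmul hbase
  letI := φ.hom.toAlgebra
  letI := α.hom.toAlgebra
  letI := ψ.hom.toAlgebra
  letI := φ'.hom.toAlgebra
  letI := (φ ≫ ψ).hom.toAlgebra
  haveI : IsScalarTower A B B' := IsScalarTower.of_algebraMap_eq' rfl
  haveI : IsScalarTower A A' B' := IsScalarTower.of_algebraMap_eq' congr(($(h.w)).hom)
  haveI hp : Algebra.IsPushout A A' B B' := CommRingCat.isPushout_iff_isPushout.mp h.flip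
  letI : Module B M := Module.compHom M ψ.hom
  haveI : IsScalarTower B B' M := IsScalarTower.of_algebraMap_smul fun _ _ => rfl
  letI : Module A M := Module.compHom M (φ ≫ ψ).hom
  haveI : IsScalarTower A B M := IsScalarTower.of_algebraMap_smul fun _ _ => rfl
  let D₀ : Derivation A B M := Derivation.mk'
    { toFun := δ
      map_add' := map_add δ
      map_smul' := fun a b => by
        change δ (φ a * b) = ψ (φ a) • δ b
        rw [hmul, hbase, smul_zero, add_zero] } hmul
  let L : B' ⊗[B] Ω[B⁄A] →ₗ[B'] M := D₀.liftKaehlerDifferential.liftBaseChange B'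
  let e := KaehlerDifferential.tensorKaehlerEquiv A A' B B'
  let D : M.Derivation φ' := ModuleCat.Derivation.mk
    (fun b => L (e.symm (KaehlerDifferential.D A' B' b)))
    (fun b b' => by rw [map_add, map_add, map_add])
    (fun b b' => by rw [Derivation.leibniz, map_add, map_smul, map_smul, map_add, map_smul, map_smul])
    (fun a => by
      change L (e.symm (KaehlerDifferential.D A' B' (algebraMap A' B' a))) = 0
      rw [Derivation.map_algebraMap, map_zero, map_zero])
  have hD : ∀ b, D.d (ψ b) = δ b := by
    intro b
    change L (e.symm (KaehlerDifferential.D A' B' (algebraMap B B' b))) = δ b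
    have : e.symm (KaehlerDifferential.D A' B' (algebraMap B B' b)) =
        1 ⊗ₜ KaehlerDifferential.D A B b := by
      rw [LinearEquiv.symm_apply_eq, KaehlerDifferential.tensorKaehlerEquiv_tmul_D, one_smul]
    rw [this]
    simp only [L, LinearMap.liftBaseChange_tmul, one_smul, Derivation.liftKaehlerDifferential_comp_D]
    rfl
  refine ⟨D, hD, fun E hE => ?_⟩
  refine AffineUniv.modDer_ext φ' fun x => ?_
  induction x using hp.1.inductionOn with
  | zero => rw [d_zero, d_zero]
  | tmul b => exact (hE b).trans (hD b).symm
  | smul a x hx =>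
    rw [Algebra.smul_def]
    change E.d (φ' a * x) = D.d (φ' a * x)
    rw [ModuleCat.Derivation.d_mul, ModuleCat.Derivation.d_mul, ModuleCat.Derivation.d_map,
      ModuleCat.Derivation.d_map, hx]
  | add x y hx hy => rw [ModuleCat.Derivation.d_add, ModuleCat.Derivation.d_add, hx, hy]

theorem derRestrictBijective_of_formallyEtale (w : φ ≫ ψ = α ≫ φ') (hψ : ψ.hom.FormallyEtale)
    (hα : α.hom.FormallyUnramified) : DerRestrictBijective φ φ' ψ := by
  intro M δ hmul hbase
  letI := φ.hom.toAlgebra
  letI := α.hom.toAlgebra
  letI := ψ.hom.toAlgebra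
  letI := φ'.hom.toAlgebra
  letI := (φ ≫ ψ).hom.toAlgebra
  haveI : IsScalarTower A B B' := IsScalarTower.of_algebraMap_eq' rfl
  haveI : IsScalarTower A A' B' := IsScalarTower.of_algebraMap_eq' congr(($w).hom)
  haveI : Algebra.FormallyEtale B B' := hψ
  haveI : Algebra.FormallyUnramified A A' := hα
  letI : Module B M := Module.compHom M ψ.hom
  haveI : IsScalarTower B B' M := IsScalarTower.of_algebraMap_smul fun _ _ => rfl
  letI : Module A M := Module.compHom M (φ ≫ ψ).hom
  haveI : IsScalarTower A B M := IsScalarTower.of_algebraMap_smul fun _ _ => rfl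
  haveI : IsScalarTower A B' M := IsScalarTower.of_algebraMap_smul fun _ _ => rfl
  letI : Module A' M := Module.compHom M φ'.hom
  haveI : IsScalarTower A A' M := IsScalarTower.of_algebraMap_smul fun a m => by
    change φ' (α a) • m = ψ (φ a) • m
    rw [← ConcreteCategory.comp_apply, ← w, ConcreteCategory.comp_apply]
  let D₀ : Derivation A B M := Derivation.mk'
    { toFun := δ
      map_add' := map_add δ
      map_smul' := fun a b => by
        change δ (φ a * b) = ψ (φ a) • δ b
        rw [hmul, hbase, smul_zero, add_zero] } hmul
  let e := KaehlerDifferential.tensorKaehlerEquivOfFormallyEtale A B B'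
  let L : Ω[B'⁄A] →ₗ[B'] M := (D₀.liftKaehlerDifferential.liftBaseChange B') ∘ₗ e.symm.toLinearMap
  let D' : Derivation A B' M := (KaehlerDifferential.linearMapEquivDerivation A B') L
  have kill : ∀ a, D' (φ' a) = 0 := fun a => by
    let P : Derivation A A' M := Derivation.mk'
      (D'.toLinearMap.comp (IsScalarTower.toAlgHom A A' B').toLinearMap) fun a c => by
        change D' (φ' (a * c)) = φ' a • D' (φ' c) + φ' c • D' (φ' a)
        rw [map_mul, D'.leibniz]
    have : P.liftKaehlerDifferential (KaehlerDifferential.D A A' a) = P a :=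
      P.liftKaehlerDifferential_comp_D a
    rw [Subsingleton.elim (KaehlerDifferential.D A A' a) 0, map_zero] at this
    exact this.symm
  have hD : ∀ b, D' (ψ b) = δ b := fun b => by
    change D₀.liftKaehlerDifferential.liftBaseChange B'
      (e.symm (KaehlerDifferential.D A B' (algebraMap B B' b))) = δ b
    rw [KaehlerDifferential.tensorKaehlerEquivOfFormallyEtale_symm_D_algebraMap,
      LinearMap.liftBaseChange_tmul, one_smul, Derivation.liftKaehlerDifferential_comp_D]
    rfl
  let D : M.Derivation φ' := ModuleCat.Derivation.mk (fun b => D' b) (map_add D') D'.leibniz kill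
  refine ⟨D, hD, fun E hE => ?_⟩
  let E' : Derivation A B' M := Derivation.mk'
    { toFun := E.d
      map_add' := E.d_add
      map_smul' := fun a x => by
        rw [Algebra.smul_def, ModuleCat.Derivation.d_mul]
        have : algebraMap A B' a = φ' (α a) := congr(($w) a)
        rw [this, ModuleCat.Derivation.d_map, smul_zero, add_zero, ← this]
        rfl } E.d_mul
  have : E' = D' := by
    rw [← (KaehlerDifferential.linearMapEquivDerivation A B').apply_symm_apply E']
    refine congrArg (KaehlerDifferential.linearMapEquivDerivation A B') ?_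
    refine LinearMap.ext fun x => ?_
    obtain ⟨y, rfl⟩ := e.surjective x
    induction y with
    | zero => simp only [map_zero]
    | add y z hy hz => simp only [map_add, hy, hz]
    | tmul c y =>
      induction KaehlerDifferential.span_range_derivation A B ▸ Submodule.mem_top (x := y)
        using Submodule.span_induction with
      | mem y hy =>
        obtain ⟨b, rfl⟩ := hy
        have : e (c ⊗ₜ KaehlerDifferential.D A B b) = c • KaehlerDifferential.D A B' (ψ b) := by
          rw [KaehlerDifferential.tensorKaehlerEquivOfFormallyEtale_apply,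
            KaehlerDifferential.mapBaseChange_tmul, KaehlerDifferential.map_D]
          rfl
        rw [this, map_smul, map_smul]
        congr 1
        refine ((E'.liftKaehlerDifferential_comp_D _).trans ?_)
        exact (hE b).trans (hD b).symm
      | zero => simp only [tmul_zero, map_zero]
      | add y z _ _ hy hz => simp only [tmul_add, map_add, hy, hz]
      | smul r y _ hy =>
        rw [← smul_tmul, Algebra.smul_def, ← smul_eq_mul, ← TensorProduct.smul_tmul', map_smul,
          map_smul, map_smul, hy]
  refine AffineUniv.modDer_ext φ' fun x => ?_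
  exact congrArg (fun P : Derivation A B' M => P x) this

end Groth.Agent.Lib.Kaehler.Alg
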