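import Groth.Agent.Lib.Kaehler.Chart
import Groth.Agent.Lib.Kaehler.Alg
import Mathlib.AlgebraicGeometry.Morphisms.Flat
import Mathlib.AlgebraicGeometry.Morphisms.Etale

/-!
# Base change and étale invariance of the module of differentials
-/

universe u

open CategoryTheory CategoryTheory.Limits AlgebraicGeometry TopologicalSpace Opposite

namespace Groth.Agent.Lib.Kaehler.BaseChange

open OmegaSh Groth.Agent.Lib.Kaehler.Basic

variable {X Y X' Y' : Scheme.{u}}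

theorem exists_affine_le {X : Scheme.{u}} {x : X} {W : X.Opens} (hx : x ∈ W) :
    ∃ U : X.Opens, IsAffineOpen U ∧ x ∈ U ∧ U ≤ W := by
  obtain ⟨_, ⟨U, hU, rfl⟩, hxU, hUW⟩ :=
    X.isBasis_affineOpens.exists_subset_of_mem_open hx W.isOpen
  exact ⟨U, hU, hxU, hUW⟩

theorem isIso_of_isPullback {f : X ⟶ Y} {g : Y' ⟶ Y} {g' : X' ⟶ X} {f' : X' ⟶ Y'}
    (H : IsPullback g' f' f g) {Ω : X.Modules} {d : Der f Ω} (hd : IsUniversal d)
    {Ω' : X'.Modules} {d' : Der f' Ω'} (hd' : IsUniversal d')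
    (c : (Scheme.Modules.pullback g').obj Ω ⟶ Ω') (hc : IsDiffCompat g' d d' c) : IsIso c := by
  refine Chart.isIso_of_charts f H.w.symm hd hd' c hc fun x' => ?_
  obtain ⟨V, U, hV, hU, hxU, e⟩ := Chart.exists_chart f (g' x')
  have hx : f' x' ∈ g ⁻¹ᵁ V := by
    change g (f' x') ∈ V
    rw [← Scheme.Hom.comp_apply, ← H.w, Scheme.Hom.comp_apply]
    exact e hxU
  obtain ⟨V', hV', hxV', eV⟩ := exists_affine_le hx
  have hU' : IsAffineOpen (g' ⁻¹ᵁ U ⊓ f' ⁻¹ᵁ V') := by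
    have : IsAffine _ := hU
    have : IsAffine _ := hV
    have : IsAffine _ := hV'
    exact .of_isIso (Scheme.Hom.isPullback_resLE H eV e rfl).isoPullback.hom
  refine ⟨V, U, hV, hU, e, V', _, hV', hU', inf_le_right, inf_le_left, eV, ⟨hxU, hxV'⟩, ?_⟩
  exact Alg.derRestrictBijective_of_isPushout ((isIso_pushoutSection_iff H eV e rfl).mp
    (isIso_pushoutSection_of_isAffineOpen H eV e rfl hV hV' hU))

theorem isIso_of_etale {f : X ⟶ Y} {f' : X' ⟶ Y'} {h : X' ⟶ X} {b : Y' ⟶ Y} [Etale h] [Etale b]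
    (hsq : f' ≫ b = h ≫ f) {Ω : X.Modules} {d : Der f Ω} (hd : IsUniversal d)
    {Ω' : X'.Modules} {d' : Der f' Ω'} (hd' : IsUniversal d')
    (c : (Scheme.Modules.pullback h).obj Ω ⟶ Ω') (hc : IsDiffCompat h d d' c) : IsIso c := by
  refine Chart.isIso_of_charts f hsq hd hd' c hc fun x' => ?_
  obtain ⟨V, U, hV, hU, hxU, e⟩ := Chart.exists_chart f (h x')
  have hx : f' x' ∈ b ⁻¹ᵁ V := by
    change b (f' x') ∈ V
    rw [← Scheme.Hom.comp_apply, hsq, Scheme.Hom.comp_apply]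
    exact e hxU
  obtain ⟨V', hV', hxV', eV⟩ := exists_affine_le hx
  obtain ⟨U', hU', hxU', le⟩ := exists_affine_le (W := h ⁻¹ᵁ U ⊓ f' ⁻¹ᵁ V') (x := x') ⟨hxU, hxV'⟩
  have e' : U' ≤ f' ⁻¹ᵁ V' := le.trans inf_le_right
  have eU : U' ≤ h ⁻¹ᵁ U := le.trans inf_le_left
  refine ⟨V, U, hV, hU, e, V', U', hV', hU', e', eU, eV, hxU', ?_⟩
  refine Alg.derRestrictBijective_of_formallyEtale (Chart.appLE_sq f e hsq eU eV e') ?_
    (Scheme.Hom.etale_appLE b hV hV' eV).formallyUnramified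
  letI := (h.appLE U U' eU).hom.toAlgebra
  haveI : Algebra.Etale Γ(X, U) Γ(X', U') := Scheme.Hom.etale_appLE h hU hU' eU
  exact (inferInstance : Algebra.FormallyEtale Γ(X, U) Γ(X', U'))

end Groth.Agent.Lib.Kaehler.BaseChange
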