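import Groth.Agent.Lib.Kaehler.SmoothDim
import Groth.Agent.Lib.Kaehler.LocFree
import Groth.Agent.Lib.FibreDim.Chart
import Mathlib.RingTheory.Smooth.StandardSmoothCotangent

/-!
# Standard smooth charts: free differentials of the right rank, fibre dimension
-/

universe u

open CategoryTheory AlgebraicGeometry TopologicalSpace

namespace Groth.Agent.Lib.Kaehler.SmoothChart

variable {X Y : Scheme.{u}} (f : X ⟶ Y)

theorem exists_std_chart [Smooth f] (x : X) :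
    ∃ (n : ℕ) (V : Y.Opens) (U : X.Opens) (_ : IsAffineOpen V) (_ : IsAffineOpen U)
      (e : U ≤ f ⁻¹ᵁ V),
      x ∈ U ∧ RingHom.IsStandardSmoothOfRelativeDimension n (f.appLE V U e).hom := by
  obtain ⟨V, hV, U, hU, hx, e, hf⟩ := Smooth.exists_isStandardSmooth f x
  letI := (f.appLE V U e).hom.toAlgebra
  obtain ⟨ι, σ, h1, h2, ⟨P⟩⟩ := (hf : Algebra.IsStandardSmooth Γ(Y, V) Γ(X, U)).out
  exact ⟨P.dimension, V, U, hV, hU, e, hx, ⟨ι, σ, h1, h2, P, rfl⟩⟩

variable {f}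

theorem fibreDimAt_of_chart {n : ℕ} {V : Y.Opens} (hV : IsAffineOpen V) {U : X.Opens}
    (hU : IsAffineOpen U) (e : U ≤ f ⁻¹ᵁ V)
    (hs : RingHom.IsStandardSmoothOfRelativeDimension n (f.appLE V U e).hom) {x : X} (hx : x ∈ U) :
    FlatMor.fibreDimAt f x = (n : WithBot ℕ∞) := by
  letI := (f.appLE V U e).hom.toAlgebra
  haveI : Algebra.IsStandardSmoothOfRelativeDimension n Γ(Y, V) Γ(X, U) := hs
  haveI := Algebra.IsStandardSmoothOfRelativeDimension.isStandardSmooth (R := Γ(Y, V))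
    (S := Γ(X, U)) n
  obtain ⟨P, hP⟩ := Chart.exists_fromSpec_eq hU hx
  rw [← hP, FibreDim.Chart.fibreDimAt_eq_dimAt f hV.fromSpec hU.fromSpec
    (hV.SpecMap_appLE_fromSpec f hU e) P]
  norm_cast
  exact SmoothDim.dimAt_eq _ _

theorem nonempty_restrict_free {n : ℕ} {V : Y.Opens} (hV : IsAffineOpen V) {U : X.Opens}
    (hU : IsAffineOpen U) (e : U ≤ f ⁻¹ᵁ V)
    (hs : RingHom.IsStandardSmoothOfRelativeDimension n (f.appLE V U e).hom)
    {Ω : X.Modules} {d : OmegaSh.Der f Ω} (hd : OmegaSh.IsUniversal d) [Nonempty U] :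
    Nonempty (Ω.restrict U.ι ≅ FlatMod.freeMod (↑U) n) := by
  letI := (f.appLE V U e).hom.toAlgebra
  haveI : Algebra.IsStandardSmoothOfRelativeDimension n Γ(Y, V) Γ(X, U) := hs
  haveI := Algebra.IsStandardSmoothOfRelativeDimension.isStandardSmooth (R := Γ(Y, V))
    (S := Γ(X, U)) n
  haveI : Nontrivial Γ(X, U) := by
    obtain ⟨⟨y, hy⟩⟩ := ‹Nonempty U›
    exact (X.presheaf.germ U y hy).hom.domain_nontrivial
  haveI : Algebra.FiniteType Γ(Y, V) Γ(X, U) := inferInstance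
  have hr := Algebra.IsStandardSmoothOfRelativeDimension.rank_kaehlerDifferential
    (R := Γ(Y, V)) (S := Γ(X, U)) n
  haveI : Module.Free Γ(X, U) (Ω[Γ(X, U)⁄Γ(Y, V)]) := inferInstance
  have b : Module.Basis (Fin n) Γ(X, U) (CommRingCat.KaehlerDifferential (f.appLE V U e)) :=
    (Module.finBasisOfFinrankEq Γ(X, U) (Ω[Γ(X, U)⁄Γ(Y, V)]) (Module.finrank_eq_of_rank_eq hr))
  obtain ⟨i⟩ := Chart.nonempty_restrict_iso f hU hV e hd
  obtain ⟨j⟩ := LocFree.free_nhd_of_chart hU.fromSpec (i ≪≫ LocFree.tildeFreeIso b)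
  have : hU.fromSpec.opensRange = U := hU.opensRange_fromSpec
  rw [this] at j
  exact ⟨j⟩

theorem exists_free_fibreDim [Smooth f] {Ω : X.Modules} {d : OmegaSh.Der f Ω}
    (hd : OmegaSh.IsUniversal d) (x : X) :
    ∃ (U : X.Opens) (n : ℕ), x ∈ U ∧ Nonempty (Ω.restrict U.ι ≅ FlatMod.freeMod (↑U) n) ∧
      FlatMor.fibreDimAt f x = (n : WithBot ℕ∞) := by
  obtain ⟨n, V, U, hV, hU, e, hx, hs⟩ := exists_std_chart f x
  haveI : Nonempty U := ⟨⟨x, hx⟩⟩
  exact ⟨U, n, hx, nonempty_restrict_free hV hU e hs hd, fibreDimAt_of_chart hV hU e hs hx⟩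

end Groth.Agent.Lib.Kaehler.SmoothChart
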