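import Groth.Prelude.Def_Omega4
import Groth.Agent.Lib.ClSub.Sections
import Groth.Agent.Lib.Kaehler.Chart
import Mathlib.AlgebraicGeometry.Morphisms.Flat
import Mathlib.RingTheory.Localization.Ideal

/-!
# The ideal of the diagonal is generated near the diagonal by the sections `pr₂♯ s - pr₁♯ s`
-/

universe u

open CategoryTheory CategoryTheory.Limits AlgebraicGeometry TopologicalSpace Opposite
open scoped TensorProduct

namespace Groth.Agent.Lib.Kaehler.DiagIdeal

open OmegaSh

variable {X Y : Scheme.{u}} (f : X ⟶ Y) {U : X.Opens} {V : Y.Opens}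

theorem isAffineOpen_diagNbhd (hU : IsAffineOpen U) (hV : IsAffineOpen V) (e : U ≤ f ⁻¹ᵁ V) :
    IsAffineOpen (diagNbhd f U) := by
  have : IsAffine _ := hU
  have : IsAffine _ := hV
  exact .of_isIso (Scheme.Hom.isPullback_resLE (IsPullback.of_hasPullback f f) e e
    (UY := diagNbhd f U) rfl).isoPullback.hom

/-- `Δ♯` followed by restriction to `U`. -/
noncomputable def diagRes (U : X.Opens) : Γ(pullback f f, diagNbhd f U) →+* Γ(X, U) :=
  ((pullback.diagonal f).app (diagNbhd f U) ≫
    X.presheaf.map (homOfLE (le_preimage_diagNbhd f U)).op).hom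

theorem diagRes_fst (U : X.Opens) (a : Γ(X, U)) :
    diagRes f U ((pullback.fst f f).appLE U (diagNbhd f U) inf_le_left a) = a :=
  res_diagonal_app_appLE f _ (pullback.diagonal_fst f) U _ a

theorem diagRes_snd (U : X.Opens) (a : Γ(X, U)) :
    diagRes f U ((pullback.snd f f).appLE U (diagNbhd f U) inf_le_right a) = a :=
  res_diagonal_app_appLE f _ (pullback.diagonal_snd f) U _ a

theorem sub_fst_mem_span (hU : IsAffineOpen U) (hV : IsAffineOpen V) (e : U ≤ f ⁻¹ᵁ V)
    (c : Γ(pullback f f, diagNbhd f U)) :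
    c - (pullback.fst f f).appLE U (diagNbhd f U) inf_le_left (diagRes f U c) ∈
      Ideal.span (Set.range (diagDiff f U)) := by
  have H := IsPullback.of_hasPullback f f
  have hp := (isIso_pushoutSection_iff H (UY := diagNbhd f U) e e rfl).mp
    (isIso_pushoutSection_of_isAffineOpen H e e rfl hV hU hU)
  let φ := f.appLE V U e
  letI := φ.hom.toAlgebra
  let ε := (CommRingCat.isPushout_tensorProduct Γ(Y, V) Γ(X, U) Γ(X, U)).isoIsPushout _ _ hp
  have hl : ∀ a : Γ(X, U), ε.hom (a ⊗ₜ[Γ(Y, V)] (1 : Γ(X, U))) =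
      (pullback.fst f f).appLE U (diagNbhd f U) inf_le_left a := fun a =>
    congr($((CommRingCat.isPushout_tensorProduct Γ(Y, V) Γ(X, U) Γ(X, U)).inl_isoIsPushout_hom _ _ hp) a)
  have hr : ∀ a : Γ(X, U), ε.hom ((1 : Γ(X, U)) ⊗ₜ[Γ(Y, V)] a) =
      (pullback.snd f f).appLE U (diagNbhd f U) inf_le_right a := fun a =>
    congr($((CommRingCat.isPushout_tensorProduct Γ(Y, V) Γ(X, U) Γ(X, U)).inr_isoIsPushout_hom _ _ hp) a)
  obtain ⟨t, rfl⟩ := (ConcreteCategory.bijective_of_isIso ε.hom).2 c
  induction t using TensorProduct.induction_on with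
  | zero => simp only [map_zero, sub_zero, Ideal.zero_mem]
  | add x y hx hy =>
    rw [map_add, map_add, map_add, add_sub_add_comm]
    exact Ideal.add_mem _ hx hy
  | tmul a b =>
    have : (a ⊗ₜ[Γ(Y, V)] b) = (a ⊗ₜ[Γ(Y, V)] (1 : Γ(X, U))) * ((1 : Γ(X, U)) ⊗ₜ[Γ(Y, V)] b) := by
      rw [Algebra.TensorProduct.tmul_mul_tmul, mul_one, one_mul]
    rw [this, map_mul, hl, hr, map_mul, diagRes_fst, diagRes_snd, map_mul, ← mul_sub]
    exact Ideal.mul_mem_left _ _ (Ideal.subset_span ⟨b, rfl⟩)

variable [QuasiSeparated f]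

theorem ideal_le_span (hU : IsAffineOpen U) (hV : IsAffineOpen V) (e : U ≤ f ⁻¹ᵁ V)
    (c : Γ(pullback f f, diagNbhd f U))
    (hc : c ∈ (pullback.diagonal f).ker.ideal ⟨diagNbhd f U, isAffineOpen_diagNbhd f hU hV e⟩) :
    c ∈ Ideal.span (Set.range (diagDiff f U)) := by
  rw [Scheme.Hom.ker_apply, RingHom.mem_ker] at hc
  have h0 : diagRes f U c = 0 := by
    change X.presheaf.map _ ((pullback.diagonal f).app (diagNbhd f U) c) = 0
    erw [hc, map_zero]
  have := sub_fst_mem_span f hU hV e c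
  rwa [h0, map_zero, sub_zero] at this

omit [QuasiSeparated f] in
theorem app_res {P : Scheme.{u}} {M N : P.Modules} (u : M ⟶ N) {A B : P.Opens} (e : B ≤ A)
    (x : Γ(M, A)) :
    u.app B (M.presheaf.map (homOfLE e).op x) = N.presheaf.map (homOfLE e).op (u.app A x) :=
  congr($(u.mapPresheaf.naturality (homOfLE e).op) x)

/-- A map out of the ideal of the diagonal into a module supported on it is determined by the
sections `idealLift f U s`. -/
theorem hom_ext_idealLift {G : X.Modules}
    {u v : ClSub.idealMod (pullback.diagonal f).ker ⟶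
      (Scheme.Modules.pushforward (pullback.diagonal f)).obj G}
    (h : ∀ (U : X.Opens) (s : Γ(X, U)),
      u.app (diagNbhd f U) (idealLift f U s) = v.app (diagNbhd f U) (idealLift f U s)) : u = v := by
  let I := (pullback.diagonal f).ker
  refine Scheme.Modules.hom_ext _ _ fun W => ?_
  ext i
  refine Affine.modules_section_ext G (U := pullback.diagonal f ⁻¹ᵁ W) fun x hx => ?_
  obtain ⟨V, U, hV, hU, hxU, e⟩ := Chart.exists_chart f x
  let W₀ : (pullback f f).affineOpens := ⟨diagNbhd f U, isAffineOpen_diagNbhd f hU hV e⟩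
  obtain ⟨g, hgW, hgx⟩ := IsAffineOpen.exists_basicOpen_le W₀.2
    (V := W) ⟨pullback.diagonal f x, hx⟩ (le_preimage_diagNbhd f U hxU)
  refine ⟨pullback.diagonal f ⁻¹ᵁ ((pullback f f).basicOpen g),
    (pullback.diagonal f).preimage_mono hgW, hgx, ?_⟩
  change ((Scheme.Modules.pushforward (pullback.diagonal f)).obj G).presheaf.map (homOfLE hgW).op
      (u.app W i) =
    ((Scheme.Modules.pushforward (pullback.diagonal f)).obj G).presheaf.map (homOfLE hgW).op
      (v.app W i)
  rw [← app_res, ← app_res]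
  generalize (ClSub.idealMod I).presheaf.map (homOfLE hgW).op i = j
  -- sections over the basic open come from the chart
  have hspan : ∀ c ∈ Ideal.span (Set.range (diagDiff f U)),
      ∃ k : Γ(ClSub.idealMod I, W₀.1),
        (ClSub.idealModι I).app W₀.1 k = strSect _ _ c ∧ u.app W₀.1 k = v.app W₀.1 k := by
    intro c hc
    induction hc using Submodule.span_induction with
    | mem c hc => obtain ⟨s, rfl⟩ := hc; exact ⟨idealLift f U s, ι_idealLift f U s, h U s⟩
    | zero => exact ⟨0, by rw [map_zero, map_zero], by rw [map_zero, map_zero]⟩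
    | add a b _ _ ha hb =>
      obtain ⟨k, hk, hk'⟩ := ha
      obtain ⟨l, hl, hl'⟩ := hb
      exact ⟨k + l, by rw [map_add, map_add, hk, hl], by rw [map_add, map_add, hk', hl']⟩
    | smul r a _ ha =>
      obtain ⟨k, hk, hk'⟩ := ha
      exact ⟨r • k, by rw [Scheme.Modules.Hom.app_smul, hk, smul_eq_mul, strSect_mul],
        by rw [Scheme.Modules.Hom.app_smul, Scheme.Modules.Hom.app_smul, hk']⟩
  let Wg : (pullback f f).affineOpens := (pullback f f).affineBasicOpen g
  have hj := (ClSub.Sections.mem_range_idealModι_app_affine_iff I Wg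
    (fnSect _ _ ((ClSub.idealModι I).app Wg.1 j))).mp ⟨j, rfl⟩
  haveI := W₀.2.isLocalization_basicOpen g
  rw [← I.map_ideal_basicOpen W₀ g] at hj
  obtain ⟨⟨⟨c, hc⟩, ⟨_, n, rfl⟩⟩, hcn⟩ :=
    (IsLocalization.mem_map_algebraMap_iff (.powers g)
      Γ(pullback f f, (pullback f f).basicOpen g)).mp hj
  obtain ⟨k, hk, hk'⟩ := hspan c (ideal_le_span f hU hV e c hc)
  have heq : algebraMap Γ(pullback f f, W₀.1) Γ(pullback f f, (pullback f f).basicOpen g) (g ^ n) • j =
      (ClSub.idealMod I).presheaf.map (homOfLE ((pullback f f).basicOpen_le g)).op k := by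
    apply ClSub.Sections.idealModι_app_injective
    rw [Scheme.Modules.Hom.app_smul, app_res, hk]
    exact (mul_comm _ _).trans hcn
  have h1 := congrArg (u.app ((pullback f f).basicOpen g)) heq
  have h2 := congrArg (v.app ((pullback f f).basicOpen g)) heq
  rw [Scheme.Modules.Hom.app_smul, app_res] at h1 h2
  rw [hk'] at h1
  exact (IsLocalization.map_units Γ(pullback f f, (pullback f f).basicOpen g)
    (⟨g ^ n, n, rfl⟩ : Submonoid.powers g)).smul_left_cancel.mp (h1.trans h2.symm)

end Groth.Agent.Lib.Kaehler.DiagIdeal
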