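import Groth.Agent.Lib.Kaehler.Exists
import Groth.Agent.Lib.Kaehler.DiagIdeal
import Groth.Agent.Lib.Kaehler.BaseChange

/-!
# `OmegaSh.dOmega f` is the universal derivation
-/

universe u

open CategoryTheory CategoryTheory.Limits AlgebraicGeometry TopologicalSpace Opposite

namespace Groth.Agent.Lib.Kaehler.DOmega

open OmegaSh Groth.Agent.Lib.Kaehler.Basic

/-- An isomorphism as compatible map makes transfer of derivations bijective. -/
theorem derPush_bijective_of_isIso {X Y X' Y' : Scheme.{u}} {f : X ⟶ Y} {f' : X' ⟶ Y'}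
    {h : X' ⟶ X} {b : Y' ⟶ Y} (hsq : f' ≫ b = h ≫ f) {Ω₁ : X.Modules} {Ω₂ : X'.Modules}
    {d₁ : Der f Ω₁} {d₂ : Der f' Ω₂} (hd₁ : IsUniversal d₁) (hd₂ : IsUniversal d₂)
    (c : (Scheme.Modules.pullback h).obj Ω₁ ⟶ Ω₂) [IsIso c] (hc : IsDiffCompat h d₁ d₂ c)
    (G : X'.Modules) :
    Function.Bijective (derPush (f := f) (f' := f') h b hsq (G := G)) := by
  let adj := Scheme.Modules.pullbackPushforwardAdjunction h
  rw [isUniversal_iff] at hd₁ hd₂
  have h2 := (hd₁ ((Scheme.Modules.pushforward h).obj G)).comp
    ((adj.homEquiv Ω₁ G).bijective.comp ((asIso c).homFromEquiv (Z := G)).symm.bijective)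
  have h3 : (derPush (f := f) h b hsq) ∘ (fun α : Ω₂ ⟶ G => derComp d₂ α) =
      (fun α => derComp d₁ α) ∘ adj.homEquiv Ω₁ G ∘ ((asIso c).homFromEquiv (Z := G)).symm := by
    funext α
    change derPush h b hsq (derComp d₂ α) = derComp d₁ (adj.homEquiv Ω₁ G (c ≫ α))
    rw [derPush_derComp, ← (isDiffCompat_iff hsq d₁ d₂ c).mp hc, derComp_comp,
      Adjunction.homEquiv_naturality_right]
  rw [← h3] at h2
  exact (Function.Bijective.of_comp_iff _ (hd₂ G)).mp h2

variable {X Y : Scheme.{u}} (f : X ⟶ Y)

theorem res_app_congr (U : X.Opens) {W : X.Opens} (e : W ≤ U) {G : X.Modules} {D : Der f G}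
    (s : Γ(X, U)) : G.presheaf.map (homOfLE e).op (D.app U s) =
      D.app W (X.presheaf.map (homOfLE e).op s) :=
  (der_app_map D e s).symm

/-- The derivation of `O_{X ×_Y X}` relative to the first projection pinned by `D (pr₂♯ s) = d s`. -/
theorem exists_diagDer {Ω : X.Modules} (d : Der f Ω) :
    ∃ D : Der (pullback.fst f f) ((Scheme.Modules.pushforward (pullback.diagonal f)).obj Ω),
      ∀ (U : X.Opens) (s : Γ(X, U)),
        D.app (pullback.snd f f ⁻¹ᵁ U) ((pullback.snd f f).app U s) =
          d.app ((pullback.diagonal f ≫ pullback.snd f f) ⁻¹ᵁ U)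
            ((pullback.diagonal f ≫ pullback.snd f f).app U s) := by
  obtain ⟨Ω₀, d₀, h₀⟩ := Exists.exists_isUniversal f
  obtain ⟨Ω₁, d₁, h₁⟩ := Exists.exists_isUniversal (pullback.fst f f)
  have H : IsPullback (pullback.snd f f) (pullback.fst f f) f f :=
    (IsPullback.of_hasPullback f f).flip
  obtain ⟨c, hc⟩ := (existsUnique_diffCompat H.w.symm h₀ d₁).exists
  have : IsIso c := BaseChange.isIso_of_isPullback H h₀ h₁ c hc
  obtain ⟨D, hD⟩ := (derPush_bijective_of_isIso H.w.symm h₀ h₁ c hc
    ((Scheme.Modules.pushforward (pullback.diagonal f)).obj Ω)).2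
      (derComp (derPush (pullback.diagonal f ≫ pullback.snd f f) (𝟙 Y)
          (by rw [Category.comp_id, pullback.diagonal_snd, Category.id_comp]) d)
        ((Scheme.Modules.pushforwardComp _ _).inv.app Ω))
  exact ⟨D, fun U s => congrArg (fun E : Der f _ => E.app U s) hD⟩

theorem diagonal_app_idealModι (W : (pullback f f).Opens)
    (i : Γ(ClSub.idealMod (pullback.diagonal f).ker, W)) :
    (pullback.diagonal f).app W (idealSect (pullback.diagonal f).ker W i) = 0 := by
  have h := (ClSub.Sections.mem_range_idealModι_app_iff (pullback.diagonal f).ker W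
    (idealSect (pullback.diagonal f).ker W i)).mp ⟨i, rfl⟩
  have key : ∀ (q : X ⟶ pullback f f), (pullback.diagonal f).toImage ≫
      (pullback.diagonal f).ker.subschemeι = q →
      q.app W (idealSect (pullback.diagonal f).ker W i) = 0 := by
    rintro q rfl
    rw [Scheme.Hom.comp_app]
    erw [ConcreteCategory.comp_apply]
    erw [h]
    exact map_zero _
  exact key _ (pullback.diagonal f).toImage_imageι

theorem push_linear {G : X.Modules}
    (D : Der (pullback.fst f f) ((Scheme.Modules.pushforward (pullback.diagonal f)).obj G))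
    (W : (pullback f f).Opens) (r : Γ(pullback f f, W))
    (k : Γ(ClSub.idealMod (pullback.diagonal f).ker, W)) :
    D.app W (idealSect (pullback.diagonal f).ker W (r • k)) =
      r • D.app W (idealSect (pullback.diagonal f).ker W k) := by
  have h : idealSect (pullback.diagonal f).ker W (r • k) =
      r * idealSect (pullback.diagonal f).ker W k := by
    rw [idealSect_apply, Scheme.Modules.Hom.app_smul]
    rfl
  rw [h, der_app_mul]
  have h0 : ∀ x : Γ((Scheme.Modules.pushforward (pullback.diagonal f)).obj G, W),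
      idealSect (pullback.diagonal f).ker W k • x = 0 := by
    intro x
    change (pullback.diagonal f).app W (idealSect (pullback.diagonal f).ker W k) •
      (show Γ(G, pullback.diagonal f ⁻¹ᵁ W) from x) = 0
    rw [diagonal_app_idealModι, zero_smul]
  rw [h0, add_zero]

/-- A derivation with values in a module supported on the diagonal is linear on the ideal. -/
noncomputable def linOnIdeal {G : X.Modules}
    (D : Der (pullback.fst f f) ((Scheme.Modules.pushforward (pullback.diagonal f)).obj G)) :
    ClSub.idealMod (pullback.diagonal f).ker ⟶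
      (Scheme.Modules.pushforward (pullback.diagonal f)).obj G :=
  ⟨PresheafOfModules.homMk
    { app := fun W => AddCommGrpCat.ofHom
        ((D.app W.unop).comp (idealSect (pullback.diagonal f).ker W.unop))
      naturality := fun W W' i => by
        ext k
        change D.app W'.unop (idealSect (pullback.diagonal f).ker W'.unop
          ((ClSub.idealMod (pullback.diagonal f).ker).presheaf.map (homOfLE i.unop.le).op k)) = _
        erw [idealSect_apply, idealModι_app_map]
        exact der_app_map D i.unop.le (idealSect (pullback.diagonal f).ker W.unop k) }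
    (fun W r k => push_linear f D W.unop r k)⟩

theorem linOnIdeal_app {G : X.Modules}
    (D : Der (pullback.fst f f) ((Scheme.Modules.pushforward (pullback.diagonal f)).obj G))
    (W : (pullback f f).Opens) (k : Γ(ClSub.idealMod (pullback.diagonal f).ker, W)) :
    (linOnIdeal f D).app W k = D.app W (idealSect (pullback.diagonal f).ker W k) := rfl

variable [QuasiSeparated f]

theorem isUniversal_dOmega : IsUniversal (dOmega f) := by
  let d := Exists.dUniv f
  have hd := Exists.isUniversal_dUniv f
  obtain ⟨D, hD⟩ := exists_diagDer f d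
  let I := ClSub.idealMod (pullback.diagonal f).ker
  let adj := Scheme.Modules.pullbackPushforwardAdjunction (pullback.diagonal f)
  let α := univDesc hd (dOmega f)
  have hα : ∀ (U : X.Opens) (s : Γ(X, U)), α.app U (d.app U s) = (dOmega f).app U s :=
    univDesc_app hd (dOmega f)
  let β : Omega.sheaf f ⟶ Exists.omegaSh f := (adj.homEquiv I _).symm (linOnIdeal f D)
  -- the value on the generators
  have e2 : ∀ U : X.Opens, diagNbhd f U ≤ pullback.snd f f ⁻¹ᵁ U := fun _ => inf_le_right
  have gen : ∀ (U : X.Opens) (s : Γ(X, U)) (e : pullback.diagonal f ⁻¹ᵁ diagNbhd f U ≤ U),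
      (linOnIdeal f D).app (diagNbhd f U) (idealLift f U s) =
        d.app (pullback.diagonal f ⁻¹ᵁ diagNbhd f U) (X.presheaf.map (homOfLE e).op s) := by
    intro U s e
    rw [linOnIdeal_app, idealSect_apply, ι_idealLift]
    change D.app (diagNbhd f U) (diagDiff f U s) = _
    rw [diagDiff, map_sub, der_app_appLE, sub_zero]
    have h1 : (pullback.snd f f).appLE U (diagNbhd f U) inf_le_right s =
        (pullback f f).presheaf.map (homOfLE (e2 U)).op ((pullback.snd f f).app U s) := rfl
    rw [h1, der_app_map, hD]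
    change (Exists.omegaSh f).presheaf.map
      (homOfLE ((pullback.diagonal f).preimage_mono (e2 U))).op _ = _
    refine (der_app_map d ((pullback.diagonal f).preimage_mono (e2 U)) _).symm.trans ?_
    congr 1
    have key : ∀ (q : X ⟶ X) (hq : q = 𝟙 X) (W : X.Opens) (e₁ : W ≤ q ⁻¹ᵁ U) (e₂ : W ≤ U),
        X.presheaf.map (homOfLE e₁).op (q.app U s) = X.presheaf.map (homOfLE e₂).op s := by
      intro q hq W e₁ e₂
      exact congr($(id_appLE_eq hq e₁ e₂) s)
    exact key _ (pullback.diagonal_snd f) _ _ _
  have le : ∀ U : X.Opens, U ≤ pullback.diagonal f ⁻¹ᵁ diagNbhd f U := le_preimage_diagNbhd f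
  -- `β` sends `dOmega` to `d`
  have hβ : ∀ (U : X.Opens) (s : Γ(X, U)), β.app U ((dOmega f).app U s) = d.app U s := by
    intro U s
    have h1 : β.app (pullback.diagonal f ⁻¹ᵁ diagNbhd f U)
        (pullSect (pullback.diagonal f) I (diagNbhd f U) (idealLift f U s)) =
        (linOnIdeal f D).app (diagNbhd f U) (idealLift f U s) := by
      erw [← homEquiv_app, Equiv.apply_symm_apply]
    change β.app U ((Omega.sheaf f).presheaf.map (homOfLE (le U)).op
      (pullSect (pullback.diagonal f) I (diagNbhd f U) (idealLift f U s))) = _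
    erw [DiagIdeal.app_res]
    erw [h1, gen U s (diagonal_preimage_le f le_rfl), ← der_app_map, OmegaSh.res_res, res_refl]
  have hβα : α ≫ β = 𝟙 _ := by
    refine universal_hom_ext hd fun U s => ?_
    change β.app U (α.app U (d.app U s)) = _
    rw [hα, hβ]
    rfl
  have hαβ : β ≫ α = 𝟙 _ := by
    apply (adj.homEquiv I (Omega.sheaf f)).injective
    erw [Adjunction.homEquiv_naturality_right, Equiv.apply_symm_apply]
    refine DiagIdeal.hom_ext_idealLift f fun U s => ?_
    change α.app (pullback.diagonal f ⁻¹ᵁ diagNbhd f U)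
      ((linOnIdeal f D).app (diagNbhd f U) (idealLift f U s)) = _
    rw [gen U s (diagonal_preimage_le f le_rfl)]
    have hWU : pullback.diagonal f ⁻¹ᵁ diagNbhd f U = U :=
      le_antisymm (diagonal_preimage_le f le_rfl) (le U)
    rw [hα, der_app_map]
    refine Eq.trans ?_ (homEquiv_app (h := pullback.diagonal f) (𝟙 (Omega.sheaf f))
      (diagNbhd f U) (idealLift f U s)).symm
    change (Omega.sheaf f).presheaf.map _ ((Omega.sheaf f).presheaf.map (homOfLE (le U)).op
      (pullSect (pullback.diagonal f) I (diagNbhd f U) (idealLift f U s))) = _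
    refine (Affine.resM_resM _ _ _).trans ?_
    exact congr($((Omega.sheaf f).presheaf.map_id _) _)
  have : IsIso α := ⟨β, hβα, hαβ⟩
  exact derComp_univDesc hd (dOmega f) ▸ isUniversal_derComp_of_isIso hd α

/-- Every universal receptacle is `Omega.sheaf f`. -/
theorem exists_iso_sheaf {Ω : X.Modules} {d : Der f Ω} (hd : IsUniversal d) :
    ∃ e : Omega.sheaf f ≅ Ω, derComp (dOmega f) e.hom = d :=
  exists_iso_of_isUniversal (isUniversal_dOmega f) hd

end Groth.Agent.Lib.Kaehler.DOmega
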