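import Groth.Agent.Lib.Kaehler.Chart
import Groth.Agent.Lib.Kaehler.LocalPres
import Mathlib.AlgebraicGeometry.Morphisms.FiniteType
import Mathlib.AlgebraicGeometry.Morphisms.FinitePresentation
import Mathlib.AlgebraicGeometry.Morphisms.FormallyUnramified
import Mathlib.RingTheory.Extension.Cotangent.Basic

/-!
# The module of differentials: quasi-coherent, finite type, finite presentation, vanishing
-/

universe u

open CategoryTheory CategoryTheory.Limits AlgebraicGeometry TopologicalSpace Opposite

namespace Groth.Agent.Lib.Kaehler.Finite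

open OmegaSh Groth.Agent.Lib.Kaehler.Basic

variable {X Y : Scheme.{u}} {f : X ⟶ Y} {Ω : X.Modules} {d : Der f Ω}

theorem isQuasicoherent (hd : IsUniversal d) : Ω.IsQuasicoherent :=
  LocalPres.isQuasicoherent_of_cover fun x => by
    obtain ⟨V, U, hV, hU, hx, e⟩ := Chart.exists_chart f x
    exact ⟨U, hU, hx, _, Chart.nonempty_restrict_iso f hU hV e hd⟩

theorem finite_kaehler {A B : CommRingCat.{u}} (φ : A ⟶ B) (h : φ.hom.FiniteType) :
    Module.Finite B (CommRingCat.KaehlerDifferential φ) := by
  algebraize [φ.hom]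
  exact (inferInstance : Module.Finite B Ω[B⁄A])

theorem finitePresentation_kaehler {A B : CommRingCat.{u}} (φ : A ⟶ B)
    (h : φ.hom.FinitePresentation) :
    Module.FinitePresentation B (CommRingCat.KaehlerDifferential φ) := by
  algebraize [φ.hom]
  exact (inferInstance : Module.FinitePresentation B Ω[B⁄A])

theorem isFT [LocallyOfFiniteType f] (hd : IsUniversal d) : CohB1.IsFT Ω :=
  LocalPres.isFT_of_cover fun x => by
    obtain ⟨V, U, hV, hU, hx, e⟩ := Chart.exists_chart f x
    exact ⟨U, hU, hx, _,
      finite_kaehler _ (HasRingHomProperty.appLE @LocallyOfFiniteType f inferInstance ⟨V, hV⟩ ⟨U, hU⟩ e),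
      Chart.nonempty_restrict_iso f hU hV e hd⟩

theorem isFP [LocallyOfFinitePresentation f] (hd : IsUniversal d) : CohB1.IsFP Ω :=
  LocalPres.isFP_of_cover fun x => by
    obtain ⟨V, U, hV, hU, hx, e⟩ := Chart.exists_chart f x
    exact ⟨U, hU, hx, _,
      finitePresentation_kaehler _
        (HasRingHomProperty.appLE @LocallyOfFinitePresentation f inferInstance ⟨V, hV⟩ ⟨U, hU⟩ e),
      Chart.nonempty_restrict_iso f hU hV e hd⟩

theorem isZero_tilde_iff {R : CommRingCat.{u}} (N : ModuleCat.{u} R) :
    IsZero (tilde N) ↔ IsZero N := by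
  constructor
  · intro h
    rw [IsZero.iff_id_eq_zero]
    exact (tilde.functor R).map_injective (h.eq_of_src _ _)
  · intro h
    exact (tilde.functor R).map_isZero h

theorem isZero_kaehler_iff {A B : CommRingCat.{u}} (φ : A ⟶ B) :
    IsZero (CommRingCat.KaehlerDifferential φ) ↔ φ.hom.FormallyUnramified := by
  rw [ModuleCat.isZero_iff_subsingleton]
  letI := φ.hom.toAlgebra
  exact (Algebra.formallyUnramified_iff A B).symm

theorem formallyUnramified_iff_isZero (hd : IsUniversal d) : FormallyUnramified f ↔ IsZero Ω := by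
  constructor
  · intro h
    refine Chart.isZero_of_locally Ω fun x => ?_
    obtain ⟨V, U, hV, hU, hx, e⟩ := Chart.exists_chart f x
    obtain ⟨y, hy⟩ := Chart.exists_fromSpec_eq hU hx
    obtain ⟨i⟩ := Chart.nonempty_pullback_iso f hU hV e hd
    exact ⟨_, hU.fromSpec, inferInstance, y, hy, ((isZero_tilde_iff _).mpr
      ((isZero_kaehler_iff _).mpr (Scheme.Hom.formallyUnramified_appLE f hV hU e))).of_iso i⟩
  · intro h
    refine ⟨fun {V} hV {U} hU e => ?_⟩
    obtain ⟨i⟩ := Chart.nonempty_pullback_iso f hU hV e hd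
    exact (isZero_kaehler_iff _).mp ((isZero_tilde_iff _).mp
      (((Scheme.Modules.pullback hU.fromSpec).map_isZero h).of_iso i.symm))

end Groth.Agent.Lib.Kaehler.Finite
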