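import Groth.Agent.Lib.Kaehler.Affine
import Mathlib.AlgebraicGeometry.Modules.Tilde
import Mathlib.Algebra.Category.ModuleCat.Differentials.Basic

/-!
# On an affine scheme the universal derivation lands in the tilde of Kähler differentials
-/

universe u

open CategoryTheory CategoryTheory.Limits AlgebraicGeometry TopologicalSpace Opposite

namespace Groth.Agent.Lib.Kaehler.AffineUniv

open OmegaSh Groth.Agent.Lib.Kaehler.Basic Groth.Agent.Lib.Kaehler.Affine

variable {A B : CommRingCat.{u}} (φ : A ⟶ B)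

/-- Global sections of a module on `Spec B`, as a `B`-module. -/
noncomputable abbrev gm (F : (Spec B).Modules) : ModuleCat.{u} B :=
  (moduleSpecΓFunctor (R := B)).obj F

theorem top_smul (F : (Spec B).Modules) (a : Γ(Spec B, ⊤)) (m : Γ(F, ⊤)) :
    a • m = ((Scheme.ΓSpecIso B).hom a) • m := by
  rw [Scheme.Modules.smul_Spec_def, Iso.hom_inv_id_apply]
  exact congrArg (· • m) (congr($((Spec B).presheaf.map_id (op ⊤)) a)).symm

theorem modDer_ext {M : ModuleCat.{u} B} {D D' : M.Derivation φ} (h : ∀ b, D.d b = D'.d b) :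
    D = D' :=
  letI := φ.hom.toAlgebra
  letI := Module.compHom M φ.hom
  _root_.Derivation.ext h

/-- A derivation relative to `Spec φ` gives a derivation of `B` over `A`. -/
noncomputable def toModDer {F : (Spec B).Modules} (D : Der (Spec.map φ) F) :
    (gm F).Derivation φ :=
  ModuleCat.Derivation.mk (fun b => (show Γ(F, ⊤) from D.app ⊤ ((Scheme.ΓSpecIso B).inv b)))
    (fun b b' => by
      change D.app ⊤ _ = (D.app ⊤ _ : Γ(F, ⊤)) + D.app ⊤ _
      rw [map_add, map_add])
    (fun b b' => by
      change (D.app ⊤ _ : Γ(F, ⊤)) = b • (D.app ⊤ _ : Γ(F, ⊤)) + b' • (D.app ⊤ _ : Γ(F, ⊤))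
      rw [map_mul, der_app_mul, top_smul, top_smul, Iso.inv_hom_id_apply, Iso.inv_hom_id_apply])
    (fun a => by
      change D.app ⊤ ((Scheme.ΓSpecIso B).inv (φ a)) = (0 : Γ(F, ⊤))
      rw [← ConcreteCategory.comp_apply, Scheme.ΓSpecIso_inv_naturality,
        ConcreteCategory.comp_apply]
      exact top_base _ D _)

theorem toModDer_d {F : (Spec B).Modules} (D : Der (Spec.map φ) F) (b : B) :
    ((toModDer φ D).d b : Γ(F, ⊤)) = D.app ⊤ ((Scheme.ΓSpecIso B).inv b) := rfl

theorem toModDer_bijective (F : (Spec B).Modules) :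
    Function.Bijective (toModDer φ (F := F)) := by
  constructor
  · intro D D' h
    refine der_ext_top ?_
    ext s
    have h' := congrArg (fun E : (gm F).Derivation φ =>
      (E.d ((Scheme.ΓSpecIso B).hom s) : Γ(F, ⊤))) h
    simp only [toModDer_d, Iso.hom_inv_id_apply] at h'
    exact h'
  · intro E
    let δ : Γ(Spec B, ⊤) →+ Γ(F, ⊤) :=
      AddMonoidHom.mk' (fun s => (show Γ(F, ⊤) from E.d ((Scheme.ΓSpecIso B).hom s)))
        (fun s t => by
          change E.d _ = E.d _ + E.d _
          rw [map_add, ModuleCat.Derivation.d_add])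
    obtain ⟨D, hD⟩ := exists_der_of_top (Spec.map φ) (δ := δ)
      (fun s t => by
        rw [top_smul, top_smul]
        change E.d _ = (_ • E.d _ + _ • E.d _ : gm F)
        rw [map_mul, ModuleCat.Derivation.d_mul]
        rfl)
      (fun c => by
        change E.d ((Scheme.ΓSpecIso B).hom ((Spec.map φ).appTop c)) = 0
        rw [← ConcreteCategory.comp_apply, Scheme.ΓSpecIso_naturality, ConcreteCategory.comp_apply,
          ModuleCat.Derivation.d_map])
    refine ⟨D, ?_⟩
    refine modDer_ext φ fun b => ?_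
    change (D.app ⊤ ((Scheme.ΓSpecIso B).inv b) : Γ(F, ⊤)) = E.d b
    rw [hD]
    change E.d ((Scheme.ΓSpecIso B).hom ((Scheme.ΓSpecIso B).inv b)) = E.d b
    rw [Iso.inv_hom_id_apply]

/-- The affine model of the module of differentials. -/
noncomputable abbrev omegaAff : (Spec B).Modules :=
  tilde (CommRingCat.KaehlerDifferential φ)

theorem exists_isUniversal_tilde :
    ∃ d : Der (Spec.map φ) (omegaAff φ), IsUniversal d ∧
      ∀ b : B, (d.app ⊤ ((Scheme.ΓSpecIso B).inv b) : Γ(omegaAff φ, ⊤)) =
        tilde.toOpen (CommRingCat.KaehlerDifferential φ) ⊤ (CommRingCat.KaehlerDifferential.d b) := by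
  let M := CommRingCat.KaehlerDifferential φ
  let E₀ : (gm (omegaAff φ)).Derivation φ := ModuleCat.Derivation.mk
    (fun b => tilde.toOpen M ⊤ (CommRingCat.KaehlerDifferential.d b))
    (fun b b' => (congrArg (tilde.toOpen M ⊤).hom
      ((CommRingCat.KaehlerDifferential.D φ).d_add b b')).trans (map_add _ _ _))
    (fun b b' => (congrArg (tilde.toOpen M ⊤).hom
      ((CommRingCat.KaehlerDifferential.D φ).d_mul b b')).trans
        ((map_add _ _ _).trans (congr_arg₂ (· + ·) (map_smul _ _ _) (map_smul _ _ _))))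
    (fun a => (congrArg (tilde.toOpen M ⊤).hom
      ((CommRingCat.KaehlerDifferential.D φ).d_map a)).trans (map_zero _))
  obtain ⟨d, hd⟩ := (toModDer_bijective φ (omegaAff φ)).2 E₀
  have hd' : ∀ b : B, (d.app ⊤ ((Scheme.ΓSpecIso B).inv b) : Γ(omegaAff φ, ⊤)) =
      tilde.toOpen M ⊤ (CommRingCat.KaehlerDifferential.d b) := fun b => by
    rw [← toModDer_d, hd]
    rfl
  refine ⟨d, ?_, hd'⟩
  rw [isUniversal_iff]
  intro F
  let e := tilde.adjunction.homEquiv M F
  have key : ∀ α : omegaAff φ ⟶ F, ∀ b : B,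
      ((toModDer φ (derComp d α)).d b : gm F) = e α (CommRingCat.KaehlerDifferential.d b) := by
    intro α b
    change α.app ⊤ (d.app ⊤ ((Scheme.ΓSpecIso B).inv b)) = _
    rw [hd']
    rfl
  constructor
  · intro α β h
    refine e.injective (CommRingCat.KaehlerDifferential.ext fun b => ?_)
    rw [← key, ← key]
    exact congrArg (fun D => ((toModDer φ D).d b : gm F)) h
  · intro D
    refine ⟨e.symm (toModDer φ D).desc, (toModDer_bijective φ F).1 ?_⟩
    refine modDer_ext φ fun b => ?_
    have h := key (e.symm (toModDer φ D).desc) b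
    erw [Equiv.apply_symm_apply, ModuleCat.Derivation.desc_d] at h
    exact h

/-- Any universal receptacle over `Spec φ` is the tilde of the Kähler differentials. -/
theorem nonempty_iso_omegaAff {Ω : (Spec B).Modules} {d : Der (Spec.map φ) Ω} (hd : IsUniversal d) :
    Nonempty (Ω ≅ omegaAff φ) := by
  obtain ⟨d', hd', -⟩ := exists_isUniversal_tilde φ
  obtain ⟨e, -⟩ := exists_iso_of_isUniversal hd hd'
  exact ⟨e⟩

end Groth.Agent.Lib.Kaehler.AffineUniv
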