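import Groth.Agent.Lib.Kaehler.Affine

/-!
# Restriction of derivations to open subschemes
-/

universe u

open CategoryTheory CategoryTheory.Limits AlgebraicGeometry TopologicalSpace Opposite

namespace Groth.Agent.Lib.Kaehler.OpenImm

open OmegaSh Groth.Agent.Lib.Kaehler.Basic Groth.Agent.Lib.Kaehler.Affine

variable {X X' Y Y' : Scheme.{u}} {f : X ⟶ Y} {f' : X' ⟶ Y'}
  (j : X' ⟶ X) (b : Y' ⟶ Y) [IsOpenImmersion j] [IsOpenImmersion b] (hsq : f' ≫ b = j ≫ f)

theorem le_of_eq_preimage (W : X'.Opens) : W ≤ j ⁻¹ᵁ (j ''ᵁ W) := (j.preimage_image_eq W).ge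

theorem appIso_hom_apply (W : X'.Opens) (s : Γ(X, j ''ᵁ W)) :
    (j.appIso W).hom s =
      X'.presheaf.map (homOfLE (le_of_eq_preimage j W)).op (j.app (j ''ᵁ W) s) := by
  rw [Scheme.Hom.appIso_hom]
  rfl

theorem appIso_inv_map {W W' : X'.Opens} (e : W' ≤ W) (s : Γ(X', W)) :
    (j.appIso W').inv (X'.presheaf.map (homOfLE e).op s) =
      X.presheaf.map (homOfLE (j.image_mono e)).op ((j.appIso W).inv s) :=
  congr($(j.appIso_inv_naturality (homOfLE e).op) s)

/-- The candidate inverse of `derPush` on sections. -/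
noncomputable def invApp {G : X'.Modules} (D : Der f ((Scheme.Modules.pushforward j).obj G))
    (W : X'.Opens) : Γ(X', W) →+ Γ(G, W) :=
  ((G.presheaf.map (homOfLE (le_of_eq_preimage j W)).op).hom.comp
      (D.app (j ''ᵁ W) : Γ(X, j ''ᵁ W) →+ Γ(G, j ⁻¹ᵁ (j ''ᵁ W)))).comp
    (j.appIso W).inv.hom.toAddMonoidHom

theorem invApp_apply {G : X'.Modules} (D : Der f ((Scheme.Modules.pushforward j).obj G))
    (W : X'.Opens) (s : Γ(X', W)) :
    invApp j D W s = G.presheaf.map (homOfLE (le_of_eq_preimage j W)).op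
      (D.app (j ''ᵁ W) ((j.appIso W).inv s)) := rfl

include hsq in
theorem appIso_inv_base (V : Y'.Opens) (c : Γ(Y', V)) :
    ∃ (e : j ''ᵁ (f' ⁻¹ᵁ V) ≤ f ⁻¹ᵁ (b ''ᵁ V)) (c₀ : Γ(Y, b ''ᵁ V)),
      (j.appIso (f' ⁻¹ᵁ V)).inv (f'.app V c) =
        f.appLE (b ''ᵁ V) (j ''ᵁ (f' ⁻¹ᵁ V)) e c₀ := by
  have e : j ''ᵁ (f' ⁻¹ᵁ V) ≤ f ⁻¹ᵁ (b ''ᵁ V) := by
    rintro _ ⟨x, hx, rfl⟩
    change f (j x) ∈ b ''ᵁ V
    rw [← Scheme.Hom.comp_apply, ← hsq, Scheme.Hom.comp_apply]
    exact ⟨f' x, hx, rfl⟩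
  refine ⟨e, (b.appIso V).inv c, ?_⟩
  apply (ConcreteCategory.bijective_of_isIso (j.appIso (f' ⁻¹ᵁ V)).hom).1
  rw [Iso.inv_hom_id_apply, Scheme.Hom.appIso_hom']
  rw [← ConcreteCategory.comp_apply, Scheme.Hom.appLE_comp_appLE]
  rw [appLE_congr_hom' hsq.symm]
  rw [← Scheme.Hom.appLE_comp_appLE f' b (b ''ᵁ V) V (f' ⁻¹ᵁ V) (b.preimage_image_eq V).ge le_rfl,
    ← Scheme.Hom.appIso_hom', ConcreteCategory.comp_apply, Iso.inv_hom_id_apply,
    Scheme.Hom.app_eq_appLE]
where
  appLE_congr_hom' {q q' : X' ⟶ Y} (h : q = q') {U : Y.Opens} {V : X'.Opens} {e : V ≤ q ⁻¹ᵁ U} :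
      q.appLE U V e = q'.appLE U V (h ▸ e) := by subst h; rfl

theorem res_push_smul (G : X'.Modules) (W : X'.Opens) (r : Γ(X, j ''ᵁ W))
    (m : Γ((Scheme.Modules.pushforward j).obj G, j ''ᵁ W)) :
    G.presheaf.map (homOfLE (le_of_eq_preimage j W)).op
        (r • m : Γ((Scheme.Modules.pushforward j).obj G, j ''ᵁ W)) =
      (j.appIso W).hom r • G.presheaf.map (homOfLE (le_of_eq_preimage j W)).op m := by
  rw [appIso_hom_apply]
  exact Scheme.Modules.map_smul G (homOfLE (le_of_eq_preimage j W)) (j.app (j ''ᵁ W) r)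
    (show Γ(G, j ⁻¹ᵁ (j ''ᵁ W)) from m)

/-- The inverse of `derPush` along an open immersion. -/
noncomputable def derRestr {G : X'.Modules}
    (D : Der f ((Scheme.Modules.pushforward j).obj G)) : Der f' G :=
  derMk (invApp j D)
    (fun W a c => by
      rw [invApp_apply, invApp_apply, invApp_apply, map_mul, der_app_mul]
      erw [map_add, res_push_smul, res_push_smul, Iso.inv_hom_id_apply, Iso.inv_hom_id_apply])
    (fun U W e s => by
      rw [invApp_apply, invApp_apply, appIso_inv_map, der_app_map]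
      change G.presheaf.map _ (G.presheaf.map (homOfLE (j.preimage_mono (j.image_mono e))).op _) = _
      exact (Affine.resM_resM _ _ _).trans (Affine.resM_resM _ _ _).symm)
    (fun V c => by
      obtain ⟨e, c₀, h⟩ := appIso_inv_base j b hsq V c
      rw [invApp_apply, h, der_app_appLE]
      exact map_zero _)

theorem derPush_derRestr {G : X'.Modules} (D : Der f ((Scheme.Modules.pushforward j).obj G)) :
    derPush j b hsq (derRestr j b hsq D) = D := by
  refine der_ext fun U s => ?_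
  rw [derPush_app, derRestr, derMk_app, invApp_apply]
  have h : (j.appIso (j ⁻¹ᵁ U)).inv (j.app U s) =
      X.presheaf.map (homOfLE (j.image_preimage_le U)).op s :=
    congr($(j.app_appIso_inv U) s)
  rw [h, der_app_map]
  change G.presheaf.map _ (G.presheaf.map (homOfLE (j.preimage_mono (j.image_preimage_le U))).op _) = _
  refine (Affine.resM_resM _ _ _).trans ?_
  exact congr($(G.presheaf.map_id _) _)

theorem derRestr_derPush {G : X'.Modules} (D : Der f' G) :
    derRestr j b hsq (derPush j b hsq D) = D := by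
  refine der_ext fun W s => ?_
  rw [derRestr, derMk_app, invApp_apply, derPush_app, ← der_app_map, ← appIso_hom_apply,
    Iso.inv_hom_id_apply]

theorem derPush_bijective (G : X'.Modules) :
    Function.Bijective (derPush (f := f) (f' := f') j b hsq (G := G)) :=
  ⟨Function.LeftInverse.injective (derRestr_derPush j b hsq),
    Function.RightInverse.surjective (derPush_derRestr j b hsq)⟩

include hsq in
/-- The pullback of a universal receptacle along an open immersion is one. -/
theorem exists_isUniversal_pullback {Ω : X.Modules} {d : Der f Ω} (hd : IsUniversal d) :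
    ∃ d' : Der f' ((Scheme.Modules.pullback j).obj Ω),
      IsUniversal d' ∧ IsDiffCompat j d d' (𝟙 _) :=
  Basic.exists_isUniversal_pullback hsq hd (derPush_bijective j b hsq)

end Groth.Agent.Lib.Kaehler.OpenImm
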