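import Groth.Agent.Lib.Kaehler.DOmega
import Groth.Agent.Lib.Kaehler.AffineUniv
import Groth.Agent.Lib.Kaehler.OpenImm
import Groth.Prelude.Def_OmAff

/-! On affines the comparison map from Kähler differentials to sections of `Omega.sheaf` is bijective. -/

universe u

open CategoryTheory CategoryTheory.Limits AlgebraicGeometry TopologicalSpace Opposite

namespace Groth.Agent.Lib.Kaehler.ToSect

open OmegaSh Groth.Agent.Lib.Kaehler.Basic

theorem bijective_pullSect {X' X : Scheme.{u}} (j : X' ⟶ X) [IsOpenImmersion j] (M : X.Modules)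
    (U : X.Opens) (hU : U ≤ j.opensRange) : Function.Bijective (pullSect j M U) := by
  have h := Adjunction.unit_leftAdjointUniq_hom_app (Scheme.Modules.restrictAdjunction j)
    (Scheme.Modules.pullbackPushforwardAdjunction j) M
  have h' : pullSect j M U = M.presheaf.map (homOfLE (j.image_preimage_le U)).op ≫
      ((Scheme.Modules.restrictFunctorIsoPullback j).hom.app M).app (j ⁻¹ᵁ U) := by
    unfold pullSect
    rw [← h]
    rfl
  have e : U ≤ j ''ᵁ j ⁻¹ᵁ U := fun x hx => by
    obtain ⟨y, rfl⟩ := hU hx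
    exact ⟨y, hx, rfl⟩
  have hi : IsIso (homOfLE (j.image_preimage_le U)) := ⟨homOfLE e, rfl, rfl⟩
  rw [h']
  exact (ConcreteCategory.bijective_of_isIso
      (((Scheme.Modules.restrictFunctorIsoPullback j).hom.app M).app (j ⁻¹ᵁ U))).comp
    (ConcreteCategory.bijective_of_isIso (M.presheaf.map (homOfLE (j.image_preimage_le U)).op))

theorem pullSect_smul {X' X : Scheme.{u}} (j : X' ⟶ X) (M : X.Modules)
    (U : X.Opens) (r : Γ(X, U)) (y : Γ(M, U)) :
    pullSect j M U (r • y) = j.app U r • pullSect j M U y :=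
  Scheme.Modules.Hom.app_smul _ r y

theorem bijective_of_iso {A B : CommRingCat.{u}} (φ : A ⟶ B) {P : ModuleCat.{u} B}
    (L₀ : CommRingCat.KaehlerDifferential φ ⟶ P) [IsIso L₀] {N : Type u}
    (T : CommRingCat.KaehlerDifferential φ → N) (g : N → P) (hg : Function.Bijective g)
    (hadd : ∀ x y, g (T (x + y)) = g (T x) + g (T y))
    (hsmul : ∀ (b : B) (x), g (T (b • x)) = b • g (T x))
    (hd : ∀ b : B, g (T (CommRingCat.KaehlerDifferential.d b)) = L₀ (CommRingCat.KaehlerDifferential.d b)) :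
    Function.Bijective T := by
  let L : CommRingCat.KaehlerDifferential φ ⟶ P :=
    ModuleCat.ofHom { toFun := fun x => g (T x), map_add' := hadd, map_smul' := hsmul }
  have hL : L = L₀ := CommRingCat.KaehlerDifferential.ext fun b => hd b
  have hb : Function.Bijective (g ∘ T) := by
    have : Function.Bijective L₀.hom := ConcreteCategory.bijective_of_isIso L₀
    rw [← hL] at this
    exact this
  exact (Function.Bijective.of_comp_iff' hg T).1 hb

theorem isIso_toSect {X Y : Scheme.{u}} (f : X ⟶ Y) [QuasiSeparated f] {U : X.Opens} {V : Y.Opens}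
    (hU : IsAffineOpen U) (hV : IsAffineOpen V) (h : U ≤ f ⁻¹ᵁ V) :
    IsIso (OmAff.toSect f V U h) := by
  let φ := f.appLE V U h
  let j := hU.fromSpec
  obtain ⟨d', hd', hc⟩ := OpenImm.exists_isUniversal_pullback (f' := Spec.map φ) j hV.fromSpec
    (IsAffineOpen.SpecMap_appLE_fromSpec f hV hU h) (DOmega.isUniversal_dOmega f)
  obtain ⟨d'', hd'', hval⟩ := AffineUniv.exists_isUniversal_tilde φ
  obtain ⟨e, he⟩ := exists_iso_of_isUniversal hd' hd''
  have htop : (⊤ : (Spec Γ(X, U)).Opens) ≤ j ⁻¹ᵁ U := hU.fromSpec_preimage_self.ge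
  let g : Γ(Omega.sheaf f, U) → Γ(AffineUniv.omegaAff φ, ⊤) := fun y =>
    (AffineUniv.omegaAff φ).presheaf.map (homOfLE htop).op (e.hom.app (j ⁻¹ᵁ U) (pullSect j _ U y))
  have hres : ∀ r : Γ(X, U), (Spec Γ(X, U)).presheaf.map (homOfLE htop).op (j.app U r) =
      (Scheme.ΓSpecIso Γ(X, U)).inv r := fun r => by
    rw [hU.fromSpec_app_self, ConcreteCategory.comp_apply, ← ConcreteCategory.comp_apply, ← Functor.map_comp,
      Subsingleton.elim (_ ≫ _) (𝟙 (op (⊤ : (Spec Γ(X, U)).Opens))), CategoryTheory.Functor.map_id]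
    rfl
  have hg : Function.Bijective g := by
    have hi : IsIso (homOfLE htop) := ⟨homOfLE hU.fromSpec_preimage_self.le, rfl, rfl⟩
    exact (ConcreteCategory.bijective_of_isIso ((AffineUniv.omegaAff φ).presheaf.map (homOfLE htop).op)).comp
      ((ConcreteCategory.bijective_of_isIso (e.hom.app (j ⁻¹ᵁ U))).comp
        (bijective_pullSect j _ U (hU.opensRange_fromSpec.ge)))
  rw [ConcreteCategory.isIso_iff_bijective]
  refine bijective_of_iso φ
    (tilde.toOpen (CommRingCat.KaehlerDifferential φ) ⊤) _ g hg ?_ ?_ ?_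
  · intro x y
    simp only [g, map_add]
    rfl
  · intro b x
    simp only [g]
    rw [map_smul]
    erw [pullSect_smul, Scheme.Modules.Hom.app_smul, Scheme.Modules.map_smul, hres, AffineUniv.top_smul,
      Iso.inv_hom_id_apply]
  · intro b
    simp only [g]
    rw [OmAff.toSect_d]
    have h1 := hc U b
    have h2 : d''.app (j ⁻¹ᵁ U) (j.app U b) = e.hom.app (j ⁻¹ᵁ U) (d'.app (j ⁻¹ᵁ U) (j.app U b)) := by
      rw [← he]; rfl
    erw [h1, ← h2, ← der_app_map d'' htop, hres]
    exact hval b

theorem bijective_toSpec_aux {A B : Type u} [CommRing A] [CommRing B] (φ : A →+* B) :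
    letI := φ.toAlgebra
    Function.Bijective (OmAff.toSpec A B) := by
  letI := φ.toAlgebra
  let φ' : CommRingCat.of A ⟶ CommRingCat.of B := CommRingCat.ofHom φ
  obtain ⟨d'', hd'', hval⟩ := AffineUniv.exists_isUniversal_tilde φ'
  obtain ⟨e, he⟩ := exists_iso_of_isUniversal
    (DOmega.isUniversal_dOmega (Spec.map φ')) hd''
  refine @bijective_of_iso _ _ φ' _
    (tilde.toOpen (CommRingCat.KaehlerDifferential φ') ⊤) (tilde.isIso_toOpen_top) _ (fun x => OmAff.toSpec A B x) (fun y => e.hom.app ⊤ y)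
    (ConcreteCategory.bijective_of_isIso (e.hom.app ⊤)) ?_ ?_ ?_
  · intro x y
    exact (congrArg (e.hom.app ⊤) (map_add (OmAff.toSpec A B) x y)).trans (map_add _ _ _)
  · intro b x
    refine (congrArg (e.hom.app ⊤) ((OmAff.toSpec A B).map_smulₛₗ b x)).trans ?_
    erw [Scheme.Modules.Hom.app_smul, AffineUniv.top_smul, Iso.inv_hom_id_apply]
  · intro b
    refine Eq.trans ?_ (hval b)
    refine (congrArg (e.hom.app ⊤) (OmAff.toSpec_D A B b)).trans ?_
    rw [← he]
    rfl

theorem bijective_toSpec (A B : Type u) [CommRing A] [CommRing B] [inst : Algebra A B] :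
    Function.Bijective (OmAff.toSpec A B) := by
  have key : ∀ (i : Algebra A B), i = (inst.algebraMap).toAlgebra → Function.Bijective (@OmAff.toSpec A B _ _ i) := by
    rintro i rfl
    exact bijective_toSpec_aux _
  exact key inst (Algebra.algebra_ext _ _ fun _ => rfl)

end Groth.Agent.Lib.Kaehler.ToSect
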