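import Groth.Agent.Lib.Kaehler.Descend

/-!
# The canonical maps of conormal sheaves
-/

universe u

open CategoryTheory CategoryTheory.Limits AlgebraicGeometry TopologicalSpace Opposite

namespace Groth.Agent.Lib.Kaehler.Conormal

open OmegaSh Groth.Agent.Lib.Kaehler.Basic

/-- A map of modules from additive maps on sections. -/
noncomputable def mkHom {X : Scheme.{u}} {M N : X.Modules} (η : ∀ U : X.Opens, Γ(M, U) →+ Γ(N, U))
    (hsmul : ∀ (U : X.Opens) (r : Γ(X, U)) (m : Γ(M, U)), η U (r • m) = r • η U m)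
    (hnat : ∀ (U W : X.Opens) (e : W ≤ U) (m : Γ(M, U)),
      η W (M.presheaf.map (homOfLE e).op m) = N.presheaf.map (homOfLE e).op (η U m)) : M ⟶ N :=
  ⟨PresheafOfModules.homMk
    { app := fun W => AddCommGrpCat.ofHom (η W.unop)
      naturality := fun W W' i => by
        ext m
        exact hnat W.unop W'.unop i.unop.le m }
    (fun W r m => hsmul W.unop r m)⟩

@[simp] theorem mkHom_app {X : Scheme.{u}} {M N : X.Modules} (η : ∀ U : X.Opens, Γ(M, U) →+ Γ(N, U))
    (hsmul hnat) (U : X.Opens) (m : Γ(M, U)) : (mkHom η hsmul hnat).app U m = η U m := rfl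

variable {Z X : Scheme.{u}} (i : Z ⟶ X)

theorem idealSect_injective (V : X.Opens) : Function.Injective (idealSect i.ker V) :=
  ClSub.Sections.idealModι_app_injective i.ker V

theorem idealSect_smul (V : X.Opens) (r : Γ(X, V)) (k : Γ(ClSub.idealMod i.ker, V)) :
    idealSect i.ker V (r • k) = r * idealSect i.ker V k := by
  rw [idealSect_apply, Scheme.Modules.Hom.app_smul]
  rfl

theorem idealSect_map {V W : X.Opens} (e : W ≤ V) (k : Γ(ClSub.idealMod i.ker, V)) :
    idealSect i.ker W ((ClSub.idealMod i.ker).presheaf.map (homOfLE e).op k) =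
      X.presheaf.map (homOfLE e).op (idealSect i.ker V k) :=
  congr($((ClSub.idealModι i.ker).mapPresheaf.naturality (homOfLE e).op) k)

theorem conormalSect_smul (V : X.Opens) (r : Γ(X, V)) (k : Γ(ClSub.idealMod i.ker, V)) :
    conormalSect i V (r • k) = i.app V r • conormalSect i V k :=
  Scheme.Modules.Hom.app_smul _ r k

theorem conormalSect_map {V W : X.Opens} (e : W ≤ V) (k : Γ(ClSub.idealMod i.ker, V)) :
    conormalSect i W ((ClSub.idealMod i.ker).presheaf.map (homOfLE e).op k) =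
      (Omega.conormal i).presheaf.map (homOfLE (i.preimage_mono e)).op (conormalSect i V k) :=
  congr($((Scheme.Modules.Hom.mapPresheaf ((Scheme.Modules.pullbackPushforwardAdjunction i).unit.app
    (ClSub.idealMod i.ker))).naturality (homOfLE e).op) k)

variable {Z' X' : Scheme.{u}} (i' : Z' ⟶ X') (g : X ⟶ X') (gZ : Z ⟶ Z')

/-- Maps out of a pulled back conormal sheaf are determined by the classes of ideal sections. -/
theorem pullback_conormal_hom_ext {M : Z.Modules}
    {a b : (Scheme.Modules.pullback gZ).obj (Omega.conormal i') ⟶ M}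
    (h : ∀ (V : X'.Opens) (k : Γ(ClSub.idealMod i'.ker, V)),
      a.app (gZ ⁻¹ᵁ (i' ⁻¹ᵁ V)) (pullSect gZ (Omega.conormal i') (i' ⁻¹ᵁ V) (conormalSect i' V k)) =
      b.app (gZ ⁻¹ᵁ (i' ⁻¹ᵁ V)) (pullSect gZ (Omega.conormal i') (i' ⁻¹ᵁ V) (conormalSect i' V k))) :
    a = b := by
  apply ((Scheme.Modules.pullbackPushforwardAdjunction gZ).homEquiv (Omega.conormal i') M).injective
  refine Descend.conormal_hom_ext fun V k => ?_
  exact (homEquiv_app (h := gZ) a _ _).trans ((h V k).trans (homEquiv_app (h := gZ) b _ _).symm)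

variable {i i' g gZ}

theorem le_of_sq (hsq : gZ ≫ i' = i ≫ g) (U' : X'.Opens) :
    gZ ⁻¹ᵁ (i' ⁻¹ᵁ U') ≤ i ⁻¹ᵁ (g ⁻¹ᵁ U') := by
  rw [← Scheme.Hom.comp_preimage, hsq, Scheme.Hom.comp_preimage]

theorem app_app_of_sq (hsq : gZ ≫ i' = i ≫ g) (U' : X'.Opens) (r : Γ(X', U')) :
    Z.presheaf.map (homOfLE (le_of_sq hsq U')).op (i.app (g ⁻¹ᵁ U') (g.app U' r)) =
      gZ.app (i' ⁻¹ᵁ U') (i'.app U' r) := by
  have key : ∀ (q q' : Z ⟶ X') (_ : q = q') (V : Z.Opens) (e : V ≤ q ⁻¹ᵁ U') (e' : V ≤ q' ⁻¹ᵁ U'),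
      q.appLE U' V e r = q'.appLE U' V e' r := by rintro q _ rfl V e e'; rfl
  simp only [← ConcreteCategory.comp_apply, Scheme.Hom.app_eq_appLE, Scheme.Hom.appLE_map,
    Scheme.Hom.appLE_comp_appLE]
  exact key _ _ hsq.symm _ _ _

theorem app_app_idealSect (hsq : gZ ≫ i' = i ≫ g) (U' : X'.Opens)
    (k : Γ(ClSub.idealMod i'.ker, U')) :
    i.app (g ⁻¹ᵁ U') (g.app U' (idealSect i'.ker U' k)) = 0 := by
  have key : ∀ (q q' : Z ⟶ X') (_ : q = q'),
      q.app U' (idealSect i'.ker U' k) = 0 → q'.app U' (idealSect i'.ker U' k) = 0 := by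
    rintro q _ rfl hq; exact hq
  refine key _ (i ≫ g) hsq ?_
  change gZ.app _ (i'.app U' _) = 0
  rw [Descend.app_idealSect, map_zero]

variable [QuasiCompact i]

/-- The ideal section `g♯ k`. -/
noncomputable def liftSect (hsq : gZ ≫ i' = i ≫ g) (U' : X'.Opens)
    (k : Γ(ClSub.idealMod i'.ker, U')) : Γ(ClSub.idealMod i.ker, g ⁻¹ᵁ U') :=
  (Descend.exists_idealSect_eq i _ _ (app_app_idealSect hsq U' k)).choose

theorem idealSect_liftSect (hsq : gZ ≫ i' = i ≫ g) (U' : X'.Opens)
    (k : Γ(ClSub.idealMod i'.ker, U')) :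
    idealSect i.ker (g ⁻¹ᵁ U') (liftSect hsq U' k) = g.app U' (idealSect i'.ker U' k) :=
  (Descend.exists_idealSect_eq i _ _ (app_app_idealSect hsq U' k)).choose_spec

/-- The class of `g♯ k`, on `gZ⁻¹ i'⁻¹ U'`. -/
noncomputable def mapSect (hsq : gZ ≫ i' = i ≫ g) (U' : X'.Opens)
    (k : Γ(ClSub.idealMod i'.ker, U')) : Γ(Omega.conormal i, gZ ⁻¹ᵁ (i' ⁻¹ᵁ U')) :=
  (Omega.conormal i).presheaf.map (homOfLE (le_of_sq hsq U')).op
    (conormalSect i _ (liftSect hsq U' k))

theorem mapSect_add (hsq : gZ ≫ i' = i ≫ g) (U' : X'.Opens)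
    (a b : Γ(ClSub.idealMod i'.ker, U')) :
    mapSect hsq U' (a + b) = mapSect hsq U' a + mapSect hsq U' b := by
  have h : liftSect hsq U' (a + b) = liftSect hsq U' a + liftSect hsq U' b := by
    apply idealSect_injective
    simp only [map_add, idealSect_liftSect]
  rw [mapSect, mapSect, mapSect, h, map_add, map_add]

theorem mapSect_smul (hsq : gZ ≫ i' = i ≫ g) (U' : X'.Opens) (r : Γ(X', U'))
    (a : Γ(ClSub.idealMod i'.ker, U')) :
    mapSect hsq U' (r • a) = gZ.app (i' ⁻¹ᵁ U') (i'.app U' r) • mapSect hsq U' a := by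
  have h : liftSect hsq U' (r • a) = g.app U' r • liftSect hsq U' a := by
    apply idealSect_injective
    rw [idealSect_smul, idealSect_liftSect, idealSect_liftSect, idealSect_smul, map_mul]
  rw [mapSect, mapSect, h, conormalSect_smul]
  erw [Scheme.Modules.map_smul, app_app_of_sq hsq]

theorem mapSect_map (hsq : gZ ≫ i' = i ≫ g) (U W : X'.Opens) (e : W ≤ U)
    (a : Γ(ClSub.idealMod i'.ker, U)) :
    mapSect hsq W ((ClSub.idealMod i'.ker).presheaf.map (homOfLE e).op a) =
      (Omega.conormal i).presheaf.map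
        (homOfLE (gZ.preimage_mono (i'.preimage_mono e))).op (mapSect hsq U a) := by
  have h : liftSect hsq W ((ClSub.idealMod i'.ker).presheaf.map (homOfLE e).op a) =
      (ClSub.idealMod i.ker).presheaf.map (homOfLE (g.preimage_mono e)).op (liftSect hsq U a) := by
    apply idealSect_injective
    rw [idealSect_map, idealSect_liftSect, idealSect_liftSect, idealSect_map]
    exact congr($(g.naturality (homOfLE e).op) _)
  rw [mapSect, mapSect, h, conormalSect_map]
  exact (Affine.resM_resM _ _ _).trans (Affine.resM_resM _ _ _).symm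

/-- `k ↦` the class of `g♯ k`, as a map of modules. -/
noncomputable def idealHom (hsq : gZ ≫ i' = i ≫ g) :
    ClSub.idealMod i'.ker ⟶ (Scheme.Modules.pushforward i').obj
      ((Scheme.Modules.pushforward gZ).obj (Omega.conormal i)) :=
  mkHom (fun U' => AddMonoidHom.mk' (mapSect hsq U') (mapSect_add hsq U'))
    (fun U' r a => mapSect_smul hsq U' r a) (fun U W e a => mapSect_map hsq U W e a)

/-- Existence and uniqueness of the canonical map of conormal sheaves. -/
theorem existsUnique_conormalMap (hsq : gZ ≫ i' = i ≫ g) :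
    ∃! φ : (Scheme.Modules.pullback gZ).obj (Omega.conormal i') ⟶ Omega.conormal i,
      IsConormalMap i i' g gZ φ := by
  obtain ⟨ψ₀, hψ₀⟩ : ∃ ψ₀ : Omega.conormal i' ⟶ (Scheme.Modules.pushforward gZ).obj (Omega.conormal i),
      ∀ (U' : X'.Opens) (k : Γ(ClSub.idealMod i'.ker, U')),
        ψ₀.app (i' ⁻¹ᵁ U') (conormalSect i' U' k) = mapSect hsq U' k := by
    refine ⟨((Scheme.Modules.pullbackPushforwardAdjunction i').homEquiv _ _).symm (idealHom hsq),
      fun U' k => ?_⟩
    refine (homEquiv_app (h := i') _ U' k).symm.trans ?_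
    exact congrArg (fun m : ClSub.idealMod i'.ker ⟶ _ => m.app U' k) (Equiv.apply_symm_apply _ _)
  let φ : (Scheme.Modules.pullback gZ).obj (Omega.conormal i') ⟶ Omega.conormal i :=
    ((Scheme.Modules.pullbackPushforwardAdjunction gZ).homEquiv (Omega.conormal i')
      (Omega.conormal i)).symm ψ₀
  have hφ : ∀ (U' : X'.Opens) (k : Γ(ClSub.idealMod i'.ker, U')),
      φ.app (gZ ⁻¹ᵁ (i' ⁻¹ᵁ U'))
        (pullSect gZ (Omega.conormal i') (i' ⁻¹ᵁ U') (conormalSect i' U' k)) = mapSect hsq U' k := by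
    intro U' k
    rw [← homEquiv_app, Equiv.apply_symm_apply]
    exact hψ₀ U' k
  refine ⟨φ, ⟨hsq, fun U' s' s hs V h₁ h₂ => ?_⟩, fun ψ hψ => ?_⟩
  · have : s = liftSect hsq U' s' := idealSect_injective i _ (by rw [hs, idealSect_liftSect])
    rw [hφ, mapSect, this]
    exact Affine.resM_resM _ _ _
  · refine pullback_conormal_hom_ext i' gZ fun U' k => ?_
    rw [hφ]
    have h := hψ.2 U' k (liftSect hsq U' k) (idealSect_liftSect hsq U' k) _ le_rfl (le_of_sq hsq U')
    refine Eq.trans ?_ h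
    exact (congr($((Omega.conormal i).presheaf.map_id _) _)).symm

theorem app_eq {φ : (Scheme.Modules.pullback gZ).obj (Omega.conormal i') ⟶ Omega.conormal i}
    (hφ : IsConormalMap i i' g gZ φ) (U' : X'.Opens) (k : Γ(ClSub.idealMod i'.ker, U')) :
    φ.app (gZ ⁻¹ᵁ (i' ⁻¹ᵁ U'))
      (pullSect gZ (Omega.conormal i') (i' ⁻¹ᵁ U') (conormalSect i' U' k)) =
      mapSect hφ.1 U' k := by
  have h := hφ.2 U' k (liftSect hφ.1 U' k) (idealSect_liftSect hφ.1 U' k) _ le_rfl (le_of_sq hφ.1 U')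
  exact (congr($((Omega.conormal i).presheaf.map_id _) _)).symm.trans h

end Groth.Agent.Lib.Kaehler.Conormal
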