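import Groth.Agent.Lib.Kaehler.Basic

/-!
# Existence of a universal derivation for every morphism of schemes
-/

universe u

open CategoryTheory CategoryTheory.Limits AlgebraicGeometry TopologicalSpace Opposite

namespace Groth.Agent.Lib.Kaehler.Exists

open OmegaSh Groth.Agent.Lib.Kaehler.Basic

variable {X Y : Scheme.{u}} (f : X ⟶ Y)

/-- The subring of `O_X(U)` generated by the functions coming from the base. -/
def baseSubring (U : X.Opens) : Subring Γ(X, U) :=
  Subring.closure {x | ∃ (V : Y.Opens) (e : U ≤ f ⁻¹ᵁ V) (c : Γ(Y, V)), f.appLE V U e c = x}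

theorem baseSubring_map {U W : X.Opens} (i : W ≤ U) :
    ∀ x ∈ baseSubring f U, X.presheaf.map (homOfLE i).op x ∈ baseSubring f W := by
  intro x hx
  refine (Subring.closure_le (t := (baseSubring f W).comap (X.presheaf.map (homOfLE i).op).hom)).mpr
    ?_ hx
  rintro _ ⟨V, e, c, rfl⟩
  refine Subring.subset_closure ⟨V, i.trans e, c, ?_⟩
  change _ = (f.appLE V U e ≫ X.presheaf.map (homOfLE i).op) c
  rw [Scheme.Hom.appLE_map]

/-- The presheaf of subrings of functions coming from the base. -/
def basePresheaf : X.Opensᵒᵖ ⥤ CommRingCat.{u} where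
  obj U := CommRingCat.of (baseSubring f U.unop)
  map {U W} i := CommRingCat.ofHom
    ((X.presheaf.map i).hom.restrict (baseSubring f U.unop) (baseSubring f W.unop)
      (baseSubring_map f i.unop.le))
  map_id U := by
    ext x
    change X.presheaf.map (𝟙 U) x.1 = x.1
    rw [X.presheaf.map_id]; rfl
  map_comp {U V W} i j := by
    ext x
    change X.presheaf.map (i ≫ j) x.1 = X.presheaf.map j (X.presheaf.map i x.1)
    rw [X.presheaf.map_comp]; rfl

/-- The inclusion into the structure presheaf. -/
def baseIncl : basePresheaf f ⟶ X.presheaf where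
  app U := CommRingCat.ofHom (baseSubring f U.unop).subtype
  naturality _ _ _ := rfl

/-- The presheaf of sectionwise differentials. -/
noncomputable def preOmega : X.PresheafOfModules :=
  PresheafOfModules.DifferentialsConstruction.relativeDifferentials' (baseIncl f)

/-- The sheaf of differentials. -/
noncomputable def omegaSh : X.Modules :=
  (PresheafOfModules.sheafification (𝟙 X.ringCatSheaf.obj)).obj (preOmega f)

/-- The sectionwise universal derivation. -/
noncomputable def preD : (preOmega f).Derivation' (baseIncl f) :=
  PresheafOfModules.DifferentialsConstruction.derivation' (baseIncl f)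

/-- A derivation relative to `f` is a derivation relative to the base subrings. -/
noncomputable def toDer' {F : X.Modules} (D : Der f F) : F.val.Derivation' (baseIncl f) where
  d {U} := D.d
  d_mul a b := D.d_mul a b
  d_map i s := D.d_map i s
  d_app {U} a := by
    suffices ∀ x ∈ baseSubring f U.unop, D.app U.unop x = 0 from this a.1 a.2
    intro x hx
    induction hx using Subring.closure_induction with
    | mem x hx => obtain ⟨V, e, c, rfl⟩ := hx; exact der_app_appLE D V U.unop e c
    | zero => exact map_zero _
    | one => exact der_app_one D _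
    | add x y _ _ h₁ h₂ => rw [map_add, h₁, h₂, add_zero]
    | neg x _ h => rw [map_neg, h, neg_zero]
    | mul x y _ _ h₁ h₂ => rw [der_app_mul, h₁, h₂, smul_zero, smul_zero, add_zero]

theorem ofDer'_base {M : X.PresheafOfModules} (D : M.Derivation' (baseIncl f)) (V : Y.Opens)
    (c : Γ(Y, V)) : D.d (X := op (f ⁻¹ᵁ V)) (f.app V c) = 0 :=
  D.d_app (X := op (f ⁻¹ᵁ V))
    ⟨f.app V c, Subring.subset_closure ⟨V, le_rfl, c, by
      rw [Scheme.Hom.app_eq_appLE]⟩⟩

/-- Conversely. -/
noncomputable def ofDer' {F : X.Modules} (D : F.val.Derivation' (baseIncl f)) : Der f F where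
  d {U} := D.d
  d_mul a b := D.d_mul a b
  d_map i s := D.d_map i s
  d_app {V} c := ofDer'_base f D V.unop c

/-- The unit into the sheafification. -/
noncomputable def toSheaf : preOmega f ⟶ (omegaSh f).val :=
  (PresheafOfModules.sheafificationAdjunction (𝟙 X.ringCatSheaf.obj)).unit.app (preOmega f)

/-- The universal derivation. -/
noncomputable def dUniv : Der f (omegaSh f) := ofDer' f ((preD f).postcomp (toSheaf f))

theorem isUniversal_dUniv : IsUniversal (dUniv f) := by
  rw [isUniversal_iff]
  intro F
  let e := (PresheafOfModules.sheafificationAdjunction (𝟙 X.ringCatSheaf.obj)).homEquiv (preOmega f) F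
  let hu := PresheafOfModules.DifferentialsConstruction.isUniversal' (baseIncl f)
  have key : ∀ α : omegaSh f ⟶ F, toDer' f (derComp (dUniv f) α) = (preD f).postcomp (e α) := by
    intro α
    have he : e α = toSheaf f ≫ α.val :=
      (PresheafOfModules.sheafificationAdjunction (𝟙 X.ringCatSheaf.obj)).homEquiv_unit (preOmega f) F α
    rw [he]
    rfl
  constructor
  · intro α β h
    apply e.injective
    apply hu.postcomp_injective
    have h' : toDer' f (derComp (dUniv f) α) = toDer' f (derComp (dUniv f) β) := congrArg _ h
    rw [key, key] at h'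
    exact h'
  · intro D
    refine ⟨e.symm (hu.desc (toDer' f D)), ?_⟩
    have h' := key (e.symm (hu.desc (toDer' f D)))
    erw [Equiv.apply_symm_apply] at h'
    erw [hu.fac] at h'
    exact congrArg (ofDer' f) h'

theorem exists_isUniversal : ∃ (Ω' : X.Modules) (d : Der f Ω'), IsUniversal d :=
  ⟨omegaSh f, dUniv f, isUniversal_dUniv f⟩

end Groth.Agent.Lib.Kaehler.Exists
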