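import Groth.Agent.Lib.Kaehler.Conormal
import Groth.Agent.Lib.Kaehler.Finite
import Groth.Agent.Lib.Kaehler.Exists

/-!
# The conormal sequence `C_{Z/Y} → C_{Z/X} → i^* Ω_{X/Y} → 0`
-/

universe u

open CategoryTheory CategoryTheory.Limits AlgebraicGeometry TopologicalSpace Opposite

namespace Groth.Agent.Lib.Kaehler.ConormalExact

open OmegaSh Groth.Agent.Lib.Kaehler.Basic

variable {Z X Y : Scheme.{u}} (i : Z ⟶ X) (p : X ⟶ Y) {G : Z.Modules} (k : Omega.conormal i ⟶ G)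

/-- `k` applied to the class of an ideal section. -/
noncomputable def cls (V : X.Opens) : Γ(ClSub.idealMod i.ker, V) →+ Γ(G, i ⁻¹ᵁ V) :=
  (k.app (i ⁻¹ᵁ V)).hom.comp (conormalSect i V).hom

theorem cls_apply (V : X.Opens) (κ : Γ(ClSub.idealMod i.ker, V)) :
    cls i k V κ = k.app (i ⁻¹ᵁ V) (conormalSect i V κ) := rfl

theorem cls_map {V W : X.Opens} (e : W ≤ V) (κ : Γ(ClSub.idealMod i.ker, V)) :
    cls i k W ((ClSub.idealMod i.ker).presheaf.map (homOfLE e).op κ) =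
      G.presheaf.map (homOfLE (i.preimage_mono e)).op (cls i k V κ) := by
  rw [cls_apply, cls_apply, Conormal.conormalSect_map]
  exact congr($(k.mapPresheaf.naturality (homOfLE (i.preimage_mono e)).op) _)

theorem cls_smul (V : X.Opens) (r : Γ(X, V)) (κ : Γ(ClSub.idealMod i.ker, V)) :
    cls i k V (r • κ) = i.app V r • cls i k V κ := by
  rw [cls_apply, cls_apply, Conormal.conormalSect_smul, Scheme.Modules.Hom.app_smul]

/-- `v` is the class of `t - p♯ a` for some local function `a` on `Y`. -/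
def Rel (V : X.Opens) (t : Γ(X, V)) (W : Z.Opens) (v : Γ(G, W)) : Prop :=
  ∃ (V' : X.Opens) (e : V' ≤ V) (U : Y.Opens) (eU : V' ≤ p ⁻¹ᵁ U) (a : Γ(Y, U))
    (κ : Γ(ClSub.idealMod i.ker, V')) (eW : W ≤ i ⁻¹ᵁ V'),
    idealSect i.ker V' κ = X.presheaf.map (homOfLE e).op t - p.appLE U V' eU a ∧
      v = G.presheaf.map (homOfLE eW).op (cls i k V' κ)

variable {i p k}

theorem rel_res {V : X.Opens} {t : Γ(X, V)} {W W' : Z.Opens} (e : W' ≤ W) {v : Γ(G, W)}
    (h : Rel i p k V t W v) : Rel i p k V t W' (G.presheaf.map (homOfLE e).op v) := by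
  obtain ⟨V', e', U, eU, a, κ, eW, hκ, rfl⟩ := h
  exact ⟨V', e', U, eU, a, κ, e.trans eW, hκ, Affine.resM_resM eW e _⟩

theorem appLE_res (q : X ⟶ Y) {U U' : Y.Opens} {V' V'' : X.Opens} (eU : V' ≤ q ⁻¹ᵁ U)
    (eU' : U' ≤ U) (e : V'' ≤ V') (e' : V'' ≤ q ⁻¹ᵁ U') (a : Γ(Y, U)) :
    X.presheaf.map (homOfLE e).op (q.appLE U V' eU a) =
      q.appLE U' V'' e' (Y.presheaf.map (homOfLE eU').op a) := by
  simp only [← ConcreteCategory.comp_apply, Scheme.Hom.appLE_map, Scheme.Hom.map_appLE]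

variable (p) in
/-- `k` kills the image of the conormal sheaf of `Z` in `Y`. -/
def Kills {j : Z ⟶ Y} (i : Z ⟶ X) (_ : i ≫ p = j) (k : Omega.conormal i ⟶ G) : Prop :=
  ∀ (U : Y.Opens) (a : Γ(ClSub.idealMod j.ker, U)) (b : Γ(ClSub.idealMod i.ker, p ⁻¹ᵁ U)),
    idealSect i.ker (p ⁻¹ᵁ U) b = p.app U (idealSect j.ker U a) → cls i k (p ⁻¹ᵁ U) b = 0

variable {j : Z ⟶ Y} (hij : i ≫ p = j)

include hij in
theorem appLE_of_lift {V V' : X.Opens} (e : V' ≤ V) {U : Y.Opens} (eU : V' ≤ p ⁻¹ᵁ U)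
    (a : Γ(Y, U)) (t : Γ(X, V)) (κ : Γ(ClSub.idealMod i.ker, V'))
    (hκ : idealSect i.ker V' κ = X.presheaf.map (homOfLE e).op t - p.appLE U V' eU a)
    {W : Z.Opens} (eW : W ≤ i ⁻¹ᵁ V') (eW' : W ≤ j ⁻¹ᵁ U) :
    j.appLE U W eW' a = i.appLE V W (eW.trans (i.preimage_mono e)) t := by
  subst hij
  have h := Descend.appLE_idealSect i V' W eW κ
  rw [hκ, map_sub, sub_eq_zero] at h
  simp only [← ConcreteCategory.comp_apply, Scheme.Hom.map_appLE,
    Scheme.Hom.appLE_comp_appLE] at h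
  exact h.symm

variable [IsPreimmersion j] [QuasiCompact j] [QuasiCompact i]

theorem rel_unique (hk : Kills p i hij k) {V : X.Opens} {t : Γ(X, V)} {W : Z.Opens}
    {v v' : Γ(G, W)} (h : Rel i p k V t W v) (h' : Rel i p k V t W v') : v = v' := by
  obtain ⟨V₁, e₁, U₁, eU₁, a₁, κ₁, eW₁, hκ₁, rfl⟩ := h
  obtain ⟨V₂, e₂, U₂, eU₂, a₂, κ₂, eW₂, hκ₂, rfl⟩ := h'
  refine Affine.modules_section_ext G fun z hz => ?_
  have eW₁' : W ≤ j ⁻¹ᵁ U₁ := by
    rw [← hij, Scheme.Hom.comp_preimage]; exact eW₁.trans (i.preimage_mono eU₁)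
  have eW₂' : W ≤ j ⁻¹ᵁ U₂ := by
    rw [← hij, Scheme.Hom.comp_preimage]; exact eW₂.trans (i.preimage_mono eU₂)
  obtain ⟨O, hO, hzO, hOW⟩ := Descend.exists_preimage_le j (V₀ := U₁ ⊓ U₂) hz ⟨eW₁' hz, eW₂' hz⟩
  let b₁ := Y.presheaf.map (homOfLE (hO.trans inf_le_left)).op a₁
  let b₂ := Y.presheaf.map (homOfLE (hO.trans inf_le_right)).op a₂
  have h0 : j.app O (b₂ - b₁) = 0 := by
    have h1 : j.app O b₁ = Z.presheaf.map (homOfLE hOW).op (j.appLE U₁ W eW₁' a₁) := by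
      simp only [b₁, ← ConcreteCategory.comp_apply, Scheme.Hom.appLE_map,
        Scheme.Hom.app_eq_appLE, Scheme.Hom.map_appLE]
    have h2 : j.app O b₂ = Z.presheaf.map (homOfLE hOW).op (j.appLE U₂ W eW₂' a₂) := by
      simp only [b₂, ← ConcreteCategory.comp_apply, Scheme.Hom.appLE_map,
        Scheme.Hom.app_eq_appLE, Scheme.Hom.map_appLE]
    rw [map_sub, h1, h2, appLE_of_lift hij e₁ eU₁ a₁ t κ₁ hκ₁ eW₁ eW₁',
      appLE_of_lift hij e₂ eU₂ a₂ t κ₂ hκ₂ eW₂ eW₂', sub_self]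
  obtain ⟨c, hc⟩ := Descend.exists_idealSect_eq j O (b₂ - b₁) h0
  have hb0 : i.app (p ⁻¹ᵁ O) (p.app O (idealSect j.ker O c)) = 0 := by
    have key : ∀ (q : Z ⟶ Y), q = j → q.app O (idealSect j.ker O c) = 0 := by
      rintro q rfl; exact Descend.app_idealSect q O c
    exact key _ hij
  obtain ⟨b, hb⟩ := Descend.exists_idealSect_eq i _ _ hb0
  have hkill := hk O c b hb
  let N : X.Opens := V₁ ⊓ V₂ ⊓ p ⁻¹ᵁ O
  have hNW : i ⁻¹ᵁ N ≤ W := fun y hy => hOW (by
    subst hij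
    exact hy.2)
  have hzN : z ∈ i ⁻¹ᵁ N := ⟨⟨eW₁ hz, eW₂ hz⟩, by subst hij; exact hzO⟩
  refine ⟨i ⁻¹ᵁ N, hNW, hzN, ?_⟩
  have eN₁ : N ≤ V₁ := inf_le_left.trans inf_le_left
  have eN₂ : N ≤ V₂ := inf_le_left.trans inf_le_right
  have eN : N ≤ p ⁻¹ᵁ O := inf_le_right
  have heq : (ClSub.idealMod i.ker).presheaf.map (homOfLE eN₁).op κ₁ =
      (ClSub.idealMod i.ker).presheaf.map (homOfLE eN₂).op κ₂ +
        (ClSub.idealMod i.ker).presheaf.map (homOfLE eN).op b := by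
    apply Conormal.idealSect_injective
    rw [map_add, Conormal.idealSect_map, Conormal.idealSect_map, Conormal.idealSect_map, hκ₁, hκ₂,
      hb, hc, map_sub, map_sub, map_sub, map_sub, Scheme.Hom.app_eq_appLE,
      appLE_res p eU₁ (hO.trans inf_le_left) eN₁ eN a₁,
      appLE_res p eU₂ (hO.trans inf_le_right) eN₂ eN a₂]
    simp only [b₁, b₂, ← ConcreteCategory.comp_apply, ← Functor.map_comp, Category.assoc,
      Scheme.Hom.appLE_map]
    simp only [← op_comp, homOfLE_comp]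
    abel
  have h5 := congrArg (cls i k N) heq
  rw [map_add, cls_map, cls_map, cls_map, hkill, map_zero, add_zero] at h5
  exact (Affine.resM_resM eW₁ hNW _).trans (h5.trans (Affine.resM_resM eW₂ hNW _).symm)

theorem exists_der (hk : Kills p i hij k) :
    ∃ D : Der p ((Scheme.Modules.pushforward i).obj G),
      ∀ (V : X.Opens) (κ : Γ(ClSub.idealMod i.ker, V)),
        D.app V (idealSect i.ker V κ) = cls i k V κ := by
  have ex : ∀ (V : X.Opens) (t : Γ(X, V)), ∀ z ∈ i ⁻¹ᵁ V, ∃ (V' : X.Opens) (e : V' ≤ V) (U : Y.Opens)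
      (eU : V' ≤ p ⁻¹ᵁ U) (a : Γ(Y, U)) (κ : Γ(ClSub.idealMod i.ker, V')), z ∈ i ⁻¹ᵁ V' ∧
        idealSect i.ker V' κ = X.presheaf.map (homOfLE e).op t - p.appLE U V' eU a := by
    intro V t z hz
    obtain ⟨U, a, h, hzU, ha⟩ := Descend.exists_local_lift j (i.app V t) hz
    subst hij
    have h0 : i.app (V ⊓ p ⁻¹ᵁ U)
        (X.presheaf.map (homOfLE inf_le_left).op t - p.appLE U _ inf_le_right a) = 0 := by
      rw [map_sub, sub_eq_zero]
      have e' : i ⁻¹ᵁ (V ⊓ p ⁻¹ᵁ U) ≤ (i ≫ p) ⁻¹ᵁ U := fun _ hy => hy.2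
      have h1 := congrArg (Z.presheaf.map (homOfLE e').op) ha
      simp only [← ConcreteCategory.comp_apply, Scheme.Hom.app_eq_appLE, Scheme.Hom.appLE_map] at h1
      simp only [← ConcreteCategory.comp_apply, Scheme.Hom.app_eq_appLE, Scheme.Hom.map_appLE,
        Scheme.Hom.appLE_comp_appLE]
      exact h1.symm
    obtain ⟨κ, hκ⟩ := Descend.exists_idealSect_eq i _ _ h0
    exact ⟨_, inf_le_left, U, inf_le_right, a, κ, ⟨hz, hzU⟩, hκ⟩
  have glue : ∀ (V : X.Opens) (t : Γ(X, V)), ∃! v : Γ(G, i ⁻¹ᵁ V),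
      ∀ (W : Z.Opens) (e : W ≤ i ⁻¹ᵁ V) (v' : Γ(G, W)),
        Rel i p k V t W v' → G.presheaf.map (homOfLE e).op v = v' := by
    intro V t
    refine Descend.existsUnique_glue G (i ⁻¹ᵁ V) (fun W _ v' => Rel i p k V t W v')
      (fun W W' _ e v h => rel_res e h) (fun W _ v v' h h' => rel_unique hij hk h h')
      (fun z hz => ?_)
    obtain ⟨V', e, U, eU, a, κ, hzV', hκ⟩ := ex V t z hz
    exact ⟨i ⁻¹ᵁ V', i.preimage_mono e, cls i k V' κ, hzV', V', e, U, eU, a, κ, le_rfl, hκ,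
      (congr($(G.presheaf.map_id _) _)).symm⟩
  choose val hval hval' using glue
  have hval₁ : ∀ {V : X.Opens} {t : Γ(X, V)} {V' : X.Opens} (e : V' ≤ V) {U : Y.Opens}
      (eU : V' ≤ p ⁻¹ᵁ U) (a : Γ(Y, U)) (κ : Γ(ClSub.idealMod i.ker, V')),
      idealSect i.ker V' κ = X.presheaf.map (homOfLE e).op t - p.appLE U V' eU a →
      G.presheaf.map (homOfLE (i.preimage_mono e)).op (val V t) = cls i k V' κ := by
    intro V t V' e U eU a κ hκ
    exact hval V t _ _ _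
      ⟨V', e, U, eU, a, κ, le_rfl, hκ, (congr($(G.presheaf.map_id _) _)).symm⟩
  have ex₂ : ∀ (V : X.Opens) (s t : Γ(X, V)), ∀ z ∈ i ⁻¹ᵁ V, ∃ (V' : X.Opens) (e : V' ≤ V)
      (U : Y.Opens) (eU : V' ≤ p ⁻¹ᵁ U) (a b : Γ(Y, U)) (κ μ : Γ(ClSub.idealMod i.ker, V')),
      z ∈ i ⁻¹ᵁ V' ∧
        idealSect i.ker V' κ = X.presheaf.map (homOfLE e).op s - p.appLE U V' eU a ∧
        idealSect i.ker V' μ = X.presheaf.map (homOfLE e).op t - p.appLE U V' eU b := by
    intro V s t z hz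
    obtain ⟨V₁, e₁, U₁, eU₁, a, κ, hz₁, hκ⟩ := ex V s z hz
    obtain ⟨V₂, e₂, U₂, eU₂, b, μ, hz₂, hμ⟩ := ex V t z hz
    refine ⟨V₁ ⊓ V₂, inf_le_left.trans e₁, U₁ ⊓ U₂,
      le_inf (inf_le_left.trans eU₁) (inf_le_right.trans eU₂),
      Y.presheaf.map (homOfLE inf_le_left).op a, Y.presheaf.map (homOfLE inf_le_right).op b,
      (ClSub.idealMod i.ker).presheaf.map (homOfLE inf_le_left).op κ,
      (ClSub.idealMod i.ker).presheaf.map (homOfLE inf_le_right).op μ, ⟨hz₁, hz₂⟩, ?_, ?_⟩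
    · rw [Conormal.idealSect_map, hκ, map_sub,
        appLE_res p eU₁ inf_le_left inf_le_left
          (le_inf (inf_le_left.trans eU₁) (inf_le_right.trans eU₂)) a, Affine.res_res]
    · rw [Conormal.idealSect_map, hμ, map_sub,
        appLE_res p eU₂ inf_le_right inf_le_right
          (le_inf (inf_le_left.trans eU₁) (inf_le_right.trans eU₂)) b, Affine.res_res]
  refine ⟨derMk (fun V => AddMonoidHom.mk' (val V) fun s t => ?_) (fun V s t => ?_)
    (fun V V₀ e₀ s => ?_) (fun T c => ?_), fun V κ => ?_⟩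
  · refine Affine.modules_section_ext G fun z hz => ?_
    obtain ⟨V', e, U, eU, a, b, κ, μ, hzV', hκ, hμ⟩ := ex₂ V s t z hz
    refine ⟨i ⁻¹ᵁ V', i.preimage_mono e, hzV', ?_⟩
    refine (hval₁ e eU (a + b) (κ + μ) ?_).trans (Eq.symm ?_)
    · rw [map_add, map_add, map_add, hκ, hμ]; abel
    · erw [map_add, map_add]
      erw [hval₁ e eU a κ hκ, hval₁ e eU b μ hμ]
  · refine Affine.modules_section_ext G fun z hz => ?_
    obtain ⟨V', e, U, eU, a, b, κ, μ, hzV', hκ, hμ⟩ := ex₂ V s t z hz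
    refine ⟨i ⁻¹ᵁ V', i.preimage_mono e, hzV', ?_⟩
    refine (hval₁ e eU (a * b)
      (X.presheaf.map (homOfLE e).op s • μ + p.appLE U V' eU b • κ) ?_).trans (Eq.symm ?_)
    · rw [map_add, Conormal.idealSect_smul, Conormal.idealSect_smul, hκ, hμ, map_mul, map_mul]
      ring
    · change G.presheaf.map (homOfLE (i.preimage_mono e)).op
        (i.app V s • val V t + i.app V t • val V s) = _
      rw [map_add, Scheme.Modules.map_smul, Scheme.Modules.map_smul, hval₁ e eU a κ hκ,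
        hval₁ e eU b μ hμ, map_add, cls_smul, cls_smul]
      have hb : i.app V' (X.presheaf.map (homOfLE e).op t) = i.app V' (p.appLE U V' eU b) := by
        rw [← sub_eq_zero, ← map_sub, ← hμ, Descend.app_idealSect]
      congr 2
      · exact congr($(i.naturality (homOfLE e).op) s).symm
      · exact (congr($(i.naturality (homOfLE e).op) t).symm).trans hb
  · change val V₀ (X.presheaf.map (homOfLE e₀).op s) =
      G.presheaf.map (homOfLE (i.preimage_mono e₀)).op (val V s)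
    refine Affine.modules_section_ext G fun z hz => ?_
    obtain ⟨V', e, U, eU, a, κ, hzV', hκ⟩ := ex V₀ (X.presheaf.map (homOfLE e₀).op s) z hz
    refine ⟨i ⁻¹ᵁ V', i.preimage_mono e, hzV', ?_⟩
    refine (hval₁ e eU a κ hκ).trans (Eq.symm ?_)
    refine (Affine.resM_resM (i.preimage_mono e₀) (i.preimage_mono e) _).trans ?_
    refine hval₁ (e.trans e₀) eU a κ ?_
    rw [hκ, Affine.res_res]
  · change val (p ⁻¹ᵁ T) (p.app T c) = 0
    have h := hval₁ (V := p ⁻¹ᵁ T) (t := p.app T c) le_rfl (U := T) le_rfl c 0 (by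
      rw [map_zero, eq_comm, sub_eq_zero]
      simp only [← ConcreteCategory.comp_apply, Scheme.Hom.app_eq_appLE, Scheme.Hom.appLE_map])
    rw [map_zero] at h
    exact (congr($(G.presheaf.map_id _) _)).symm.trans h
  · change val V (idealSect i.ker V κ) = cls i k V κ
    refine Affine.modules_section_ext G fun z hz => ?_
    refine ⟨i ⁻¹ᵁ (V ⊓ p ⁻¹ᵁ ⊤), i.preimage_mono inf_le_left, ⟨hz, trivial⟩, ?_⟩
    refine (hval₁ (inf_le_left : V ⊓ p ⁻¹ᵁ ⊤ ≤ V) (U := ⊤) inf_le_right 0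
      ((ClSub.idealMod i.ker).presheaf.map (homOfLE inf_le_left).op κ) ?_).trans (cls_map i k _ κ)
    rw [map_zero, sub_zero, Conormal.idealSect_map]

omit [IsPreimmersion j] [QuasiCompact j] [QuasiCompact i] in
theorem kills_of_comp_eq_zero
    {ψ : (Scheme.Modules.pullback (𝟙 Z)).obj (Omega.conormal j) ⟶ Omega.conormal i}
    (hψ : IsConormalMap i j p (𝟙 Z) ψ) (h0 : ψ ≫ k = 0) : Kills p i hij k := by
  intro U a b hb
  have e : i ⁻¹ᵁ (p ⁻¹ᵁ U) ≤ (𝟙 Z : Z ⟶ Z) ⁻¹ᵁ (j ⁻¹ᵁ U) := by subst hij; exact le_rfl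
  have h := congrArg (k.app (i ⁻¹ᵁ (p ⁻¹ᵁ U))) (hψ.2 U a b hb _ e le_rfl)
  have h' : cls i k (p ⁻¹ᵁ U) b = G.presheaf.map (homOfLE e).op
      (k.app _ (ψ.app _ (pullSect (𝟙 Z) (Omega.conormal j) (j ⁻¹ᵁ U) (conormalSect j U a)))) := by
    refine Eq.trans ?_ (h.symm.trans (congr($(k.mapPresheaf.naturality (homOfLE e).op) _)))
    rw [cls_apply]
    exact congrArg _ (congr($((Omega.conormal i).presheaf.map_id _) _)).symm
  rw [h']
  have h0' : ∀ (W : Z.Opens) (x), k.app W (ψ.app W x) = 0 := fun W x =>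
    congr($(congrArg (fun m => Scheme.Modules.Hom.app m W) h0) x)
  rw [h0', map_zero]

variable {Ω : X.Modules} {d : Der p Ω} (hd : IsUniversal d)
  {φ : Omega.conormal i ⟶ (Scheme.Modules.pullback i).obj Ω} (hφ : IsConormalDiff i d φ)

include hd hφ in
theorem exists_desc (hk : Kills p i hij k) :
    ∃ r : (Scheme.Modules.pullback i).obj Ω ⟶ G, φ ≫ r = k := by
  obtain ⟨D, hD⟩ := exists_der hij hk
  refine ⟨((Scheme.Modules.pullbackPushforwardAdjunction i).homEquiv Ω G).symm (univDesc hd D),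
    Descend.conormal_hom_ext fun V κ => ?_⟩
  rw [Descend.comp_app_conormalSect hφ, ← homEquiv_app, Equiv.apply_symm_apply, univDesc_app, hD]
  rfl

omit [IsPreimmersion j] [QuasiCompact j] in
include hd hφ in
theorem epi_conormalDiff [IsImmersion i] [IsImmersion j] (hij : i ≫ p = j) : Epi φ := by
  subst hij
  obtain ⟨ΩZ, dZ, hZ⟩ := Exists.exists_isUniversal (i ≫ p)
  obtain ⟨c, hc, -⟩ := existsUnique_diffCompat (h := i) (Category.comp_id (i ≫ p)) hd dZ
  have h0 : IsZero ΩZ := (Finite.formallyUnramified_iff_isZero hZ).mp inferInstance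
  exact (Descend.epi_and_exact hd hZ hφ hc).2.epi_f (h0.eq_of_tgt _ _)

omit [IsPreimmersion j] [QuasiCompact j] [QuasiCompact i] in
include hφ in
theorem zero {ψ : (Scheme.Modules.pullback (𝟙 Z)).obj (Omega.conormal j) ⟶ Omega.conormal i}
    (hψ : IsConormalMap i j p (𝟙 Z) ψ) [QuasiCompact i] : ψ ≫ φ = 0 := by
  refine Conormal.pullback_conormal_hom_ext j (𝟙 Z) fun V a => ?_
  change φ.app _ (ψ.app _ _) = 0
  rw [Conormal.app_eq hψ, Conormal.mapSect]
  refine (congr($(φ.mapPresheaf.naturality (homOfLE (Conormal.le_of_sq hψ.1 V)).op) _)).trans ?_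
  change ((Scheme.Modules.pullback i).obj Ω).presheaf.map _ (φ.app _ _) = 0
  rw [hφ, Conormal.idealSect_liftSect, der_app_app, map_zero, map_zero]

include hij hd hφ in
theorem main [IsImmersion i] [IsImmersion j]
    {ψ : (Scheme.Modules.pullback (𝟙 Z)).obj (Omega.conormal j) ⟶ Omega.conormal i}
    (hψ : IsConormalMap i j p (𝟙 Z) ψ) :
    ∃ w : ψ ≫ φ = 0, (ShortComplex.mk ψ φ w).Exact ∧ Epi φ := by
  haveI := epi_conormalDiff hd hφ hij
  refine ⟨zero hφ hψ, ShortComplex.exact_of_g_is_cokernel _ ?_, inferInstance⟩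
  refine CokernelCofork.IsColimit.ofπ _ _
    (fun {G} k hk => (exists_desc hij hd hφ (kills_of_comp_eq_zero hij hψ hk)).choose)
    (fun {G} k hk => (exists_desc hij hd hφ (kills_of_comp_eq_zero hij hψ hk)).choose_spec)
    (fun {G} k hk m hm => (cancel_epi φ).mp (hm.trans
      (exists_desc hij hd hφ (kills_of_comp_eq_zero hij hψ hk)).choose_spec.symm))

end Groth.Agent.Lib.Kaehler.ConormalExact
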