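import Mathlib.RingTheory.Etale.Kaehler

/-!
# Derivations, as additive maps with the Leibniz rule, extend uniquely to localizations
-/

universe u

namespace Groth.Agent.Lib.Kaehler.LocalExt

open TensorProduct

/-- Two Leibniz maps on a localization that agree on the ring are equal. -/
theorem leibniz_unique {B T T' : Type*} [CommRing B] [CommRing T] [CommRing T'] [Algebra B T]
    (S : Submonoid B) [IsLocalization S T] {M : Type*} [AddCommGroup M] [Module T' M]
    (ρ : T →+* T') (a c : T →+ M)
    (ha : ∀ x y, a (x * y) = ρ x • a y + ρ y • a x) (hc : ∀ x y, c (x * y) = ρ x • c y + ρ y • c x)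
    (h : ∀ b : B, a (algebraMap B T b) = c (algebraMap B T b)) : a = c := by
  ext t
  obtain ⟨⟨b, s⟩, hb⟩ := IsLocalization.surj S t
  have e : a (t * algebraMap B T s) = c (t * algebraMap B T s) := by rw [hb]; exact h b
  rw [ha, hc, h s, add_right_inj] at e
  exact ((IsLocalization.map_units T s).map ρ).smul_left_cancel.mp e

/-- A Leibniz map into a module over a localization extends to the localization. -/
theorem exists_leibniz_extension {B T : Type*} [CommRing B] [CommRing T] [Algebra B T]
    (S : Submonoid B) [IsLocalization S T] {M : Type*} [AddCommGroup M] [Module T M]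
    (δ : B →+ M) (hδ : ∀ x y, δ (x * y) = algebraMap B T x • δ y + algebraMap B T y • δ x) :
    ∃ d : T →+ M, (∀ x y, d (x * y) = x • d y + y • d x) ∧ ∀ b, d (algebraMap B T b) = δ b := by
  letI : Module B M := Module.compHom M (algebraMap B T)
  haveI : IsScalarTower B T M := IsScalarTower.of_algebraMap_smul fun _ _ => rfl
  haveI : Algebra.FormallyEtale B T := Algebra.FormallyEtale.of_isLocalization S
  let D : Derivation ℤ B M := Derivation.mk' δ.toIntLinearMap hδ
  let L : Ω[T⁄ℤ] →ₗ[T] M := (D.liftKaehlerDifferential.liftBaseChange T) ∘ₗ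
    (KaehlerDifferential.tensorKaehlerEquivOfFormallyEtale ℤ B T).symm.toLinearMap
  refine ⟨L.toAddMonoidHom.comp (KaehlerDifferential.D ℤ T).toLinearMap.toAddMonoidHom,
    fun x y => ?_, fun b => ?_⟩
  · change L (KaehlerDifferential.D ℤ T (x * y)) =
      x • L (KaehlerDifferential.D ℤ T y) + y • L (KaehlerDifferential.D ℤ T x)
    rw [Derivation.leibniz, map_add, map_smul, map_smul]
  · change L (KaehlerDifferential.D ℤ T (algebraMap B T b)) = δ b
    simp only [L, LinearMap.coe_comp, LinearEquiv.coe_coe, Function.comp_apply,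
      KaehlerDifferential.tensorKaehlerEquivOfFormallyEtale_symm_D_algebraMap,
      LinearMap.liftBaseChange_tmul, one_smul, Derivation.liftKaehlerDifferential_comp_D]
    rfl

end Groth.Agent.Lib.Kaehler.LocalExt
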