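import Groth.Agent.Lib.Kaehler.Basic
import Groth.Agent.Lib.Kaehler.LocalExt
import Mathlib.Topology.Sheaves.SheafCondition.Sites

/-!
# Derivations on an affine scheme are determined by, and extend from, global sections
-/

universe u

open CategoryTheory CategoryTheory.Limits AlgebraicGeometry TopologicalSpace Opposite

namespace Groth.Agent.Lib.Kaehler.Affine

open OmegaSh Groth.Agent.Lib.Kaehler.Basic Groth.Agent.Lib.Kaehler.LocalExt

variable {X Y : Scheme.{u}} (f : X ⟶ Y) {F : X.Modules}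

theorem modules_section_ext (F : X.Modules) {U : X.Opens} {s t : Γ(F, U)}
    (h : ∀ x ∈ U, ∃ (W : X.Opens) (e : W ≤ U), x ∈ W ∧
      F.presheaf.map (homOfLE e).op s = F.presheaf.map (homOfLE e).op t) : s = t :=
  TopCat.Presheaf.IsSheaf.section_ext F.isSheaf fun x hx => by
    obtain ⟨W, e, hxW, he⟩ := h x hx
    exact ⟨W, e, hxW, he⟩

theorem exists_basicOpen_le [IsAffine X] {U : X.Opens} {x : X} (hx : x ∈ U) :
    ∃ g : Γ(X, ⊤), x ∈ X.basicOpen g ∧ X.basicOpen g ≤ U := by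
  obtain ⟨_, ⟨_, ⟨g, rfl⟩, rfl⟩, hxg, hgU⟩ :=
    (isBasis_basicOpen X).exists_subset_of_mem_open hx U.isOpen
  exact ⟨g, hxg, hgU⟩

variable (X) in
theorem algebraMap_basicOpen (g b : Γ(X, ⊤)) :
    algebraMap Γ(X, ⊤) Γ(X, X.basicOpen g) b =
      X.presheaf.map (homOfLE (le_top : X.basicOpen g ≤ ⊤)).op b := rfl

variable {f} in
theorem der_ext_top [IsAffine X] {D D' : Der f F} (h : D.app ⊤ = D'.app ⊤) : D = D' := by
  refine der_ext fun U s => modules_section_ext F fun x hx => ?_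
  obtain ⟨g, hxg, hgU⟩ := exists_basicOpen_le hx
  refine ⟨X.basicOpen g, hgU, hxg, ?_⟩
  rw [← der_app_map D hgU, ← der_app_map D' hgU]
  refine DFunLike.congr_fun (leibniz_unique (B := Γ(X, ⊤)) (.powers g)
    (RingHom.id Γ(X, X.basicOpen g)) (D.app (X.basicOpen g)) (D'.app (X.basicOpen g))
    (der_app_mul D _) (der_app_mul D' _) fun b => ?_) _
  rw [algebraMap_basicOpen, der_app_map, der_app_map, h]

theorem res_res {A B C : X.Opens} (h₁ : B ≤ A) (h₂ : C ≤ B) (x : Γ(X, A)) :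
    X.presheaf.map (homOfLE h₂).op (X.presheaf.map (homOfLE h₁).op x) =
      X.presheaf.map (homOfLE (h₂.trans h₁)).op x := by
  rw [← ConcreteCategory.comp_apply, ← Functor.map_comp]; rfl

theorem resM_resM {A B C : X.Opens} (h₁ : B ≤ A) (h₂ : C ≤ B) (x : Γ(F, A)) :
    F.presheaf.map (homOfLE h₂).op (F.presheaf.map (homOfLE h₁).op x) =
      F.presheaf.map (homOfLE (h₂.trans h₁)).op x := by
  rw [← ConcreteCategory.comp_apply, ← Functor.map_comp]; rfl

variable (δ : Γ(X, ⊤) →+ Γ(F, ⊤))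

theorem exists_basic_extension [IsAffine X] (hmul : ∀ a b, δ (a * b) = a • δ b + b • δ a)
    (g : Γ(X, ⊤)) :
    ∃ d : Γ(X, X.basicOpen g) →+ Γ(F, X.basicOpen g),
      (∀ x y, d (x * y) = x • d y + y • d x) ∧
      ∀ b, d (X.presheaf.map (homOfLE le_top).op b) = F.presheaf.map (homOfLE le_top).op (δ b) :=
  exists_leibniz_extension (B := Γ(X, ⊤)) (.powers g)
    (((F.presheaf.map (homOfLE (le_top : X.basicOpen g ≤ ⊤)).op).hom).comp δ) fun x y => by
    change F.presheaf.map _ (δ (x * y)) = _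
    rw [hmul, map_add, Scheme.Modules.map_smul, Scheme.Modules.map_smul]
    rfl

theorem basic_extension_natural [IsAffine X] {g g' : Γ(X, ⊤)} (e : X.basicOpen g' ≤ X.basicOpen g)
    (d : Γ(X, X.basicOpen g) →+ Γ(F, X.basicOpen g))
    (d' : Γ(X, X.basicOpen g') →+ Γ(F, X.basicOpen g'))
    (hd : ∀ x y, d (x * y) = x • d y + y • d x) (hd' : ∀ x y, d' (x * y) = x • d' y + y • d' x)
    (hg : ∀ b, d (X.presheaf.map (homOfLE le_top).op b) = F.presheaf.map (homOfLE le_top).op (δ b))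
    (hg' : ∀ b, d' (X.presheaf.map (homOfLE le_top).op b) = F.presheaf.map (homOfLE le_top).op (δ b))
    (s : Γ(X, X.basicOpen g)) :
    d' (X.presheaf.map (homOfLE e).op s) = F.presheaf.map (homOfLE e).op (d s) := by
  refine DFunLike.congr_fun (leibniz_unique (B := Γ(X, ⊤)) (.powers g)
    (X.presheaf.map (homOfLE e).op).hom
    (d'.comp (X.presheaf.map (homOfLE e).op).hom.toAddMonoidHom)
    ((F.presheaf.map (homOfLE e).op).hom.comp d) (fun x y => ?_) (fun x y => ?_) fun b => ?_) s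
  · change d' (X.presheaf.map _ (x * y)) = _
    rw [map_mul, hd']
    rfl
  · change F.presheaf.map _ (d (x * y)) = _
    rw [hd, map_add, Scheme.Modules.map_smul, Scheme.Modules.map_smul]
    rfl
  · change d' (X.presheaf.map (homOfLE e).op (X.presheaf.map (homOfLE le_top).op b)) =
      F.presheaf.map (homOfLE e).op (d (X.presheaf.map (homOfLE le_top).op b))
    rw [res_res, hg', hg, resM_resM]

theorem exists_family [IsAffine X] (hmul : ∀ a b, δ (a * b) = a • δ b + b • δ a) :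
    ∃ d : ∀ U : X.Opens, Γ(X, U) →+ Γ(F, U),
      (∀ (U W : X.Opens) (e : W ≤ U) (s : Γ(X, U)),
        d W (X.presheaf.map (homOfLE e).op s) = F.presheaf.map (homOfLE e).op (d U s)) ∧
      (∀ (U : X.Opens) (a b : Γ(X, U)), d U (a * b) = a • d U b + b • d U a) ∧
      d ⊤ = δ := by
  choose d₀ hd₀ hg₀ using fun g => exists_basic_extension δ hmul g
  let S : TopCat.Presheaf AddCommGrpCat X :=
    X.presheaf ⋙ forget₂ CommRingCat RingCat ⋙ forget₂ RingCat AddCommGrpCat
  let B : Γ(X, ⊤) → X.Opens := X.basicOpen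
  have hB : Opens.IsBasis (Set.range B) := isBasis_basicOpen X
  let α : (inducedFunctor B).op ⋙ S ⟶ (inducedFunctor B).op ⋙ F.presheaf :=
    { app := fun g => AddCommGrpCat.ofHom (d₀ g.unop)
      naturality := fun g g' i => by
        ext s
        exact basic_extension_natural δ i.unop.hom.le (d₀ g.unop) (d₀ g'.unop)
          (hd₀ _) (hd₀ _) (hg₀ _) (hg₀ _) s }
  let β : S ⟶ F.presheaf := TopCat.Sheaf.restrictHomEquivHom S ⟨F.presheaf, F.isSheaf⟩ hB α
  have hβ : ∀ (g : Γ(X, ⊤)) (s : Γ(X, X.basicOpen g)), β.app (op (X.basicOpen g)) s = d₀ g s :=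
    fun g s => congr($(TopCat.Sheaf.extend_hom_app S ⟨F.presheaf, F.isSheaf⟩ hB α g) s)
  let d : ∀ U : X.Opens, Γ(X, U) →+ Γ(F, U) := fun U => (β.app (op U)).hom
  have hmap : ∀ (U W : X.Opens) (e : W ≤ U) (s : Γ(X, U)),
      d W (X.presheaf.map (homOfLE e).op s) = F.presheaf.map (homOfLE e).op (d U s) :=
    fun U W e s => congr($(β.naturality (homOfLE e).op) s)
  refine ⟨d, hmap, fun U a b => ?_, ?_⟩
  · refine modules_section_ext F fun x hx => ?_
    obtain ⟨g, hxg, hgU⟩ := exists_basicOpen_le hx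
    refine ⟨X.basicOpen g, hgU, hxg, ?_⟩
    rw [map_add, Scheme.Modules.map_smul, Scheme.Modules.map_smul, ← hmap, ← hmap, ← hmap, map_mul]
    simp only [d]
    erw [hβ, hβ, hβ, hd₀]
  · ext b
    refine modules_section_ext F fun x hx => ?_
    obtain ⟨g, hxg, hgU⟩ := exists_basicOpen_le hx
    refine ⟨X.basicOpen g, hgU, hxg, ?_⟩
    rw [← hmap]
    exact (hβ g _).trans (hg₀ g b)

variable {δ}

theorem exists_der_of_top [IsAffine X] [IsAffine Y] (hmul : ∀ a b, δ (a * b) = a • δ b + b • δ a)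
    (hbase : ∀ c : Γ(Y, ⊤), δ (f.appTop c) = 0) : ∃ D : Der f F, D.app ⊤ = δ := by
  obtain ⟨d, hmap, hd, htop⟩ := exists_family δ hmul
  refine ⟨derMk d hd hmap fun V c => ?_, ?_⟩
  · refine modules_section_ext F fun x hx => ?_
    obtain ⟨a, hxa, haV⟩ := exists_basicOpen_le (X := Y) (x := f x) (U := V) hx
    have e : f ⁻¹ᵁ Y.basicOpen a ≤ f ⁻¹ᵁ V := f.preimage_mono haV
    refine ⟨f ⁻¹ᵁ Y.basicOpen a, e, hxa, ?_⟩
    rw [map_zero, ← hmap]
    have hc : X.presheaf.map (homOfLE e).op (f.app V c) =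
        f.app (Y.basicOpen a) (Y.presheaf.map (homOfLE haV).op c) :=
      (congr($(f.naturality (homOfLE haV).op) c)).symm
    rw [hc]
    refine DFunLike.congr_fun (leibniz_unique (B := Γ(Y, ⊤)) (.powers a)
      (f.app (Y.basicOpen a)).hom ((d _).comp (f.app (Y.basicOpen a)).hom.toAddMonoidHom) 0
      (fun s t => ?_) (fun s t => ?_) fun b => ?_) _
    · change d _ (f.app _ (s * t)) = _
      rw [map_mul, hd]
      rfl
    · simp
    · change d _ (f.app (Y.basicOpen a) (Y.presheaf.map (homOfLE le_top).op b)) = 0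
      have hb : f.app (Y.basicOpen a) (Y.presheaf.map (homOfLE le_top).op b) =
          X.presheaf.map (homOfLE le_top).op (f.appTop b) :=
        congr($(f.naturality (homOfLE (le_top : Y.basicOpen a ≤ ⊤)).op) b)
      rw [hb]
      refine (hmap _ _ _ _).trans ?_
      rw [htop]
      erw [hbase, map_zero]
  · ext s
    rw [derMk_app, htop]

theorem top_mul (D : Der f F) (a b : Γ(X, ⊤)) : D.app ⊤ (a * b) = a • D.app ⊤ b + b • D.app ⊤ a :=
  der_app_mul D ⊤ a b

theorem top_base (D : Der f F) (c : Γ(Y, ⊤)) : D.app ⊤ (f.appTop c) = 0 :=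
  der_app_app D ⊤ c

end Groth.Agent.Lib.Kaehler.Affine
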