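import Groth.Agent.Lib.Kaehler.Basic
import Groth.Agent.Lib.Kaehler.Affine
import Groth.Agent.Lib.ClSub.Sections
import Mathlib.AlgebraicGeometry.Morphisms.Immersion

/-!
# Descent of derivations along immersions and the conormal sequence
-/

universe u

open CategoryTheory CategoryTheory.Limits AlgebraicGeometry TopologicalSpace Opposite

namespace Groth.Agent.Lib.Kaehler.Descend

open OmegaSh Groth.Agent.Lib.Kaehler.Basic

/-- Gluing a section from a local relation that determines it. -/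
theorem existsUnique_glue {Z : Scheme.{u}} (G : Z.Modules) (W₀ : Z.Opens)
    (R : ∀ W : Z.Opens, W ≤ W₀ → Γ(G, W) → Prop)
    (hres : ∀ (W W' : Z.Opens) (hW : W ≤ W₀) (e : W' ≤ W) (v : Γ(G, W)), R W hW v →
      R W' (e.trans hW) (G.presheaf.map (homOfLE e).op v))
    (huniq : ∀ (W : Z.Opens) (hW : W ≤ W₀) (v v' : Γ(G, W)), R W hW v → R W hW v' → v = v')
    (hex : ∀ z ∈ W₀, ∃ (W : Z.Opens) (hW : W ≤ W₀) (v : Γ(G, W)), z ∈ W ∧ R W hW v) :
    ∃! v : Γ(G, W₀), ∀ (W : Z.Opens) (hW : W ≤ W₀) (v' : Γ(G, W)), R W hW v' →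
      G.presheaf.map (homOfLE hW).op v = v' := by
  choose W hW v hz hv using hex
  obtain ⟨s, hs, -⟩ := TopCat.Sheaf.existsUnique_gluing' (⟨G.presheaf, G.isSheaf⟩ : TopCat.Sheaf Ab.{u} Z)
    (fun z : W₀ => W z.1 z.2) W₀ (fun z => homOfLE (hW z.1 z.2))
    (fun z hz' => Opens.mem_iSup.mpr ⟨⟨z, hz'⟩, hz z hz'⟩) (fun z => v z.1 z.2) (fun z z' => by
      refine huniq _ (inf_le_left.trans (hW z.1 z.2)) _ _ ?_ ?_
      · exact hres _ _ _ inf_le_left _ (hv z.1 z.2)
      · exact hres _ _ _ inf_le_right _ (hv z'.1 z'.2))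
  refine ⟨s, fun W' hW' v' hv' => ?_, fun t ht => ?_⟩
  · refine Affine.modules_section_ext G fun z hz' => ?_
    refine ⟨W' ⊓ W z (hW' hz'), inf_le_left, ⟨hz', hz z (hW' hz')⟩, ?_⟩
    refine Eq.trans ?_ (huniq _ (inf_le_left.trans hW') _ _
      (hres _ _ _ inf_le_right _ (hv z (hW' hz'))) (hres _ _ hW' inf_le_left _ hv'))
    rw [Affine.resM_resM, ← hs ⟨z, hW' hz'⟩]
    exact (Affine.resM_resM _ _ _).symm
  · refine Affine.modules_section_ext G fun z hz' => ?_
    exact ⟨W z hz', hW z hz', hz z hz', (ht _ _ _ (hv z hz')).trans (hs ⟨z, hz'⟩).symm⟩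

variable {Z X : Scheme.{u}} (i : Z ⟶ X)

theorem app_idealSect (V : X.Opens) (k : Γ(ClSub.idealMod i.ker, V)) :
    i.app V (idealSect i.ker V k) = 0 := by
  have h := (ClSub.Sections.mem_range_idealModι_app_iff i.ker V (idealSect i.ker V k)).mp ⟨k, rfl⟩
  have key : ∀ (q : Z ⟶ X), i.toImage ≫ i.ker.subschemeι = q →
      q.app V (idealSect i.ker V k) = 0 := by
    rintro q rfl
    rw [Scheme.Hom.comp_app]
    erw [ConcreteCategory.comp_apply]
    erw [h]
    exact map_zero _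
  exact key _ i.toImage_imageι

theorem appLE_idealSect (V : X.Opens) (W : Z.Opens) (e : W ≤ i ⁻¹ᵁ V)
    (k : Γ(ClSub.idealMod i.ker, V)) : i.appLE V W e (idealSect i.ker V k) = 0 := by
  have h : i.appLE V W e (idealSect i.ker V k) =
      Z.presheaf.map (homOfLE e).op (i.app V (idealSect i.ker V k)) := rfl
  rw [h, app_idealSect, map_zero]

theorem exists_idealSect_eq [QuasiCompact i] (V : X.Opens) (t : Γ(X, V)) (ht : i.app V t = 0) :
    ∃ k : Γ(ClSub.idealMod i.ker, V), idealSect i.ker V k = t := by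
  obtain ⟨k, hk⟩ := (ClSub.Sections.mem_range_idealModι_app_iff i.ker V t).mpr (by
    let ι := i.ker.subschemeι
    refine i.ker.subscheme.sheaf.eq_of_locally_eq'
      (fun W : {W : X.affineOpens // (W : X.Opens) ≤ V} => ι ⁻¹ᵁ (W.1 : X.Opens))
      (ι ⁻¹ᵁ V) (fun W => (Opens.map ι.base).map (homOfLE W.2)) ?_ _ _ ?_
    · intro z hz
      obtain ⟨_, ⟨W, hW, rfl⟩, hzW, hWV⟩ :=
        X.isBasis_affineOpens.exists_subset_of_mem_open hz V.isOpen
      exact Opens.mem_iSup.mpr ⟨⟨⟨W, hW⟩, hWV⟩, hzW⟩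
    · intro W
      change i.ker.subscheme.presheaf.map ((Opens.map ι.base).map (homOfLE W.2)).op (ι.app V t) =
        i.ker.subscheme.presheaf.map ((Opens.map ι.base).map (homOfLE W.2)).op 0
      rw [map_zero, ← ConcreteCategory.comp_apply]
      erw [← Scheme.Hom.naturality ι (homOfLE W.2).op]
      rw [ConcreteCategory.comp_apply]
      have hmem : X.presheaf.map (homOfLE W.2).op t ∈ i.ker.ideal W.1 := by
        rw [Scheme.Hom.ker_apply, RingHom.mem_ker, ← ConcreteCategory.comp_apply]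
        erw [i.naturality, ConcreteCategory.comp_apply, ht, map_zero]
      rw [← Scheme.IdealSheafData.ker_subschemeι_app, RingHom.mem_ker] at hmem
      exact hmem)
  exact ⟨k, hk⟩

/-- Near a point of `Z`, opens of `Z` are traces of opens of `X`. -/
theorem exists_preimage_le [IsPreimmersion i] {W : Z.Opens} {z : Z} (hz : z ∈ W) {V₀ : X.Opens}
    (hzV : z ∈ i ⁻¹ᵁ V₀) : ∃ V ≤ V₀, z ∈ i ⁻¹ᵁ V ∧ i ⁻¹ᵁ V ≤ W := by
  obtain ⟨O, hO, hOW⟩ := i.isEmbedding.isInducing.isOpen_iff.mp W.isOpen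
  refine ⟨⟨O, hO⟩ ⊓ V₀, inf_le_right, ⟨?_, hzV⟩, fun y hy => ?_⟩
  · have : z ∈ i ⁻¹' O := by rw [hOW]; exact hz
    exact this
  · have : y ∈ i ⁻¹' O := hy.1
    rw [hOW] at this
    exact this

/-- Functions on `Z` lift locally along an immersion. -/
theorem exists_local_lift [IsPreimmersion i] {W : Z.Opens} (s : Γ(Z, W)) {z : Z} (hz : z ∈ W) :
    ∃ (V : X.Opens) (t : Γ(X, V)) (h : i ⁻¹ᵁ V ≤ W),
      z ∈ i ⁻¹ᵁ V ∧ i.app V t = Z.presheaf.map (homOfLE h).op s := by
  obtain ⟨a, ha⟩ := i.stalkMap_surjective z (Z.presheaf.germ W z hz s)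
  obtain ⟨V₀, hzV₀, t₀, rfl⟩ := X.presheaf.exists_germ_eq a
  rw [Scheme.Hom.germ_stalkMap_apply] at ha
  obtain ⟨W', hzW', iU, iV, heq⟩ := TopCat.Presheaf.germ_eq _ _ _ _ _ _ ha
  obtain ⟨V, hV₀, hzV, hVW'⟩ := exists_preimage_le i hzW' hzV₀
  refine ⟨V, X.presheaf.map (homOfLE hV₀).op t₀, hVW'.trans iV.le, hzV, ?_⟩
  have h1 : i.app V (X.presheaf.map (homOfLE hV₀).op t₀) =
      Z.presheaf.map (homOfLE (i.preimage_mono hV₀)).op (i.app V₀ t₀) :=
    congr($(i.naturality (homOfLE hV₀).op) t₀)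
  rw [h1]
  have h2 := congrArg (Z.presheaf.map (homOfLE hVW').op) heq
  exact (Affine.res_res iU.le hVW' _).symm.trans (h2.trans (Affine.res_res iV.le hVW' s))

variable {i}
variable {S : Scheme.{u}} {f : X ⟶ S}

/-- `v` is the value at `s` of the descended derivation, witnessed by one lift. -/
def Rel {G : Z.Modules} (D : Der f ((Scheme.Modules.pushforward i).obj G)) (W : Z.Opens)
    (s : Γ(Z, W)) (v : Γ(G, W)) : Prop :=
  ∃ (V : X.Opens) (t : Γ(X, V)) (e : W ≤ i ⁻¹ᵁ V),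
    i.appLE V W e t = s ∧ G.presheaf.map (homOfLE e).op (D.app V t) = v

theorem rel_app {G : Z.Modules} (D : Der f ((Scheme.Modules.pushforward i).obj G)) (V : X.Opens)
    (t : Γ(X, V)) : Rel D (i ⁻¹ᵁ V) (i.app V t) (D.app V t) :=
  ⟨V, t, le_rfl, (congr($(i.app_eq_appLE) t)).symm,
    congr($(G.presheaf.map_id _) (D.app V t))⟩

theorem rel_res {G : Z.Modules} {D : Der f ((Scheme.Modules.pushforward i).obj G)}
    {W W' : Z.Opens} (e : W' ≤ W) {s : Γ(Z, W)} {v : Γ(G, W)} (h : Rel D W s v) :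
    Rel D W' (Z.presheaf.map (homOfLE e).op s) (G.presheaf.map (homOfLE e).op v) := by
  obtain ⟨V, t, e', rfl, rfl⟩ := h
  refine ⟨V, t, e.trans e', ?_, (Affine.resM_resM e' e _).symm⟩
  rw [← ConcreteCategory.comp_apply, Scheme.Hom.appLE_map]

theorem rel_congr {G : Z.Modules} {D : Der f ((Scheme.Modules.pushforward i).obj G)} {W : Z.Opens}
    {s s' : Γ(Z, W)} {v v' : Γ(G, W)} (h : Rel D W s v) (hs : s = s') (hv : v = v') :
    Rel D W s' v' := hs ▸ hv ▸ h

theorem rel_unique [IsPreimmersion i] [QuasiCompact i] {G : Z.Modules}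
    {D : Der f ((Scheme.Modules.pushforward i).obj G)}
    (hD : ∀ (V : X.Opens) (k : Γ(ClSub.idealMod i.ker, V)), D.app V (idealSect i.ker V k) = 0)
    {W : Z.Opens} {s : Γ(Z, W)} {v v' : Γ(G, W)} (h : Rel D W s v) (h' : Rel D W s v') : v = v' := by
  obtain ⟨V, t, e, rfl, rfl⟩ := h
  obtain ⟨V', t', e', he, rfl⟩ := h'
  refine Affine.modules_section_ext G fun z hz => ?_
  obtain ⟨O, hO, hzO, hOW⟩ := exists_preimage_le i (V₀ := V ⊓ V') hz ⟨e hz, e' hz⟩
  refine ⟨i ⁻¹ᵁ O, hOW, hzO, ?_⟩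
  let a := X.presheaf.map (homOfLE (hO.trans inf_le_left)).op t
  let a' := X.presheaf.map (homOfLE (hO.trans inf_le_right)).op t'
  have h0 : i.app O (a - a') = 0 := by
    have h1 : i.app O a = Z.presheaf.map (homOfLE hOW).op (i.appLE V W e t) := by
      simp only [a, ← ConcreteCategory.comp_apply, Scheme.Hom.appLE_map,
        Scheme.Hom.app_eq_appLE, Scheme.Hom.map_appLE]
    have h2 : i.app O a' = Z.presheaf.map (homOfLE hOW).op (i.appLE V' W e' t') := by
      simp only [a', ← ConcreteCategory.comp_apply, Scheme.Hom.appLE_map,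
        Scheme.Hom.app_eq_appLE, Scheme.Hom.map_appLE]
    rw [map_sub, h1, h2, he, sub_self]
  obtain ⟨k, hk⟩ := exists_idealSect_eq i O (a - a') h0
  have h3 := hD O k
  rw [hk, map_sub, sub_eq_zero] at h3
  refine (Affine.resM_resM e hOW _).trans (Eq.trans ?_ (Affine.resM_resM e' hOW _).symm)
  exact (der_app_map D (hO.trans inf_le_left) t).symm.trans
    (h3.trans (der_app_map D (hO.trans inf_le_right) t'))

/-- A derivation on `X` killing the ideal of `Z` descends to `Z`. -/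
theorem exists_der_descend [IsPreimmersion i] [QuasiCompact i] {G : Z.Modules}
    (D : Der f ((Scheme.Modules.pushforward i).obj G))
    (hD : ∀ (V : X.Opens) (k : Γ(ClSub.idealMod i.ker, V)), D.app V (idealSect i.ker V k) = 0) :
    ∃ D' : Der (i ≫ f) G, derPush i (𝟙 S) (Category.comp_id _) D' = D := by
  have glue : ∀ (W : Z.Opens) (s : Γ(Z, W)), ∃! v : Γ(G, W),
      ∀ (W' : Z.Opens) (e : W' ≤ W) (v' : Γ(G, W')),
        Rel D W' (Z.presheaf.map (homOfLE e).op s) v' → G.presheaf.map (homOfLE e).op v = v' := by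
    intro W s
    refine existsUnique_glue G W (fun W' e v' => Rel D W' (Z.presheaf.map (homOfLE e).op s) v')
      (fun W' W'' e e' v' h => ?_) (fun W' e v v' h h' => rel_unique hD h h') (fun z hz => ?_)
    · have := rel_res e' h
      rwa [← ConcreteCategory.comp_apply, ← Functor.map_comp] at this
    · obtain ⟨V, t, h, hzV, ht⟩ := exists_local_lift i s hz
      exact ⟨i ⁻¹ᵁ V, h, D.app V t, hzV, ht ▸ rel_app D V t⟩
  choose val hval hval' using glue
  -- a value which satisfies the relation locally is the value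
  have key : ∀ (W : Z.Opens) (s : Γ(Z, W)) (v : Γ(G, W)),
      (∀ z ∈ W, ∃ (W' : Z.Opens) (e : W' ≤ W), z ∈ W' ∧
        Rel D W' (Z.presheaf.map (homOfLE e).op s) (G.presheaf.map (homOfLE e).op v)) →
      val W s = v := by
    intro W s v hv
    refine Affine.modules_section_ext G fun z hz => ?_
    obtain ⟨W', e, hzW', hW'⟩ := hv z hz
    exact ⟨W', e, hzW', hval W s W' e _ hW'⟩
  have loc : ∀ (W : Z.Opens) (s : Γ(Z, W)), ∀ z ∈ W, ∃ (V : X.Opens) (t : Γ(X, V))
      (h : i ⁻¹ᵁ V ≤ W), z ∈ i ⁻¹ᵁ V ∧ i.app V t = Z.presheaf.map (homOfLE h).op s ∧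
        G.presheaf.map (homOfLE h).op (val W s) = D.app V t := by
    intro W s z hz
    obtain ⟨V, t, h, hzV, ht⟩ := exists_local_lift i s hz
    exact ⟨V, t, h, hzV, ht, hval W s _ h _ (ht ▸ rel_app D V t)⟩
  have loc₂ : ∀ (W : Z.Opens) (a b : Γ(Z, W)), ∀ z ∈ W, ∃ (V : X.Opens) (t u : Γ(X, V))
      (h : i ⁻¹ᵁ V ≤ W), z ∈ i ⁻¹ᵁ V ∧ i.app V t = Z.presheaf.map (homOfLE h).op a ∧
        G.presheaf.map (homOfLE h).op (val W a) = D.app V t ∧
        i.app V u = Z.presheaf.map (homOfLE h).op b ∧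
        G.presheaf.map (homOfLE h).op (val W b) = D.app V u := by
    intro W a b z hz
    obtain ⟨V₁, t₁, h₁, hz₁, ht₁, hv₁⟩ := loc W a z hz
    obtain ⟨V₂, t₂, h₂, hz₂, ht₂, hv₂⟩ := loc W b z hz
    refine ⟨V₁ ⊓ V₂, X.presheaf.map (homOfLE inf_le_left).op t₁,
      X.presheaf.map (homOfLE inf_le_right).op t₂,
      (i.preimage_mono inf_le_left).trans h₁, ⟨hz₁, hz₂⟩, ?_, ?_, ?_, ?_⟩
    · refine (congr($(i.naturality (homOfLE (inf_le_left : V₁ ⊓ V₂ ≤ V₁)).op) t₁)).trans ?_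
      rw [ConcreteCategory.comp_apply, ht₁]
      exact (ConcreteCategory.comp_apply _ _ _).symm.trans (by rw [← Functor.map_comp]; rfl)
    · rw [der_app_map, ← hv₁]
      exact (Affine.resM_resM h₁ (i.preimage_mono inf_le_left) _).symm
    · refine (congr($(i.naturality (homOfLE (inf_le_right : V₁ ⊓ V₂ ≤ V₂)).op) t₂)).trans ?_
      rw [ConcreteCategory.comp_apply, ht₂]
      exact (ConcreteCategory.comp_apply _ _ _).symm.trans (by rw [← Functor.map_comp]; rfl)
    · rw [der_app_map, ← hv₂]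
      exact (Affine.resM_resM h₂ (i.preimage_mono inf_le_right) _).symm
  refine ⟨derMk (fun W => AddMonoidHom.mk' (val W) fun a b => ?_) (fun W a b => ?_)
    (fun W W' e s => ?_) (fun V c => ?_), ?_⟩
  · refine key _ _ _ fun z hz => ?_
    obtain ⟨V, t, u, h, hzV, ht, hvt, hu, hvu⟩ := loc₂ W a b z hz
    refine ⟨i ⁻¹ᵁ V, h, hzV, ?_⟩
    rw [map_add, map_add, hvt, hvu, ← ht, ← hu, ← map_add]
    have h1 := rel_app D V (t + u)
    erw [map_add (D.app V)] at h1
    exact h1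
  · refine key _ _ _ fun z hz => ?_
    obtain ⟨V, t, u, h, hzV, ht, hvt, hu, hvu⟩ := loc₂ W a b z hz
    refine ⟨i ⁻¹ᵁ V, h, hzV, ?_⟩
    have h1 := rel_app D V (t * u)
    rw [map_mul, ht, hu, ← map_mul, der_app_mul] at h1
    refine rel_congr h1 rfl (Eq.symm ?_)
    change G.presheaf.map (homOfLE h).op (a • val W b + b • val W a) = _
    rw [map_add, Scheme.Modules.map_smul, Scheme.Modules.map_smul, hvt, hvu, ← ht, ← hu]
    rfl
  · refine key _ _ _ fun z hz => ?_
    obtain ⟨V, t, h, hzV, ht, hvt⟩ := loc W s z (e hz)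
    refine ⟨i ⁻¹ᵁ V ⊓ W', inf_le_right, ⟨hzV, hz⟩, ?_⟩
    have h1 := rel_res (inf_le_left : i ⁻¹ᵁ V ⊓ W' ≤ i ⁻¹ᵁ V) (rel_app D V t)
    rw [ht, ← hvt] at h1
    refine rel_congr h1 ?_ ?_
    · rw [← ConcreteCategory.comp_apply, ← ConcreteCategory.comp_apply, ← Functor.map_comp,
        ← Functor.map_comp]
      rfl
    · exact (Affine.resM_resM _ _ _).trans (Affine.resM_resM _ _ _).symm
  · refine key _ _ _ fun z hz => ?_
    refine ⟨(i ≫ f) ⁻¹ᵁ V, le_rfl, hz, ?_⟩
    have h1 := rel_app D (f ⁻¹ᵁ V) (f.app V c)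
    rw [der_app_app] at h1
    exact rel_congr h1 (congr($(Z.presheaf.map_id _) _)).symm (map_zero _).symm
  · refine der_ext fun V t => ?_
    refine key _ _ _ fun z hz => ⟨i ⁻¹ᵁ V, le_rfl, hz, ?_⟩
    have h1 := rel_app D V t
    exact rel_congr h1 (congr($(Z.presheaf.map_id _) _)).symm (congr($(G.presheaf.map_id _) _)).symm

theorem derPush_injective [IsPreimmersion i] {G : Z.Modules} :
    Function.Injective (derPush (f := f) (f' := i ≫ f) i (𝟙 S) (Category.comp_id _) (G := G)) := by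
  intro D D' h
  refine der_ext fun W s => Affine.modules_section_ext G fun z hz => ?_
  obtain ⟨V, t, e, hzV, ht⟩ := exists_local_lift i s hz
  refine ⟨i ⁻¹ᵁ V, e, hzV, ?_⟩
  rw [← der_app_map D e, ← der_app_map D' e, ← ht]
  exact congrArg (fun E : Der f ((Scheme.Modules.pushforward i).obj G) => E.app V t) h

variable {ΩX : X.Modules} {dX : Der f ΩX} {ΩZ : Z.Modules} {dZ : Der (i ≫ f) ΩZ}
  {φ : Omega.conormal i ⟶ (Scheme.Modules.pullback i).obj ΩX}
  {c : (Scheme.Modules.pullback i).obj ΩX ⟶ ΩZ}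

theorem conormal_hom_ext {M : Z.Modules} {a b : Omega.conormal i ⟶ M}
    (h : ∀ (V : X.Opens) (k : Γ(ClSub.idealMod i.ker, V)),
      a.app (i ⁻¹ᵁ V) (conormalSect i V k) = b.app (i ⁻¹ᵁ V) (conormalSect i V k)) : a = b := by
  apply ((Scheme.Modules.pullbackPushforwardAdjunction i).homEquiv (ClSub.idealMod i.ker) M).injective
  refine Scheme.Modules.hom_ext _ _ fun V => ?_
  ext k
  exact (homEquiv_app (h := i) a V k).trans ((h V k).trans (homEquiv_app (h := i) b V k).symm)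

theorem comp_app_conormalSect (hφ : IsConormalDiff i dX φ) {M : Z.Modules}
    (k : (Scheme.Modules.pullback i).obj ΩX ⟶ M) (V : X.Opens) (s : Γ(ClSub.idealMod i.ker, V)) :
    (φ ≫ k).app (i ⁻¹ᵁ V) (conormalSect i V s) =
      k.app (i ⁻¹ᵁ V) (pullSect i ΩX V (dX.app V (idealSect i.ker V s))) := by
  change k.app _ (φ.app _ _) = _
  rw [hφ V s]

theorem zero (hφ : IsConormalDiff i dX φ) (hc : IsDiffCompat i dX dZ c) : φ ≫ c = 0 := by
  refine conormal_hom_ext fun V s => ?_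
  rw [comp_app_conormalSect hφ, hc V _, app_idealSect, map_zero]
  rfl

theorem exists_desc [IsPreimmersion i] [QuasiCompact i] (hφ : IsConormalDiff i dX φ)
    {G : Z.Modules} (k : (Scheme.Modules.pullback i).obj ΩX ⟶ G) (hk : φ ≫ k = 0) :
    ∃ D : Der (i ≫ f) G, derPush i (𝟙 S) (Category.comp_id _) D =
      derComp dX ((Scheme.Modules.pullbackPushforwardAdjunction i).homEquiv ΩX G k) := by
  refine exists_der_descend _ fun V s => ?_
  rw [derComp_app, homEquiv_app, ← comp_app_conormalSect hφ k, hk]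
  rfl

variable [IsPreimmersion i] [QuasiCompact i] (hX : IsUniversal dX) (hZ : IsUniversal dZ)
  (hφ : IsConormalDiff i dX φ) (hc : IsDiffCompat i dX dZ c)

omit [QuasiCompact i] in
include hZ hc in
theorem cancel_c {G : Z.Modules} {a b : ΩZ ⟶ G} (h : c ≫ a = c ≫ b) : a = b := by
  refine ((isUniversal_iff dZ).mp hZ G).1 (derPush_injective (i := i) (f := f) ?_)
  simp only [derPush_derComp]
  rw [← (isDiffCompat_iff (Category.comp_id (i ≫ f)) dX dZ c).mp hc, derComp_comp, derComp_comp,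
    ← Adjunction.homEquiv_naturality_right, ← Adjunction.homEquiv_naturality_right, h]

include hX in
omit [IsPreimmersion i] [QuasiCompact i] in
theorem comp_univDesc (hc : IsDiffCompat i dX dZ c) {G : Z.Modules}
    (k : (Scheme.Modules.pullback i).obj ΩX ⟶ G) (l : ΩZ ⟶ G)
    (hl : derPush i (𝟙 S) (Category.comp_id _) (derComp dZ l) =
      derComp dX ((Scheme.Modules.pullbackPushforwardAdjunction i).homEquiv ΩX G k)) : c ≫ l = k := by
  apply ((Scheme.Modules.pullbackPushforwardAdjunction i).homEquiv ΩX G).injective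
  apply ((isUniversal_iff dX).mp hX _).1
  change derComp dX _ = derComp dX _
  rw [← hl, derPush_derComp, ← (isDiffCompat_iff (Category.comp_id (i ≫ f)) dX dZ c).mp hc,
    derComp_comp, Adjunction.homEquiv_naturality_right]

/-- `Ω_{Z/S}` is the cokernel of the conormal map. -/
noncomputable def isCokernel : IsColimit (CokernelCofork.ofπ (f := φ) c (zero hφ hc)) :=
  CokernelCofork.IsColimit.ofπ _ _
    (fun {G} k hk => univDesc hZ (exists_desc hφ k hk).choose)
    (fun {G} k hk => comp_univDesc hX hc k _ (by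
      rw [derComp_univDesc]
      exact (exists_desc hφ k hk).choose_spec))
    (fun {G} k hk m hm => cancel_c hZ hc (hm.trans (comp_univDesc hX hc k _ (by
      rw [derComp_univDesc]
      exact (exists_desc hφ k hk).choose_spec)).symm))

include hX hZ hφ hc in
theorem epi_and_exact : Epi c ∧ (ShortComplex.mk φ c (zero hφ hc)).Exact :=
  ⟨Cofork.IsColimit.epi (isCokernel hX hZ hφ hc),
    ShortComplex.exact_of_g_is_cokernel _ (isCokernel hX hZ hφ hc)⟩

end Groth.Agent.Lib.Kaehler.Descend
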