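import Groth.Agent.Lib.Kaehler.Basic
import Mathlib.CategoryTheory.Abelian.Exact

/-!
# The exact sequence of differentials of a composite
-/

universe u

open CategoryTheory CategoryTheory.Limits AlgebraicGeometry TopologicalSpace Opposite

namespace Groth.Agent.Lib.Kaehler.Seq

open OmegaSh Groth.Agent.Lib.Kaehler.Basic

variable {X Y Z : Scheme.{u}} (f : X ⟶ Y) (g : Y ⟶ Z)

theorem pullbackId_inv_app (M : X.Modules) (U : X.Opens) (x : Γ(M, U)) :
    ((Scheme.Modules.pullbackId X).inv.app M).app U x = pullSect (𝟙 X) M U x := by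
  have key := unit_conjugateEquiv (Adjunction.id (C := X.Modules))
    (Scheme.Modules.pullbackPushforwardAdjunction (𝟙 X)) (Scheme.Modules.pullbackId X).hom M
  rw [Scheme.Modules.conjugateEquiv_pullbackId_hom] at key
  have h : ((Scheme.Modules.pullbackId X).hom.app M).app U (pullSect (𝟙 X) M U x) = x :=
    congr(($key).app U x).symm
  have h' := congrArg (((Scheme.Modules.pullbackId X).inv.app M).app U) h
  exact h'.symm.trans (congrArg (fun φ => Scheme.Modules.Hom.app φ U (pullSect (𝟙 X) M U x))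
    ((Scheme.Modules.pullbackId X).hom_inv_id_app M))

variable {f g}

/-- A derivation relative to `f` is one relative to `f ≫ g`. -/
noncomputable def derOfBase {G : X.Modules} (D : Der f G) : Der (f ≫ g) G :=
  derMk (fun U => D.app U) (fun U => der_app_mul D U) (fun _ _ e => der_app_map D e)
    (fun V c => der_app_app D (g ⁻¹ᵁ V) (g.app V c))

@[simp] theorem derOfBase_app {G : X.Modules} (D : Der f G) (U : X.Opens) (s : Γ(X, U)) :
    (derOfBase (g := g) D).app U s = D.app U s := rfl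

variable {ΩY : Y.Modules} {dY : Der g ΩY} {ΩX : X.Modules} {dX : Der (f ≫ g) ΩX}
  {ΩXY : X.Modules} {dXY : Der f ΩXY}

/-- `Ω_{X/Z} ⟶ Ω_{X/Y}`, with the identity pullback removed. -/
noncomputable abbrev bar (c₂ : (Scheme.Modules.pullback (𝟙 X)).obj ΩX ⟶ ΩXY) : ΩX ⟶ ΩXY :=
  (Scheme.Modules.pullbackId X).inv.app ΩX ≫ c₂

theorem bar_app {c₂ : (Scheme.Modules.pullback (𝟙 X)).obj ΩX ⟶ ΩXY}
    (hc₂ : IsDiffCompat (𝟙 X) dX dXY c₂) (U : X.Opens) (s : Γ(X, U)) :
    (bar c₂).app U (dX.app U s) = dXY.app U s := by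
  change c₂.app U (((Scheme.Modules.pullbackId X).inv.app ΩX).app U (dX.app U s)) = _
  rw [pullbackId_inv_app]
  exact hc₂ U s

variable {c₁ : (Scheme.Modules.pullback f).obj ΩY ⟶ ΩX}
  {c₂ : (Scheme.Modules.pullback (𝟙 X)).obj ΩX ⟶ ΩXY}

theorem comp_app_pullSect (hc₁ : IsDiffCompat f dY dX c₁) {G : X.Modules} (k : ΩX ⟶ G)
    (U : Y.Opens) (s : Γ(Y, U)) :
    (c₁ ≫ k).app (f ⁻¹ᵁ U) (pullSect f ΩY U (dY.app U s)) =
      k.app (f ⁻¹ᵁ U) (dX.app (f ⁻¹ᵁ U) (f.app U s)) := by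
  change k.app _ (c₁.app _ _) = _
  rw [hc₁ U s]

theorem zero (hY : IsUniversal dY) (hc₁ : IsDiffCompat f dY dX c₁)
    (hc₂ : IsDiffCompat (𝟙 X) dX dXY c₂) : c₁ ≫ bar c₂ = 0 := by
  apply ((Scheme.Modules.pullbackPushforwardAdjunction f).homEquiv ΩY ΩXY).injective
  refine universal_hom_ext hY fun U s => ?_
  rw [homEquiv_app, homEquiv_app, comp_app_pullSect hc₁, bar_app hc₂, der_app_app]
  rfl

variable (hY : IsUniversal dY) (hX : IsUniversal dX) (hXY : IsUniversal dXY)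
  (hc₁ : IsDiffCompat f dY dX c₁) (hc₂ : IsDiffCompat (𝟙 X) dX dXY c₂)

include hc₁ in
theorem exists_desc {G : X.Modules} (k : ΩX ⟶ G) (hk : c₁ ≫ k = 0) :
    ∃ D : Der f G, ∀ (U : X.Opens) (s : Γ(X, U)), D.app U s = k.app U (dX.app U s) :=
  ⟨derMk (fun U => (k.app U).hom.comp (dX.app U)) (fun U => der_app_mul (derComp dX k) U)
    (fun _ _ e => der_app_map (derComp dX k) e) (fun V c => by
      change k.app (f ⁻¹ᵁ V) (dX.app (f ⁻¹ᵁ V) (f.app V c)) = 0
      rw [← comp_app_pullSect hc₁ k V c, hk]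
      rfl), fun _ _ => rfl⟩

include hXY hc₂ in
theorem cancel_bar {G : X.Modules} {a b : ΩXY ⟶ G} (h : bar c₂ ≫ a = bar c₂ ≫ b) : a = b := by
  refine universal_hom_ext hXY fun U s => ?_
  rw [← bar_app hc₂]
  exact congrArg (fun φ : ΩX ⟶ G => φ.app U (dX.app U s)) h

/-- `Ω_{X/Y}` is the cokernel of `f^* Ω_{Y/Z} ⟶ Ω_{X/Z}`. -/
noncomputable def isCokernel :
    IsColimit (CokernelCofork.ofπ (f := c₁) (bar c₂) (zero hY hc₁ hc₂)) :=
  CokernelCofork.IsColimit.ofπ _ _
    (fun {G} k hk => univDesc hXY (exists_desc hc₁ k hk).choose)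
    (fun {G} k hk => universal_hom_ext hX fun U s => by
      change (univDesc hXY _).app U ((bar c₂).app U (dX.app U s)) = k.app U (dX.app U s)
      rw [bar_app hc₂, univDesc_app, (exists_desc hc₁ k hk).choose_spec])
    (fun {G} k hk m hm => cancel_bar hXY hc₂ (hm.trans (universal_hom_ext hX fun U s => by
      change k.app U (dX.app U s) = (univDesc hXY _).app U ((bar c₂).app U (dX.app U s))
      rw [bar_app hc₂, univDesc_app, (exists_desc hc₁ k hk).choose_spec])))

include hY hX hXY hc₁ hc₂ in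
theorem epi_bar : Epi (bar c₂) :=
  Cofork.IsColimit.epi (isCokernel hY hX hXY hc₁ hc₂)

include hY hX hXY hc₁ hc₂ in
theorem exact : (ShortComplex.mk c₁ (bar c₂) (zero hY hc₁ hc₂)).Exact :=
  ShortComplex.exact_of_g_is_cokernel _ (isCokernel hY hX hXY hc₁ hc₂)

include hY hX hXY hc₁ hc₂ in
theorem image_eq_kernel : imageSubobject c₁ = kernelSubobject (bar c₂) :=
  (ShortComplex.exact_iff_image_eq_kernel _).mp (exact hY hX hXY hc₁ hc₂)

include hY hX hXY hc₁ hc₂ in
theorem epi_c₂ : Epi c₂ :=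
  have := epi_bar hY hX hXY hc₁ hc₂
  epi_of_epi ((Scheme.Modules.pullbackId X).inv.app ΩX) c₂

include hY hX hXY hc₁ hc₂ in
theorem epi_iff_isZero : Epi c₁ ↔ IsZero ΩXY := by
  constructor
  · intro h
    have := epi_bar hY hX hXY hc₁ hc₂
    exact IsZero.of_epi_eq_zero _ ((cancel_epi c₁).mp ((zero hY hc₁ hc₂).trans comp_zero.symm))
  · intro h
    refine Preadditive.epi_of_cancel_zero _ fun {G} k hk => ?_
    let l := CokernelCofork.IsColimit.desc' (isCokernel hY hX hXY hc₁ hc₂) k hk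
    rw [← l.2, h.eq_of_src l.1 0]
    exact comp_zero

end Groth.Agent.Lib.Kaehler.Seq
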