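import Groth.Agent.Lib.Kaehler.Conormal
import Groth.Agent.Lib.Kaehler.Seq

/-!
# The conormal sequence of a composite of immersions
-/

universe u

open CategoryTheory CategoryTheory.Limits AlgebraicGeometry TopologicalSpace Opposite

namespace Groth.Agent.Lib.Kaehler.ConormalTriple

open OmegaSh Groth.Agent.Lib.Kaehler.Basic

variable {Y' Y X : Scheme.{u}} (f : Y ⟶ X) (j : Y' ⟶ Y) {G : Y'.Modules}
  (k : Omega.conormal (j ≫ f) ⟶ G)

/-- `v` is the value of `k` on a lift of `s` to an ideal section on `X`. -/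
def Rel (V : Y.Opens) (s : Γ(ClSub.idealMod j.ker, V)) (W : Y'.Opens) (v : Γ(G, W)) : Prop :=
  ∃ (U : X.Opens) (eU : f ⁻¹ᵁ U ≤ V) (b : Γ(ClSub.idealMod (j ≫ f).ker, U))
    (eW : W ≤ (j ≫ f) ⁻¹ᵁ U),
    f.app U (idealSect (j ≫ f).ker U b) =
        Y.presheaf.map (homOfLE eU).op (idealSect j.ker V s) ∧
      v = G.presheaf.map (homOfLE eW).op (k.app _ (conormalSect (j ≫ f) U b))

variable {f j k}

theorem rel_res {V : Y.Opens} {s : Γ(ClSub.idealMod j.ker, V)} {W W' : Y'.Opens} (e : W' ≤ W)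
    {v : Γ(G, W)} (h : Rel f j k V s W v) :
    Rel f j k V s W' (G.presheaf.map (homOfLE e).op v) := by
  obtain ⟨U, eU, b, eW, hb, rfl⟩ := h
  exact ⟨U, eU, b, e.trans eW, hb, Affine.resM_resM eW e _⟩

variable (f j k) in
/-- `k` kills the image of the conormal sheaf of `f`. -/
def Kills : Prop :=
  ∀ (U : X.Opens) (c : Γ(ClSub.idealMod f.ker, U)) (b : Γ(ClSub.idealMod (j ≫ f).ker, U)),
    idealSect (j ≫ f).ker U b = idealSect f.ker U c →
      k.app _ (conormalSect (j ≫ f) U b) = 0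

variable [IsPreimmersion f] [QuasiCompact f] [QuasiCompact j]

theorem rel_unique (hk : Kills f j k) {V : Y.Opens} {s : Γ(ClSub.idealMod j.ker, V)}
    {W : Y'.Opens} {v v' : Γ(G, W)} (h : Rel f j k V s W v) (h' : Rel f j k V s W v') : v = v' := by
  obtain ⟨U₁, eU₁, b₁, eW₁, hb₁, rfl⟩ := h
  obtain ⟨U₂, eU₂, b₂, eW₂, hb₂, rfl⟩ := h'
  let b := (ClSub.idealMod (j ≫ f).ker).presheaf.map
      (homOfLE (inf_le_left : U₁ ⊓ U₂ ≤ U₁)).op b₁ -
    (ClSub.idealMod (j ≫ f).ker).presheaf.map (homOfLE (inf_le_right : U₁ ⊓ U₂ ≤ U₂)).op b₂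
  have h0 : f.app (U₁ ⊓ U₂) (idealSect (j ≫ f).ker _ b) = 0 := by
    rw [map_sub, Conormal.idealSect_map, Conormal.idealSect_map, map_sub, sub_eq_zero]
    refine (congr($(f.naturality (homOfLE inf_le_left).op) _)).trans
      (Eq.trans ?_ (congr($(f.naturality (homOfLE inf_le_right).op) _)).symm)
    rw [ConcreteCategory.comp_apply, ConcreteCategory.comp_apply, hb₁, hb₂]
    exact (Affine.res_res eU₁ (f.preimage_mono inf_le_left) _).trans
      (Affine.res_res eU₂ (f.preimage_mono inf_le_right) _).symm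
  obtain ⟨c, hc⟩ := Descend.exists_idealSect_eq f _ _ h0
  have h1 := hk _ c b hc.symm
  rw [map_sub, map_sub, sub_eq_zero, Conormal.conormalSect_map, Conormal.conormalSect_map] at h1
  have e : W ≤ (j ≫ f) ⁻¹ᵁ (U₁ ⊓ U₂) := fun y hy => ⟨eW₁ hy, eW₂ hy⟩
  have h2 := congrArg (G.presheaf.map (homOfLE e).op) h1
  have hn : ∀ {A B : Y'.Opens} (le : B ≤ A) (x : Γ(Omega.conormal (j ≫ f), A)),
      k.app B ((Omega.conormal (j ≫ f)).presheaf.map (homOfLE le).op x) =
        G.presheaf.map (homOfLE le).op (k.app A x) :=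
    fun le x => congr($(k.mapPresheaf.naturality (homOfLE le).op) x)
  rw [hn, hn] at h2
  exact (Affine.resM_resM _ e _).symm.trans (h2.trans (Affine.resM_resM _ e _))

theorem exists_lift (V : Y.Opens) (s : Γ(ClSub.idealMod j.ker, V)) {z : Y'} (hz : z ∈ j ⁻¹ᵁ V) :
    ∃ (U : X.Opens) (eU : f ⁻¹ᵁ U ≤ V) (b : Γ(ClSub.idealMod (j ≫ f).ker, U)),
      z ∈ (j ≫ f) ⁻¹ᵁ U ∧ f.app U (idealSect (j ≫ f).ker U b) =
        Y.presheaf.map (homOfLE eU).op (idealSect j.ker V s) := by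
  haveI : QuasiCompact (j ≫ f) := inferInstance
  obtain ⟨U, t, e, hzU, ht⟩ := Descend.exists_local_lift f (idealSect j.ker V s) hz
  have h0 : (j ≫ f).app U t = 0 := by
    change j.app _ (f.app U t) = 0
    rw [ht]
    refine (congr($(j.naturality (homOfLE e).op) _)).trans ?_
    rw [ConcreteCategory.comp_apply, Descend.app_idealSect, map_zero]
  obtain ⟨b, hb⟩ := Descend.exists_idealSect_eq (j ≫ f) U t h0
  exact ⟨U, e, b, hzU, by rw [hb, ht]⟩

theorem exists_desc (hk : Kills f j k) :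
    ∃ r : Omega.conormal j ⟶ G, ∀ (U : X.Opens) (b : Γ(ClSub.idealMod (j ≫ f).ker, U))
      (s : Γ(ClSub.idealMod j.ker, f ⁻¹ᵁ U)),
      idealSect j.ker _ s = f.app U (idealSect (j ≫ f).ker U b) →
        r.app (j ⁻¹ᵁ (f ⁻¹ᵁ U)) (conormalSect j _ s) = k.app _ (conormalSect (j ≫ f) U b) := by
  have glue : ∀ (V : Y.Opens) (s : Γ(ClSub.idealMod j.ker, V)), ∃! v : Γ(G, j ⁻¹ᵁ V),
      ∀ (W : Y'.Opens) (e : W ≤ j ⁻¹ᵁ V) (v' : Γ(G, W)),
        Rel f j k V s W v' → G.presheaf.map (homOfLE e).op v = v' := by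
    intro V s
    refine Descend.existsUnique_glue G (j ⁻¹ᵁ V) (fun W _ v' => Rel f j k V s W v')
      (fun W W' _ e v h => rel_res e h) (fun W _ v v' h h' => rel_unique hk h h') (fun z hz => ?_)
    obtain ⟨U, eU, b, hzU, hb⟩ := exists_lift (f := f) V s hz
    exact ⟨(j ≫ f) ⁻¹ᵁ U, j.preimage_mono eU, _, hzU, U, eU, b, le_rfl, hb,
      (congr($(G.presheaf.map_id _) _)).symm⟩
  choose val hval hval' using glue
  have hval₁ : ∀ {V : Y.Opens} {s : Γ(ClSub.idealMod j.ker, V)} {U : X.Opens} (eU : f ⁻¹ᵁ U ≤ V)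
      (b : Γ(ClSub.idealMod (j ≫ f).ker, U)),
      f.app U (idealSect (j ≫ f).ker U b) =
          Y.presheaf.map (homOfLE eU).op (idealSect j.ker V s) →
      G.presheaf.map (homOfLE (j.preimage_mono eU)).op (val V s) =
        k.app _ (conormalSect (j ≫ f) U b) := fun eU b hb =>
    hval _ _ _ _ _ ⟨_, eU, b, le_rfl, hb, (congr($(G.presheaf.map_id _) _)).symm⟩
  let η : ClSub.idealMod j.ker ⟶ (Scheme.Modules.pushforward j).obj G := Conormal.mkHom
    (fun V => AddMonoidHom.mk' (val V) fun s t => by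
      refine Affine.modules_section_ext G fun z hz => ?_
      obtain ⟨U₁, e₁, b₁, hz₁, hb₁⟩ := exists_lift (f := f) V s hz
      obtain ⟨U₂, e₂, b₂, hz₂, hb₂⟩ := exists_lift (f := f) V t hz
      have e : f ⁻¹ᵁ (U₁ ⊓ U₂) ≤ V := (f.preimage_mono inf_le_left).trans e₁
      refine ⟨(j ≫ f) ⁻¹ᵁ (U₁ ⊓ U₂), j.preimage_mono e, ⟨hz₁, hz₂⟩, ?_⟩
      let c₁ := (ClSub.idealMod (j ≫ f).ker).presheaf.map
        (homOfLE (inf_le_left : U₁ ⊓ U₂ ≤ U₁)).op b₁
      let c₂ := (ClSub.idealMod (j ≫ f).ker).presheaf.map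
        (homOfLE (inf_le_right : U₁ ⊓ U₂ ≤ U₂)).op b₂
      have hc₁ : f.app _ (idealSect (j ≫ f).ker _ c₁) =
          Y.presheaf.map (homOfLE e).op (idealSect j.ker V s) := by
        rw [Conormal.idealSect_map]
        refine (congr($(f.naturality (homOfLE inf_le_left).op) _)).trans ?_
        rw [ConcreteCategory.comp_apply, hb₁]
        exact Affine.res_res e₁ _ _
      have hc₂ : f.app _ (idealSect (j ≫ f).ker _ c₂) =
          Y.presheaf.map (homOfLE e).op (idealSect j.ker V t) := by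
        rw [Conormal.idealSect_map]
        refine (congr($(f.naturality (homOfLE inf_le_right).op) _)).trans ?_
        rw [ConcreteCategory.comp_apply, hb₂]
        exact Affine.res_res e₂ _ _
      erw [map_add (G.presheaf.map (homOfLE (j.preimage_mono e)).op).hom]
      erw [hval₁ e c₁ hc₁, hval₁ e c₂ hc₂]
      refine (hval₁ e (c₁ + c₂) ?_).trans (by rw [map_add, map_add]; rfl)
      simp only [map_add, hc₁, hc₂])
    (fun V r s => by
      change val V (r • s) = j.app V r • val V s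
      refine Affine.modules_section_ext G fun z hz => ?_
      obtain ⟨U₁, e₁, b₁, hz₁, hb₁⟩ := exists_lift (f := f) V s hz
      obtain ⟨U₂, r₀, e₂, hz₂, hr₀⟩ := Descend.exists_local_lift f r hz
      have e : f ⁻¹ᵁ (U₁ ⊓ U₂) ≤ V := (f.preimage_mono inf_le_left).trans e₁
      refine ⟨(j ≫ f) ⁻¹ᵁ (U₁ ⊓ U₂), j.preimage_mono e, ⟨hz₁, hz₂⟩, ?_⟩
      let c₁ := (ClSub.idealMod (j ≫ f).ker).presheaf.map
        (homOfLE (inf_le_left : U₁ ⊓ U₂ ≤ U₁)).op b₁
      let r₁ := X.presheaf.map (homOfLE (inf_le_right : U₁ ⊓ U₂ ≤ U₂)).op r₀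
      have hc₁ : f.app _ (idealSect (j ≫ f).ker _ c₁) =
          Y.presheaf.map (homOfLE e).op (idealSect j.ker V s) := by
        rw [Conormal.idealSect_map]
        refine (congr($(f.naturality (homOfLE inf_le_left).op) _)).trans ?_
        rw [ConcreteCategory.comp_apply, hb₁]
        exact Affine.res_res e₁ _ _
      have hr₁ : f.app _ r₁ = Y.presheaf.map (homOfLE e).op r := by
        refine (congr($(f.naturality (homOfLE inf_le_right).op) _)).trans ?_
        rw [ConcreteCategory.comp_apply, hr₀]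
        exact Affine.res_res e₂ _ _
      refine (hval₁ e (r₁ • c₁) ?_).trans ?_
      · rw [Conormal.idealSect_smul, map_mul, hc₁, hr₁, Conormal.idealSect_smul, map_mul]
      · rw [Scheme.Modules.map_smul, Conormal.conormalSect_smul, Scheme.Modules.Hom.app_smul]
        erw [hval₁ e c₁ hc₁]
        congr 1
        change j.app _ (f.app _ r₁) = _
        rw [hr₁]
        exact congr($(j.naturality (homOfLE e).op) r))
    (fun V V₀ e₀ s => by
      change val V₀ _ = G.presheaf.map (homOfLE (j.preimage_mono e₀)).op (val V s)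
      refine Affine.modules_section_ext G fun z hz => ?_
      obtain ⟨U, e, b, hzU, hb⟩ := exists_lift (f := f) V₀
        ((ClSub.idealMod j.ker).presheaf.map (homOfLE e₀).op s) hz
      refine ⟨(j ≫ f) ⁻¹ᵁ U, j.preimage_mono e, hzU, ?_⟩
      refine (hval₁ e b hb).trans (Eq.symm ?_)
      refine (Affine.resM_resM (j.preimage_mono e₀) (j.preimage_mono e) _).trans ?_
      refine hval₁ (e.trans e₀) b ?_
      rw [hb, Conormal.idealSect_map, Affine.res_res])
  refine ⟨((Scheme.Modules.pullbackPushforwardAdjunction j).homEquiv _ _).symm η, fun U b s hs => ?_⟩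
  refine (homEquiv_app (h := j) _ _ s).symm.trans ?_
  refine (congrArg (fun m : ClSub.idealMod j.ker ⟶ _ => m.app (f ⁻¹ᵁ U) s)
    (Equiv.apply_symm_apply _ _)).trans ?_
  refine Eq.trans ?_ (hval₁ (V := f ⁻¹ᵁ U) (s := s) le_rfl b ?_)
  · exact (congr($(G.presheaf.map_id _) _)).symm
  · exact hs.symm.trans (congr($(Y.presheaf.map_id _) _)).symm

variable {φ₁ : (Scheme.Modules.pullback j).obj (Omega.conormal f) ⟶ Omega.conormal (j ≫ f)}
  {φ₂ : (Scheme.Modules.pullback (𝟙 Y')).obj (Omega.conormal (j ≫ f)) ⟶ Omega.conormal j}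

/-- `φ₂` with the identity pullback removed. -/
noncomputable abbrev bar
    (φ₂ : (Scheme.Modules.pullback (𝟙 Y')).obj (Omega.conormal (j ≫ f)) ⟶ Omega.conormal j) :
    Omega.conormal (j ≫ f) ⟶ Omega.conormal j :=
  (Scheme.Modules.pullbackId Y').inv.app (Omega.conormal (j ≫ f)) ≫ φ₂

omit [IsPreimmersion f] [QuasiCompact f] in
theorem bar_app (hφ₂ : IsConormalMap j (j ≫ f) f (𝟙 Y') φ₂) (U : X.Opens)
    (b : Γ(ClSub.idealMod (j ≫ f).ker, U)) :
    (bar φ₂).app ((j ≫ f) ⁻¹ᵁ U) (conormalSect (j ≫ f) U b) =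
      Conormal.mapSect hφ₂.1 U b := by
  change φ₂.app _ (((Scheme.Modules.pullbackId Y').inv.app (Omega.conormal (j ≫ f))).app _
    (conormalSect (j ≫ f) U b)) = _
  rw [Seq.pullbackId_inv_app]
  exact Conormal.app_eq hφ₂ U b

omit [IsPreimmersion f] [QuasiCompact f] in
theorem zero [QuasiCompact (j ≫ f)] (hφ₁ : IsConormalMap (j ≫ f) f (𝟙 X) j φ₁)
    (hφ₂ : IsConormalMap j (j ≫ f) f (𝟙 Y') φ₂) : φ₁ ≫ bar φ₂ = 0 := by
  refine Conormal.pullback_conormal_hom_ext f j fun U c => ?_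
  change (bar φ₂).app _ (φ₁.app _ _) = 0
  rw [Conormal.app_eq hφ₁, Conormal.mapSect]
  refine (congr($((bar φ₂).mapPresheaf.naturality
    (homOfLE (Conormal.le_of_sq hφ₁.1 U)).op) _)).trans ?_
  change (Omega.conormal j).presheaf.map _ ((bar φ₂).app _ _) = 0
  erw [bar_app hφ₂]
  have h : Conormal.liftSect hφ₂.1 ((𝟙 X : X ⟶ X) ⁻¹ᵁ U) (Conormal.liftSect hφ₁.1 U c) = 0 := by
    apply Conormal.idealSect_injective
    rw [map_zero, Conormal.idealSect_liftSect, Conormal.idealSect_liftSect]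
    exact Descend.app_idealSect f U c
  rw [Conormal.mapSect, h, map_zero, map_zero]
  exact map_zero _

omit [IsPreimmersion f] [QuasiCompact f] [QuasiCompact j] in
theorem kills_of_comp_eq_zero [QuasiCompact (j ≫ f)] (hφ₁ : IsConormalMap (j ≫ f) f (𝟙 X) j φ₁)
    (h0 : φ₁ ≫ k = 0) : Kills f j k := by
  intro U c b hb
  have e : Conormal.liftSect hφ₁.1 U c = b := by
    apply Conormal.idealSect_injective
    rw [Conormal.idealSect_liftSect]
    exact hb.symm
  have h : k.app _ (φ₁.app _ (pullSect j (Omega.conormal f) (f ⁻¹ᵁ U) (conormalSect f U c))) = 0 :=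
    congr($(congrArg (fun m => Scheme.Modules.Hom.app m (j ⁻¹ᵁ (f ⁻¹ᵁ U))) h0) _)
  rw [Conormal.app_eq hφ₁, Conormal.mapSect, e] at h
  exact (congrArg (fun x => k.app _ x)
    (congr($((Omega.conormal (j ≫ f)).presheaf.map_id _) _))).symm.trans h

theorem hom_ext_bar {a b : Omega.conormal j ⟶ G}
    (hφ₂ : IsConormalMap j (j ≫ f) f (𝟙 Y') φ₂) (h : bar φ₂ ≫ a = bar φ₂ ≫ b) : a = b := by
  refine Descend.conormal_hom_ext fun V s => ?_
  refine Affine.modules_section_ext G fun z hz => ?_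
  obtain ⟨U, eU, c, hzU, hc⟩ := exists_lift (f := f) V s hz
  refine ⟨(j ≫ f) ⁻¹ᵁ U, j.preimage_mono eU, hzU, ?_⟩
  have e : Conormal.liftSect hφ₂.1 U c =
      (ClSub.idealMod j.ker).presheaf.map (homOfLE eU).op s := by
    apply Conormal.idealSect_injective
    rw [Conormal.idealSect_liftSect, Conormal.idealSect_map]
    exact hc
  have hb : (bar φ₂).app _ (conormalSect (j ≫ f) U c) =
      (Omega.conormal j).presheaf.map (homOfLE (j.preimage_mono eU)).op (conormalSect j V s) := by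
    rw [bar_app hφ₂, Conormal.mapSect, e, Conormal.conormalSect_map]
    exact Affine.resM_resM _ _ _
  refine (congr($(a.mapPresheaf.naturality (homOfLE (j.preimage_mono eU)).op) _)).symm.trans
    (Eq.trans ?_ (congr($(b.mapPresheaf.naturality (homOfLE (j.preimage_mono eU)).op) _)))
  change a.app _ ((Omega.conormal j).presheaf.map _ _) = b.app _ ((Omega.conormal j).presheaf.map _ _)
  rw [← hb]
  exact congr($(congrArg (fun m => Scheme.Modules.Hom.app m ((j ≫ f) ⁻¹ᵁ U)) h) _)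

theorem main [QuasiCompact (j ≫ f)] (hφ₁ : IsConormalMap (j ≫ f) f (𝟙 X) j φ₁)
    (hφ₂ : IsConormalMap j (j ≫ f) f (𝟙 Y') φ₂) :
    Epi φ₂ ∧ imageSubobject φ₁ = kernelSubobject (bar φ₂) := by
  haveI : Epi (bar φ₂) := ⟨fun a b h => hom_ext_bar hφ₂ h⟩
  refine ⟨epi_of_epi ((Scheme.Modules.pullbackId Y').inv.app (Omega.conormal (j ≫ f))) φ₂,
    (ShortComplex.exact_iff_image_eq_kernel (ShortComplex.mk φ₁ (bar φ₂) (zero hφ₁ hφ₂))).mp
      (ShortComplex.exact_of_g_is_cokernel _ ?_)⟩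
  have hd : ∀ {G : Y'.Modules} (k : Omega.conormal (j ≫ f) ⟶ G), φ₁ ≫ k = 0 →
      ∃ r : Omega.conormal j ⟶ G, bar φ₂ ≫ r = k := by
    intro G k hk
    obtain ⟨r, hr⟩ := exists_desc (kills_of_comp_eq_zero hφ₁ hk)
    refine ⟨r, Descend.conormal_hom_ext fun U b => ?_⟩
    change r.app _ ((bar φ₂).app _ _) = _
    rw [bar_app hφ₂, Conormal.mapSect]
    refine (congrArg (fun x => r.app _ x)
      (congr($((Omega.conormal j).presheaf.map_id _) _))).trans ?_
    exact hr U b _ (Conormal.idealSect_liftSect hφ₂.1 U b)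
  exact CokernelCofork.IsColimit.ofπ _ _ (fun {G} k hk => (hd k hk).choose)
    (fun {G} k hk => (hd k hk).choose_spec)
    (fun {G} k hk m hm => (cancel_epi (bar φ₂)).mp (hm.trans (hd k hk).choose_spec.symm))

end Groth.Agent.Lib.Kaehler.ConormalTriple
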