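import Groth.Agent.Lib.Kaehler.FSmooth
import Groth.Agent.Lib.Kaehler.Exists
import Groth.Agent.Lib.Kaehler.BaseChange
import Mathlib.RingTheory.Kaehler.JacobiZariski
import Mathlib.RingTheory.Smooth.Basic

/-!
# For formally smooth `f` the map `f^* Ω_{Y/S} ⟶ Ω_{X/S}` is a monomorphism
-/

universe u

open CategoryTheory CategoryTheory.Limits AlgebraicGeometry TopologicalSpace Opposite

namespace Groth.Agent.Lib.Kaehler.SmoothMono

open OmegaSh Groth.Agent.Lib.Kaehler.Basic Groth.Agent.Lib.Kaehler.AffineUniv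

theorem exists_der_extend {R A B : CommRingCat.{u}} (φ : R ⟶ A) (ψ : A ⟶ B)
    (hψ : ψ.hom.FormallySmooth) (M : ModuleCat.{u} B) (δ : A →+ M)
    (hmul : ∀ a c, δ (a * c) = ψ a • δ c + ψ c • δ a) (hbase : ∀ r, δ (φ r) = 0) :
    ∃ D : M.Derivation (φ ≫ ψ), ∀ a, D.d (ψ a) = δ a := by
  letI := φ.hom.toAlgebra
  letI := ψ.hom.toAlgebra
  letI := (φ ≫ ψ).hom.toAlgebra
  haveI : IsScalarTower R A B := IsScalarTower.of_algebraMap_eq' rfl
  haveI : Algebra.FormallySmooth A B := hψ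
  letI : Module A M := Module.compHom M ψ.hom
  haveI : IsScalarTower A B M := IsScalarTower.of_algebraMap_smul fun _ _ => rfl
  letI : Module R M := Module.compHom M (φ ≫ ψ).hom
  haveI : IsScalarTower R A M := IsScalarTower.of_algebraMap_smul fun _ _ => rfl
  haveI : IsScalarTower R B M := IsScalarTower.of_algebraMap_smul fun _ _ => rfl
  let D₀ : Derivation R A M := Derivation.mk'
    { toFun := δ
      map_add' := map_add δ
      map_smul' := fun r a => by
        change δ (φ r * a) = ψ (φ r) • δ a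
        rw [hmul, hbase, smul_zero, add_zero] } hmul
  have hinj : Function.Injective (KaehlerDifferential.mapBaseChange R A B) := by
    rw [injective_iff_map_eq_zero]
    intro x hx
    obtain ⟨y, rfl⟩ := (Algebra.H1Cotangent.exact_δ_mapBaseChange R A B x).mp hx
    rw [Subsingleton.elim y 0, map_zero]
  obtain ⟨s, hs⟩ := Module.projective_lifting_property (KaehlerDifferential.map R A B B)
    LinearMap.id (KaehlerDifferential.map_surjective R A B)
  have hex := KaehlerDifferential.exact_mapBaseChange_map R A B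
  obtain ⟨-, r, hr⟩ := ((hex.split_tfae' (f := KaehlerDifferential.mapBaseChange R A B)
    (g := KaehlerDifferential.map R A B B)).out 0 1 rfl rfl).mp ⟨hinj, ⟨s, hs⟩⟩
  let L : Ω[B⁄R] →ₗ[B] M := (D₀.liftKaehlerDifferential.liftBaseChange B) ∘ₗ r
  refine ⟨(KaehlerDifferential.linearMapEquivDerivation R B) L, fun a => ?_⟩
  change L (KaehlerDifferential.D R B (algebraMap A B a)) = δ a
  have h1 : KaehlerDifferential.D R B (algebraMap A B a) =
      KaehlerDifferential.mapBaseChange R A B (1 ⊗ₜ KaehlerDifferential.D R A a) := by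
    simp
  rw [h1]
  have h2 := congr($(hr) (1 ⊗ₜ[A] KaehlerDifferential.D R A a))
  change D₀.liftKaehlerDifferential.liftBaseChange B _ = _
  rw [show r (KaehlerDifferential.mapBaseChange R A B (1 ⊗ₜ KaehlerDifferential.D R A a)) =
    1 ⊗ₜ KaehlerDifferential.D R A a from h2]
  simp [D₀]

theorem derPush_surjective_affine {R A B : CommRingCat.{u}} (φ : R ⟶ A) (ψ : A ⟶ B)
    (hψ : ψ.hom.FormallySmooth) (G : (Spec B).Modules) :
    Function.Surjective
      (derPush (f := Spec.map φ) (f' := Spec.map (φ ≫ ψ)) (Spec.map ψ) (Spec.map (𝟙 R))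
        (AffinePush.specMap_sq (Category.id_comp (φ ≫ ψ)).symm) (G := G)) := by
  intro D₀
  obtain ⟨E, hE⟩ := exists_der_extend φ ψ hψ (gm G) (AddMonoidHom.mk' (fun b : A =>
      (show Γ(G, ⊤) from D₀.app ⊤ ((Scheme.ΓSpecIso A).inv b))) fun a c => by
        change D₀.app ⊤ _ = D₀.app ⊤ _ + D₀.app ⊤ _
        rw [map_add, map_add])
    (fun a c => by
      have h := der_app_mul D₀ ⊤ ((Scheme.ΓSpecIso A).inv a) ((Scheme.ΓSpecIso A).inv c)
      rw [← map_mul, AffinePush.push_top_smul, AffinePush.push_top_smul] at h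
      exact h)
    (fun a => by
      change D₀.app ⊤ ((Scheme.ΓSpecIso A).inv (φ a)) = 0
      rw [← ConcreteCategory.comp_apply, Scheme.ΓSpecIso_inv_naturality,
        ConcreteCategory.comp_apply]
      exact Affine.top_base _ D₀ _)
  obtain ⟨D, rfl⟩ := (toModDer_bijective (φ ≫ ψ) G).2 E
  refine ⟨D, Affine.der_ext_top ?_⟩
  ext s
  have h := (AffinePush.derPush_top (Category.id_comp (φ ≫ ψ)).symm D
    ((Scheme.ΓSpecIso A).hom s)).trans (hE ((Scheme.ΓSpecIso A).hom s))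
  replace h : _ = D₀.app ⊤ ((Scheme.ΓSpecIso A).inv ((Scheme.ΓSpecIso A).hom s)) := h
  rw [Iso.hom_inv_id_apply] at h
  exact h

variable {X' X Y' Y : Scheme.{u}}

/-- If every derivation extends, the canonical map is a split monomorphism. -/
theorem isSplitMono_of_derPush_surjective {f : X ⟶ Y} {f' : X' ⟶ Y'} {h : X' ⟶ X} {b : Y' ⟶ Y}
    (hsq : f' ≫ b = h ≫ f) {Ω₁ : X.Modules} {Ω₂ : X'.Modules} {d₁ : Der f Ω₁} {d₂ : Der f' Ω₂}
    (hd₁ : IsUniversal d₁) (hd₂ : IsUniversal d₂)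
    (hb : ∀ G : X'.Modules, Function.Surjective (derPush (f := f) (f' := f') h b hsq (G := G)))
    (c : (Scheme.Modules.pullback h).obj Ω₁ ⟶ Ω₂) (hc : IsDiffCompat h d₁ d₂ c) :
    IsSplitMono c := by
  let adj := Scheme.Modules.pullbackPushforwardAdjunction h
  obtain ⟨D, hD⟩ := hb _ (derComp d₁ (adj.homEquiv Ω₁ _ (𝟙 _)))
  refine IsSplitMono.mk' ⟨univDesc hd₂ D, ?_⟩
  apply (adj.homEquiv Ω₁ _).injective
  apply ((isUniversal_iff d₁).mp hd₁ _).1
  change derComp d₁ _ = derComp d₁ _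
  rw [← hD, ← derComp_univDesc hd₂ D, derPush_derComp, ← (isDiffCompat_iff hsq d₁ d₂ c).mp hc,
    derComp_comp, Adjunction.homEquiv_naturality_right, derComp_univDesc]

variable {S : Scheme.{u}}

theorem mono_diffCompat {g : Y ⟶ S} {h : X ⟶ S} (f : X ⟶ Y) (w : f ≫ g = h)
    (hf : MoreMor.IsFormallySmoothHom f) {ΩY : Y.Modules} {dY : Der g ΩY} (hY : IsUniversal dY)
    {ΩX : X.Modules} {dX : Der h ΩX} (hX : IsUniversal dX)
    (c : (Scheme.Modules.pullback f).obj ΩY ⟶ ΩX) (hc : IsDiffCompat f dY dX c) : Mono c := by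
  subst w
  refine Chart.mono_of_locally c fun x => ?_
  obtain ⟨W, V, hW, hV, hxV, eV⟩ := Chart.exists_chart g (f x)
  obtain ⟨U, hU, hxU, eU⟩ := BaseChange.exists_affine_le (W := f ⁻¹ᵁ V) (x := x) hxV
  obtain ⟨y, hy⟩ := Chart.exists_fromSpec_eq hU hxU
  have e' : U ≤ (f ≫ g) ⁻¹ᵁ W := eU.trans (f.preimage_mono eV)
  refine ⟨_, hU.fromSpec, inferInstance, y, hy, ?_⟩
  obtain ⟨d'', hd'', hc''⟩ := Chart.exists_isUniversal_chart (f ≫ g) hU hW e' hX
  have h₃ := Comp.isDiffCompat_comp hc hc''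
  have happ : (f ≫ g).appLE W U e' = g.appLE W V eV ≫ f.appLE V U eU :=
    (Scheme.Hom.appLE_comp_appLE _ _ _ _ _ _ _).symm
  obtain ⟨β, hs, hsurj⟩ : ∃ (β : Spec Γ(S, W) ⟶ S)
      (hs : Spec.map ((f ≫ g).appLE W U e') ≫ β = (hU.fromSpec ≫ f) ≫ g),
      ∀ G, Function.Surjective (derPush (f := g) (f' := Spec.map ((f ≫ g).appLE W U e'))
        (hU.fromSpec ≫ f) β hs (G := G)) := by
    rw [happ, ← IsAffineOpen.SpecMap_appLE_fromSpec f hV hU eU]
    let sq₁ := Chart.fromSpec_sq g hV hW eV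
    let sq₂ := AffinePush.specMap_sq
      (Category.id_comp (g.appLE W V eV ≫ f.appLE V U eU)).symm
    refine ⟨Spec.map (𝟙 _) ≫ hW.fromSpec,
      Comp.sq_comp hV.fromSpec (Spec.map _) hW.fromSpec (Spec.map (𝟙 _)) sq₁ sq₂, fun G D₀ => ?_⟩
    obtain ⟨D₁, hD₁⟩ := (OpenImm.derPush_bijective hV.fromSpec hW.fromSpec sq₁
      ((Scheme.Modules.pushforward (Spec.map (f.appLE V U eU))).obj G)).2
      (derComp D₀ ((Scheme.Modules.pushforwardComp (Spec.map (f.appLE V U eU)) hV.fromSpec).inv.app G))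
    obtain ⟨D, rfl⟩ := derPush_surjective_affine (g.appLE W V eV) (f.appLE V U eU)
      (FSmooth.formallySmooth_appLE hf hV hU eU) G D₁
    refine ⟨D, ?_⟩
    rw [Comp.derPush_comp hV.fromSpec (Spec.map _) hW.fromSpec (Spec.map (𝟙 _)) sq₁ sq₂ D, hD₁,
      derComp_comp, Iso.inv_hom_id_app]
    exact derComp_id D₀
  haveI := isSplitMono_of_derPush_surjective hs hY hd'' hsurj _ h₃
  rw [Category.comp_id] at this
  have hm : Mono ((Scheme.Modules.pullbackComp hU.fromSpec f).hom.app ΩY ≫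
    ((Scheme.Modules.pullbackComp hU.fromSpec f).inv.app ΩY ≫
      (Scheme.Modules.pullback hU.fromSpec).map c)) := mono_comp _ _
  rw [Iso.hom_inv_id_app_assoc] at hm
  exact hm

end Groth.Agent.Lib.Kaehler.SmoothMono
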