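import Groth.Prelude.Def_Omega3

/-!
# Derivations of the structure sheaf: basic API and functoriality

`Der.mk'`, `Der.comp` (postcomposition), `Der.push` (transfer along a commutative square), and the
existence and uniqueness of the compatible map of modules of differentials.
-/

universe u

open CategoryTheory CategoryTheory.Limits AlgebraicGeometry TopologicalSpace Opposite

namespace Groth.Agent.Lib.Kaehler.Basic

open OmegaSh

variable {X Y : Scheme.{u}} {f : X ⟶ Y} {F G : X.Modules}

theorem der_ext {D D' : Der f F} (h : ∀ (U : X.Opens) (s : Γ(X, U)), D.app U s = D'.app U s) :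
    D = D' := by
  refine PresheafOfModules.Derivation.ext ?_
  funext U
  ext s
  exact h U.unop s

theorem der_app_mul (D : Der f F) (U : X.Opens) (a b : Γ(X, U)) :
    D.app U (a * b) = a • D.app U b + b • D.app U a :=
  D.d_mul a b

theorem der_app_map (D : Der f F) {U W : X.Opens} (e : W ≤ U) (s : Γ(X, U)) :
    D.app W (X.presheaf.map (homOfLE e).op s) = F.presheaf.map (homOfLE e).op (D.app U s) :=
  D.d_map (homOfLE e).op s

theorem der_app_app (D : Der f F) (V : Y.Opens) (c : Γ(Y, V)) :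
    D.app (f ⁻¹ᵁ V) (f.app V c) = 0 :=
  D.d_app (X := op V) c

theorem der_app_appLE (D : Der f F) (V : Y.Opens) (U : X.Opens) (e : U ≤ f ⁻¹ᵁ V) (c : Γ(Y, V)) :
    D.app U (f.appLE V U e c) = 0 := by
  have h : f.appLE V U e c = X.presheaf.map (homOfLE e).op (f.app V c) := rfl
  rw [h, der_app_map, der_app_app, map_zero]

theorem der_app_one (D : Der f F) (U : X.Opens) : D.app U 1 = 0 :=
  D.d_one (op U)

/-- A derivation from its values on sections. -/
def derMk (d : ∀ U : X.Opens, Γ(X, U) →+ Γ(F, U))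
    (hmul : ∀ (U : X.Opens) (a b : Γ(X, U)), d U (a * b) = a • d U b + b • d U a)
    (hmap : ∀ (U W : X.Opens) (e : W ≤ U) (s : Γ(X, U)),
      d W (X.presheaf.map (homOfLE e).op s) = F.presheaf.map (homOfLE e).op (d U s))
    (hbase : ∀ (V : Y.Opens) (c : Γ(Y, V)), d (f ⁻¹ᵁ V) (f.app V c) = 0) : Der f F where
  d {U} := d U.unop
  d_mul {U} a b := hmul U.unop a b
  d_map {U W} i s := hmap U.unop W.unop i.unop.le s
  d_app {V} c := hbase V.unop c

@[simp] theorem derMk_app (d : ∀ U : X.Opens, Γ(X, U) →+ Γ(F, U)) (hmul) (hmap) (hbase)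
    (U : X.Opens) (s : Γ(X, U)) :
    (derMk (f := f) d hmul hmap hbase).app U s = d U s := rfl

/-- Postcomposition of a derivation with a morphism of modules. -/
noncomputable def derComp (D : Der f F) (α : F ⟶ G) : Der f G := D.postcomp α.val

@[simp] theorem derComp_app (D : Der f F) (α : F ⟶ G) (U : X.Opens) (s : Γ(X, U)) :
    (derComp D α).app U s = α.app U (D.app U s) := rfl

theorem derComp_id (D : Der f F) : derComp D (𝟙 F) = D := der_ext fun _ _ => rfl

theorem derComp_comp {H : X.Modules} (D : Der f F) (α : F ⟶ G) (β : G ⟶ H) :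
    derComp (derComp D α) β = derComp D (α ≫ β) := der_ext fun _ _ => rfl

theorem isUniversal_iff {Ω : X.Modules} (d : Der f Ω) :
    IsUniversal d ↔ ∀ F : X.Modules, Function.Bijective (fun α : Ω ⟶ F => derComp d α) := by
  constructor
  · intro h F
    exact ⟨fun a b hab => (h F (derComp d b)).unique hab rfl, fun D => (h F D).exists⟩
  · intro h F D
    exact (h F).existsUnique D

theorem universal_hom_ext {Ω : X.Modules} {d : Der f Ω} (hd : IsUniversal d) {α β : Ω ⟶ F}
    (h : ∀ (U : X.Opens) (s : Γ(X, U)), α.app U (d.app U s) = β.app U (d.app U s)) : α = β :=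
  ((isUniversal_iff d).mp hd F).1 (der_ext h)

/-- The map out of a universal receptacle. -/
noncomputable def univDesc {Ω : X.Modules} {d : Der f Ω} (hd : IsUniversal d) (D : Der f F) :
    Ω ⟶ F := (hd F D).exists.choose

theorem derComp_univDesc {Ω : X.Modules} {d : Der f Ω} (hd : IsUniversal d) (D : Der f F) :
    derComp d (univDesc hd D) = D := (hd F D).exists.choose_spec

theorem univDesc_app {Ω : X.Modules} {d : Der f Ω} (hd : IsUniversal d) (D : Der f F)
    (U : X.Opens) (s : Γ(X, U)) : (univDesc hd D).app U (d.app U s) = D.app U s :=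
  congrArg (fun D : Der f F => D.app U s) (derComp_univDesc hd D)

/-- Two universal receptacles are isomorphic, compatibly with the derivations. -/
theorem exists_iso_of_isUniversal {Ω Ω' : X.Modules} {d : Der f Ω} {d' : Der f Ω'}
    (hd : IsUniversal d) (hd' : IsUniversal d') : ∃ e : Ω ≅ Ω', derComp d e.hom = d' := by
  refine ⟨⟨univDesc hd d', univDesc hd' d, ?_, ?_⟩, derComp_univDesc hd d'⟩
  · refine universal_hom_ext hd fun U s => ?_
    change (univDesc hd' d).app U ((univDesc hd d').app U (d.app U s)) = _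
    rw [univDesc_app, univDesc_app]; rfl
  · refine universal_hom_ext hd' fun U s => ?_
    change (univDesc hd d').app U ((univDesc hd' d).app U (d'.app U s)) = _
    rw [univDesc_app, univDesc_app]; rfl

theorem isUniversal_derComp_of_isIso {Ω Ω' : X.Modules} {d : Der f Ω} (hd : IsUniversal d)
    (e : Ω ⟶ Ω') [IsIso e] : IsUniversal (derComp d e) := by
  rw [isUniversal_iff] at hd ⊢
  intro F
  have : (fun α : Ω' ⟶ F => derComp (derComp d e) α) = (fun α => derComp d α) ∘ (fun α => e ≫ α) := by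
    funext α; exact derComp_comp d e α
  rw [this]
  exact (hd F).comp ((asIso e).homFromEquiv (Z := F)).symm.bijective

theorem isIso_of_derComp_isUniversal {Ω Ω' : X.Modules} {d : Der f Ω} (hd : IsUniversal d)
    (e : Ω ⟶ Ω') (he : IsUniversal (derComp d e)) : IsIso e := by
  obtain ⟨e', he'⟩ := exists_iso_of_isUniversal hd he
  have : e = e'.hom := ((isUniversal_iff d).mp hd Ω').1 he'.symm
  rw [this]; infer_instance

section Push

variable {X' Y' : Scheme.{u}} {f' : X' ⟶ Y'} (h : X' ⟶ X) (b : Y' ⟶ Y) (hsq : f' ≫ b = h ≫ f)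

include hsq in
theorem push_base {G : X'.Modules} (D : Der f' G) (V : Y.Opens) (c : Γ(Y, V)) :
    D.app (h ⁻¹ᵁ f ⁻¹ᵁ V) (h.app (f ⁻¹ᵁ V) (f.app V c)) = 0 := by
  have key : ∀ (q : X' ⟶ Y) (e : h ≫ f = q),
      D.app (q ⁻¹ᵁ V) (q.app V c) = 0 → D.app (h ⁻¹ᵁ f ⁻¹ᵁ V) (h.app (f ⁻¹ᵁ V) (f.app V c)) = 0 := by
    rintro q rfl hq
    exact hq
  refine key _ hsq.symm ?_
  exact der_app_app D (b ⁻¹ᵁ V) (b.app V c)

/-- Transfer of a derivation along a commutative square: `s ↦ D (h♯ s)`, with values in `h_* G`. -/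
noncomputable def derPush {G : X'.Modules} (D : Der f' G) :
    Der f ((Scheme.Modules.pushforward h).obj G) :=
  derMk (fun U => ((D.app (h ⁻¹ᵁ U)).comp (h.app U).hom.toAddMonoidHom : Γ(X, U) →+ Γ(G, h ⁻¹ᵁ U)))
    (fun U a c => by
      change D.app (h ⁻¹ᵁ U) (h.app U (a * c)) = _
      rw [map_mul, der_app_mul]
      rfl)
    (fun U W e s => by
      change D.app (h ⁻¹ᵁ W) (h.app W (X.presheaf.map (homOfLE e).op s)) =
        G.presheaf.map (homOfLE (h.preimage_mono e)).op (D.app (h ⁻¹ᵁ U) (h.app U s))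
      rw [← der_app_map D (h.preimage_mono e)]
      exact congrArg _ congr($(h.naturality (homOfLE e).op) s))
    (fun V c => push_base h b hsq D V c)

theorem derPush_app {G : X'.Modules} (D : Der f' G) (U : X.Opens) (s : Γ(X, U)) :
    (derPush h b hsq D).app U s = D.app (h ⁻¹ᵁ U) (h.app U s) := rfl

theorem derPush_derComp {G G' : X'.Modules} (D : Der f' G) (α : G ⟶ G') :
    derPush h b hsq (derComp D α) =
      derComp (derPush h b hsq D) ((Scheme.Modules.pushforward h).map α) :=
  der_ext fun _ _ => rfl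

variable {h b}

theorem homEquiv_app {Ω₁ : X.Modules} {G : X'.Modules}
    (c : (Scheme.Modules.pullback h).obj Ω₁ ⟶ G) (U : X.Opens) (x : Γ(Ω₁, U)) :
    ((Scheme.Modules.pullbackPushforwardAdjunction h).homEquiv Ω₁ G c).app U x =
      c.app (h ⁻¹ᵁ U) (pullSect h Ω₁ U x) := by
  rw [Adjunction.homEquiv_unit]
  rfl

theorem isDiffCompat_iff {Ω₁ : X.Modules} {Ω₂ : X'.Modules} (d₁ : Der f Ω₁) (d₂ : Der f' Ω₂)
    (c : (Scheme.Modules.pullback h).obj Ω₁ ⟶ Ω₂) :
    IsDiffCompat h d₁ d₂ c ↔
      derComp d₁ ((Scheme.Modules.pullbackPushforwardAdjunction h).homEquiv Ω₁ Ω₂ c) =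
        derPush h b hsq d₂ := by
  constructor
  · intro hc
    refine der_ext fun U s => ?_
    rw [derComp_app, homEquiv_app, derPush_app]
    exact hc U s
  · intro hc U s
    have := congrArg (fun D : Der f ((Scheme.Modules.pushforward h).obj Ω₂) => D.app U s) hc
    simp only [derComp_app, homEquiv_app, derPush_app] at this
    exact this

include hsq in
theorem existsUnique_diffCompat {Ω₁ : X.Modules} {Ω₂ : X'.Modules} {d₁ : Der f Ω₁}
    (hd₁ : IsUniversal d₁) (d₂ : Der f' Ω₂) :
    ∃! c : (Scheme.Modules.pullback h).obj Ω₁ ⟶ Ω₂, IsDiffCompat h d₁ d₂ c := by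
  simp only [isDiffCompat_iff hsq]
  exact ((((isUniversal_iff d₁).mp hd₁ _).comp
    ((Scheme.Modules.pullbackPushforwardAdjunction h).homEquiv Ω₁ Ω₂).bijective)).existsUnique _

include hsq in
/-- The compatible map is an isomorphism as soon as transfer of derivations is bijective. -/
theorem isIso_of_derPush_bijective {Ω₁ : X.Modules} {Ω₂ : X'.Modules} {d₁ : Der f Ω₁} {d₂ : Der f' Ω₂}
    (hd₁ : IsUniversal d₁) (hd₂ : IsUniversal d₂)
    (hb : ∀ G : X'.Modules, Function.Bijective (derPush (f := f) (f' := f') h b hsq (G := G)))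
    (c : (Scheme.Modules.pullback h).obj Ω₁ ⟶ Ω₂) (hc : IsDiffCompat h d₁ d₂ c) : IsIso c := by
  let adj := Scheme.Modules.pullbackPushforwardAdjunction h
  rw [isUniversal_iff] at hd₁ hd₂
  have key : ∀ G (α : Ω₂ ⟶ G),
      derPush h b hsq (derComp d₂ α) = derComp d₁ (adj.homEquiv Ω₁ G (c ≫ α)) := by
    intro G α
    rw [derPush_derComp, ← (isDiffCompat_iff hsq d₁ d₂ c).mp hc, derComp_comp,
      Adjunction.homEquiv_naturality_right]
  have : ∀ G, Function.Bijective (fun α : Ω₂ ⟶ G => c ≫ α) := by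
    intro G
    have h1 := (hb G).comp (hd₂ G)
    have h2 := (hd₁ ((Scheme.Modules.pushforward h).obj G)).comp (adj.homEquiv Ω₁ G).bijective
    have h3 : (derPush (f := f) h b hsq) ∘ (fun α : Ω₂ ⟶ G => derComp d₂ α) =
        ((fun α => derComp d₁ α) ∘ adj.homEquiv Ω₁ G) ∘ (fun α => c ≫ α) := funext (key G)
    rw [h3] at h1
    exact Function.Bijective.of_comp_iff' h2 _ |>.mp h1
  exact isIso_of_coyoneda_map_bijective c this

include hsq in
/-- If transfer of derivations is bijective, a universal derivation exists on the pullback module. -/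
theorem exists_isUniversal_pullback {Ω₁ : X.Modules} {d₁ : Der f Ω₁} (hd₁ : IsUniversal d₁)
    (hb : ∀ G : X'.Modules, Function.Bijective (derPush (f := f) (f' := f') h b hsq (G := G))) :
    ∃ d₂ : Der f' ((Scheme.Modules.pullback h).obj Ω₁),
      IsUniversal d₂ ∧ IsDiffCompat h d₁ d₂ (𝟙 _) := by
  let adj := Scheme.Modules.pullbackPushforwardAdjunction h
  obtain ⟨d₂, hd₂⟩ := (hb _).2 (derComp d₁ (adj.homEquiv Ω₁ _ (𝟙 _)))
  refine ⟨d₂, ?_, (isDiffCompat_iff hsq d₁ d₂ _).mpr hd₂.symm⟩
  rw [isUniversal_iff] at hd₁ ⊢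
  intro G
  have h2 := (hd₁ ((Scheme.Modules.pushforward h).obj G)).comp (adj.homEquiv Ω₁ G).bijective
  have h3 : (derPush (f := f) h b hsq) ∘ (fun α => derComp d₂ α) =
      (fun α => derComp d₁ α) ∘ adj.homEquiv Ω₁ G := by
    funext α
    change derPush h b hsq (derComp d₂ α) = _
    rw [derPush_derComp, hd₂, derComp_comp, ← Adjunction.homEquiv_naturality_right,
      Category.id_comp]
    rfl
  rw [← h3] at h2
  exact (Function.Bijective.of_comp_iff' (hb G) _).mp h2

end Push

end Groth.Agent.Lib.Kaehler.Basic
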