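import Groth.Agent.Lib.Kaehler.OpenImm
import Groth.Agent.Lib.Kaehler.AffineUniv

/-!
# Composition of the canonical maps of differentials
-/

universe u

open CategoryTheory CategoryTheory.Limits AlgebraicGeometry TopologicalSpace Opposite

namespace Groth.Agent.Lib.Kaehler.Comp

open OmegaSh Groth.Agent.Lib.Kaehler.Basic

variable {X₁ X₂ X₃ Y₁ Y₂ Y₃ : Scheme.{u}} {f₁ : X₁ ⟶ Y₁} {f₂ : X₂ ⟶ Y₂} {f₃ : X₃ ⟶ Y₃}
  (h : X₂ ⟶ X₁) (k : X₃ ⟶ X₂)

theorem pullSect_comp (M : X₁.Modules) (U : X₁.Opens) (x : Γ(M, U)) :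
    pullSect k ((Scheme.Modules.pullback h).obj M) (h ⁻¹ᵁ U) (pullSect h M U x) =
      ((Scheme.Modules.pullbackComp k h).inv.app M).app ((k ≫ h) ⁻¹ᵁ U) (pullSect (k ≫ h) M U x) := by
  have key := unit_conjugateEquiv
    ((Scheme.Modules.pullbackPushforwardAdjunction h).comp (Scheme.Modules.pullbackPushforwardAdjunction k))
    (Scheme.Modules.pullbackPushforwardAdjunction (k ≫ h)) (Scheme.Modules.pullbackComp k h).inv M
  rw [Scheme.Modules.conjugateEquiv_pullbackComp_inv] at key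
  exact congr(($key).app U x)

variable {h k}

theorem isDiffCompat_comp {Ω₁ : X₁.Modules} {Ω₂ : X₂.Modules} {Ω₃ : X₃.Modules} {d₁ : Der f₁ Ω₁}
    {d₂ : Der f₂ Ω₂} {d₃ : Der f₃ Ω₃} {c₁ : (Scheme.Modules.pullback h).obj Ω₁ ⟶ Ω₂}
    {c₂ : (Scheme.Modules.pullback k).obj Ω₂ ⟶ Ω₃}
    (h₁ : IsDiffCompat h d₁ d₂ c₁) (h₂ : IsDiffCompat k d₂ d₃ c₂) :
    IsDiffCompat (k ≫ h) d₁ d₃
      ((Scheme.Modules.pullbackComp k h).inv.app Ω₁ ≫ (Scheme.Modules.pullback k).map c₁ ≫ c₂) := by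
  intro U s
  change c₂.app _ (((Scheme.Modules.pullback k).map c₁).app _
    (((Scheme.Modules.pullbackComp k h).inv.app Ω₁).app _ (pullSect (k ≫ h) Ω₁ U (d₁.app U s)))) = _
  rw [← pullSect_comp]
  have hn : ((Scheme.Modules.pullback k).map c₁).app (k ⁻¹ᵁ (h ⁻¹ᵁ U))
      (pullSect k ((Scheme.Modules.pullback h).obj Ω₁) (h ⁻¹ᵁ U) (pullSect h Ω₁ U (d₁.app U s))) =
        pullSect k Ω₂ (h ⁻¹ᵁ U) (c₁.app (h ⁻¹ᵁ U) (pullSect h Ω₁ U (d₁.app U s))) :=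
    (congr((($((Scheme.Modules.pullbackPushforwardAdjunction k).unit.naturality c₁)).app (h ⁻¹ᵁ U))
      (pullSect h Ω₁ U (d₁.app U s)))).symm
  erw [hn, h₁ U s, h₂ (h ⁻¹ᵁ U) (h.app U s)]
  rfl

variable (h k) (b : Y₂ ⟶ Y₁) (a : Y₃ ⟶ Y₂) (hsq₁ : f₂ ≫ b = h ≫ f₁) (hsq₂ : f₃ ≫ a = k ≫ f₂)

include hsq₁ hsq₂ in
theorem sq_comp : f₃ ≫ (a ≫ b) = (k ≫ h) ≫ f₁ := by
  rw [← Category.assoc, hsq₂, Category.assoc, hsq₁, Category.assoc]

theorem derPush_comp {G : X₃.Modules} (D : Der f₃ G) :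
    derPush (k ≫ h) (a ≫ b) (sq_comp h k b a hsq₁ hsq₂) D =
      derComp (derPush h b hsq₁ (derPush k a hsq₂ D))
        ((Scheme.Modules.pushforwardComp k h).hom.app G) :=
  der_ext fun _ _ => rfl

theorem derPush_comp_bijective
    (hh : ∀ G : X₂.Modules, Function.Bijective (derPush (f := f₁) (f' := f₂) h b hsq₁ (G := G)))
    (hk : ∀ G : X₃.Modules, Function.Bijective (derPush (f := f₂) (f' := f₃) k a hsq₂ (G := G)))
    (G : X₃.Modules) :
    Function.Bijective (derPush (f := f₁) (f' := f₃) (k ≫ h) (a ≫ b) (sq_comp h k b a hsq₁ hsq₂)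
      (G := G)) := by
  have : derPush (f := f₁) (f' := f₃) (k ≫ h) (a ≫ b) (sq_comp h k b a hsq₁ hsq₂) (G := G) =
      (fun D => derComp D ((Scheme.Modules.pushforwardComp k h).hom.app G)) ∘
        derPush h b hsq₁ ∘ derPush k a hsq₂ := funext (derPush_comp h k b a hsq₁ hsq₂)
  rw [this]
  refine Function.Bijective.comp ?_ ((hh _).comp (hk G))
  refine ⟨fun D D' e => ?_, fun D => ⟨derComp D ((Scheme.Modules.pushforwardComp k h).inv.app G), ?_⟩⟩
  · have := congrArg (fun D => derComp D ((Scheme.Modules.pushforwardComp k h).inv.app G)) e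
    simp only [derComp_comp, Iso.hom_inv_id_app] at this
    erw [derComp_id, derComp_id] at this
    exact this
  · dsimp only
    rw [derComp_comp, Iso.inv_hom_id_app]
    exact derComp_id D

end Groth.Agent.Lib.Kaehler.Comp
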