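import Groth.Agent.Lib.Kaehler.BaseChange
import Groth.Agent.Lib.Kaehler.Exists
import Groth.Prelude.Def_Frob

/-!
# Differentials and the relative Frobenius
-/

universe u

open CategoryTheory CategoryTheory.Limits AlgebraicGeometry TopologicalSpace Opposite

namespace Groth.Agent.Lib.Kaehler.Frob

open OmegaSh Groth.Agent.Lib.Kaehler.Basic

variable {X Y X' Y' : Scheme.{u}}

theorem derPush_injective_of_isPullback {f : X ⟶ Y} {g : Y' ⟶ Y} {g' : X' ⟶ X} {f' : X' ⟶ Y'}
    (H : IsPullback g' f' f g) {G : X'.Modules} :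
    Function.Injective (derPush (f := f) (f' := f') g' g H.w.symm (G := G)) := by
  obtain ⟨Ω, d, hd⟩ := Exists.exists_isUniversal f
  obtain ⟨Ω', d', hd'⟩ := Exists.exists_isUniversal f'
  obtain ⟨c, hc, -⟩ := existsUnique_diffCompat H.w.symm hd d' (h := g')
  haveI := BaseChange.isIso_of_isPullback H hd hd' c hc
  intro D D' h
  obtain ⟨α, rfl⟩ := ((isUniversal_iff d').mp hd' G).2 D
  obtain ⟨β, rfl⟩ := ((isUniversal_iff d').mp hd' G).2 D'
  have key : ∀ γ : Ω' ⟶ G, derPush g' g H.w.symm (derComp d' γ) = derComp d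
      ((Scheme.Modules.pullbackPushforwardAdjunction g').homEquiv Ω G (c ≫ γ)) := by
    intro γ
    rw [derPush_derComp, ← (isDiffCompat_iff H.w.symm d d' c).mp hc, derComp_comp,
      Adjunction.homEquiv_naturality_right]
  change derPush g' g H.w.symm (derComp d' α) = derPush g' g H.w.symm (derComp d' β) at h
  rw [key, key] at h
  have h2 := ((Scheme.Modules.pullbackPushforwardAdjunction g').homEquiv Ω G).injective
    (((isUniversal_iff d).mp hd _).1 h)
  exact congrArg (derComp d') ((cancel_epi c).mp h2)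

theorem der_app_pow_succ {f : X ⟶ Y} {G : X.Modules} (d : Der f G) (U : X.Opens) (s : Γ(X, U))
    (n : ℕ) : d.app U (s ^ (n + 1)) = (((n + 1 : ℕ) : Γ(X, U)) * s ^ n) • d.app U s := by
  induction n with
  | zero => simp
  | succ n ih =>
    rw [pow_succ, der_app_mul, ih, smul_smul, ← add_smul]
    congr 1
    push_cast
    ring

theorem der_app_pow {f : X ⟶ Y} {G : X.Modules} (d : Der f G) (U : X.Opens) (s : Γ(X, U))
    (p : ℕ) (hp : 1 ≤ p) (h0 : (p : Γ(X, U)) = 0) : d.app U (s ^ p) = 0 := by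
  obtain ⟨n, rfl⟩ := Nat.exists_eq_add_of_le hp
  rw [add_comm] at h0 ⊢
  rw [der_app_pow_succ, h0, zero_mul, zero_smul]

variable (p : ℕ) [Fact p.Prime] {S : Scheme.{u}} [FrobSch.IsCharP S p] (f : X ⟶ S)

/-- A derivation over `S` kills the functions pulled back from the Frobenius twist. -/
theorem der_app_relFrob {G : X.Modules} (d : Der f G) (V : (FrobSch.frobTwist f p).Opens)
    (c : Γ(FrobSch.frobTwist f p, V)) :
    d.app (FrobSch.relFrob f p ⁻¹ᵁ V) ((FrobSch.relFrob f p).app V c) = 0 := by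
  haveI : FrobSch.IsCharP X p := FrobSch.IsCharP.of_hom f p
  let F := FrobSch.relFrob f p
  have hsq : f ≫ 𝟙 S = F ≫ pullback.snd f (FrobSch.frob S p) := by
    rw [Category.comp_id, FrobSch.relFrob_snd]
  let D := derPush (f := pullback.snd f (FrobSch.frob S p)) (f' := f) F (𝟙 S) hsq d
  have hD : D = derComp D 0 := by
    refine derPush_injective_of_isPullback (IsPullback.of_hasPullback f (FrobSch.frob S p)) ?_
    refine der_ext fun U s => ?_
    change d.app (F ⁻¹ᵁ (pullback.fst f (FrobSch.frob S p) ⁻¹ᵁ U))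
      (F.app _ ((pullback.fst f (FrobSch.frob S p)).app U s)) = 0
    have key : ∀ q : X ⟶ X, q = FrobSch.frob X p → d.app (q ⁻¹ᵁ U) (q.app U s) = 0 := by
      rintro q rfl
      exact der_app_pow d U s p (Fact.out : p.Prime).one_le (FrobSch.natCast_eq_zero_app X p U)
    exact key (F ≫ pullback.fst f (FrobSch.frob S p)) (FrobSch.relFrob_fst f p)
  exact congrArg (fun E : Der (pullback.snd f (FrobSch.frob S p)) _ => E.app V c) hD

theorem exists_isUniversal (Ω : X.Modules) (d : Der f Ω) (hd : IsUniversal d) :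
    ∃ d' : Der (FrobSch.relFrob f p) Ω,
      (∀ (U : X.Opens) (s : Γ(X, U)), d'.app U s = d.app U s) ∧ IsUniversal d' := by
  have hf : ∀ {G : X.Modules} (D : Der (FrobSch.relFrob f p) G) (T : S.Opens) (c : Γ(S, T)),
      D.app (f ⁻¹ᵁ T) (f.app T c) = 0 := by
    intro G D T c
    have key : ∀ q : X ⟶ S, q = FrobSch.relFrob f p ≫ pullback.snd f (FrobSch.frob S p) →
        D.app (q ⁻¹ᵁ T) (q.app T c) = 0 := by
      rintro q rfl
      exact der_app_app D _ ((pullback.snd f (FrobSch.frob S p)).app T c)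
    exact key f (FrobSch.relFrob_snd f p).symm
  refine ⟨derMk (fun U => d.app U) (fun U => der_app_mul d U) (fun _ _ e => der_app_map d e)
    (fun V c => der_app_relFrob p f d V c), fun _ _ => rfl, fun G D => ?_⟩
  obtain ⟨α, hα, huniq⟩ := hd G (derMk (f := f) (fun U => D.app U) (fun U => der_app_mul D U)
    (fun _ _ e => der_app_map D e) (hf D))
  refine ⟨α, der_ext fun U s => ?_, fun β hβ => huniq β (der_ext fun U s => ?_)⟩
  · exact congrArg (fun E : Der f G => E.app U s) hα
  · exact congrArg (fun E : Der (FrobSch.relFrob f p) G => E.app U s) hβ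

end Groth.Agent.Lib.Kaehler.Frob
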