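import Groth.Agent.Lib.Kaehler.Descend

/-!
# A left inverse splits the conormal sequence
-/

universe u

open CategoryTheory CategoryTheory.Limits AlgebraicGeometry TopologicalSpace Opposite

namespace Groth.Agent.Lib.Kaehler.Split

open OmegaSh Groth.Agent.Lib.Kaehler.Basic

variable {Z X S : Scheme.{u}} (i : Z ⟶ X) (g : X ⟶ Z) (hgi : i ≫ g = 𝟙 Z)

/-- The part of `V` mapped by `g` into the trace of `V`. -/
noncomputable abbrev small (V : X.Opens) : X.Opens := V ⊓ g ⁻¹ᵁ (i ⁻¹ᵁ V)

include hgi in
theorem apply_gi (z : Z) : g (i z) = z := by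
  rw [← Scheme.Hom.comp_apply, hgi]; rfl

include hgi in
theorem le_small (V : X.Opens) : i ⁻¹ᵁ V ≤ i ⁻¹ᵁ small i g V := fun z hz => by
  refine ⟨hz, ?_⟩
  change i (g (i z)) ∈ V
  rw [apply_gi i g hgi z]
  exact hz

/-- `t - g♯ i♯ t`. -/
noncomputable def defect (V : X.Opens) (t : Γ(X, V)) : Γ(X, small i g V) :=
  X.presheaf.map (homOfLE inf_le_left).op t -
    g.appLE (i ⁻¹ᵁ V) (small i g V) inf_le_right (i.app V t)

theorem appLE_eq_of_eq {q : Z ⟶ Z} (hq : q = 𝟙 Z) {U W : Z.Opens} (e : W ≤ q ⁻¹ᵁ U) (e' : W ≤ U) :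
    q.appLE U W e = Z.presheaf.map (homOfLE e').op := by
  subst hq
  rw [Scheme.Hom.appLE, Scheme.Hom.id_app]
  erw [Category.id_comp]
  rfl

include hgi in
theorem app_defect (V : X.Opens) (t : Γ(X, V)) : i.app (small i g V) (defect i g V t) = 0 := by
  rw [defect, map_sub, sub_eq_zero, ← ConcreteCategory.comp_apply, ← ConcreteCategory.comp_apply,
    ← ConcreteCategory.comp_apply, Scheme.Hom.app_eq_appLE, Scheme.Hom.map_appLE]
  have h : g.appLE (i ⁻¹ᵁ V) (small i g V) inf_le_right ≫ i.appLE (small i g V) _ le_rfl =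
      Z.presheaf.map (homOfLE (i.preimage_mono inf_le_left)).op := by
    rw [Scheme.Hom.appLE_comp_appLE]
    exact appLE_eq_of_eq hgi _ _
  rw [h, Scheme.Hom.app_eq_appLE, Scheme.Hom.appLE_map]

variable [QuasiCompact i]

/-- `t - g♯ i♯ t` as a section of the ideal. -/
noncomputable def defectIdeal (V : X.Opens) (t : Γ(X, V)) :
    Γ(ClSub.idealMod i.ker, small i g V) :=
  (Descend.exists_idealSect_eq i _ _ (app_defect i g hgi V t)).choose

theorem idealSect_defectIdeal (V : X.Opens) (t : Γ(X, V)) :
    idealSect i.ker (small i g V) (defectIdeal i g hgi V t) = defect i g V t :=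
  (Descend.exists_idealSect_eq i _ _ (app_defect i g hgi V t)).choose_spec

omit [QuasiCompact i] in
theorem idealSect_injective (V : X.Opens) : Function.Injective (idealSect i.ker V) :=
  ClSub.Sections.idealModι_app_injective i.ker V

omit [QuasiCompact i] in
theorem idealSect_smul (V : X.Opens) (r : Γ(X, V)) (k : Γ(ClSub.idealMod i.ker, V)) :
    idealSect i.ker V (r • k) = r * idealSect i.ker V k := by
  rw [idealSect_apply, Scheme.Modules.Hom.app_smul]
  rfl

omit [QuasiCompact i] in
theorem conormalSect_smul (V : X.Opens) (r : Γ(X, V)) (k : Γ(ClSub.idealMod i.ker, V)) :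
    conormalSect i V (r • k) = i.app V r • conormalSect i V k :=
  Scheme.Modules.Hom.app_smul _ r k

/-- The class of `t - g♯ i♯ t` in the conormal sheaf. -/
noncomputable def retrSect (V : X.Opens) (t : Γ(X, V)) : Γ(Omega.conormal i, i ⁻¹ᵁ V) :=
  (Omega.conormal i).presheaf.map (homOfLE (le_small i g hgi V)).op
    (conormalSect i (small i g V) (defectIdeal i g hgi V t))

theorem defectIdeal_add (V : X.Opens) (a b : Γ(X, V)) :
    defectIdeal i g hgi V (a + b) = defectIdeal i g hgi V a + defectIdeal i g hgi V b := by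
  apply idealSect_injective
  rw [map_add, idealSect_defectIdeal, idealSect_defectIdeal, idealSect_defectIdeal]
  simp only [defect, map_add]
  abel

theorem defectIdeal_mul (V : X.Opens) (a b : Γ(X, V)) :
    defectIdeal i g hgi V (a * b) =
      X.presheaf.map (homOfLE (inf_le_left : small i g V ≤ V)).op a • defectIdeal i g hgi V b +
        g.appLE (i ⁻¹ᵁ V) (small i g V) inf_le_right (i.app V b) • defectIdeal i g hgi V a := by
  apply idealSect_injective
  rw [map_add, idealSect_smul, idealSect_smul, idealSect_defectIdeal, idealSect_defectIdeal,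
    idealSect_defectIdeal]
  simp only [defect, map_mul]
  ring

omit [QuasiCompact i] in
include hgi in
theorem res_app_fst (V : X.Opens) (a : Γ(X, V)) :
    Z.presheaf.map (homOfLE (le_small i g hgi V)).op
      (i.app (small i g V) (X.presheaf.map (homOfLE inf_le_left).op a)) = i.app V a := by
  simp only [← ConcreteCategory.comp_apply, Scheme.Hom.app_eq_appLE, Scheme.Hom.map_appLE,
    Scheme.Hom.appLE_map]

omit [QuasiCompact i] in
include hgi in
theorem res_app_snd (V : X.Opens) (a : Γ(Z, i ⁻¹ᵁ V)) :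
    Z.presheaf.map (homOfLE (le_small i g hgi V)).op
      (i.app (small i g V) (g.appLE (i ⁻¹ᵁ V) (small i g V) inf_le_right a)) = a := by
  simp only [← ConcreteCategory.comp_apply, Scheme.Hom.app_eq_appLE, Scheme.Hom.appLE_map,
    Scheme.Hom.appLE_comp_appLE]
  rw [appLE_eq_of_eq hgi _ le_rfl]
  exact congr($(Z.presheaf.map_id _) a)

variable (f : X ⟶ S) (hgS : g ≫ i ≫ f = f)

include hgi hgS in
/-- The retraction derivation. -/
theorem exists_retrDer :
    ∃ D : Der f ((Scheme.Modules.pushforward i).obj (Omega.conormal i)),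
      ∀ (V : X.Opens) (t : Γ(X, V)), D.app V t = retrSect i g hgi V t := by
  refine ⟨derMk (fun V => AddMonoidHom.mk' (retrSect i g hgi V) fun a b => ?_) (fun V a b => ?_)
    (fun U W e s => ?_) (fun T c => ?_), fun _ _ => rfl⟩
  · change retrSect i g hgi V (a + b) = retrSect i g hgi V a + retrSect i g hgi V b
    rw [retrSect, retrSect, retrSect, defectIdeal_add, map_add, map_add]
  · change retrSect i g hgi V (a * b) =
      i.app V a • retrSect i g hgi V b + i.app V b • retrSect i g hgi V a
    rw [retrSect, retrSect, retrSect, defectIdeal_mul, map_add, conormalSect_smul,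
      conormalSect_smul, map_add]
    erw [Scheme.Modules.map_smul, Scheme.Modules.map_smul, res_app_fst i g hgi, res_app_snd i g hgi]
  · change retrSect i g hgi W (X.presheaf.map (homOfLE e).op s) =
      (Omega.conormal i).presheaf.map (homOfLE (i.preimage_mono e)).op (retrSect i g hgi U s)
    have le : small i g W ≤ small i g U :=
      inf_le_inf e (g.preimage_mono (i.preimage_mono e))
    have h : defectIdeal i g hgi W (X.presheaf.map (homOfLE e).op s) =
        (ClSub.idealMod i.ker).presheaf.map (homOfLE le).op (defectIdeal i g hgi U s) := by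
      apply idealSect_injective
      have hn : ∀ k, idealSect i.ker (small i g W) ((ClSub.idealMod i.ker).presheaf.map (homOfLE le).op k)
          = X.presheaf.map (homOfLE le).op (idealSect i.ker (small i g U) k) :=
        fun k => congr($((ClSub.idealModι i.ker).mapPresheaf.naturality (homOfLE le).op) k)
      rw [hn, idealSect_defectIdeal, idealSect_defectIdeal, defect, defect, map_sub]
      simp only [← ConcreteCategory.comp_apply, ← Functor.map_comp, Scheme.Hom.app_eq_appLE,
        Scheme.Hom.appLE_map, Scheme.Hom.map_appLE, Scheme.Hom.appLE_comp_appLE]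
      rfl
    rw [retrSect, retrSect, h]
    have hp : conormalSect i (small i g W)
        ((ClSub.idealMod i.ker).presheaf.map (homOfLE le).op (defectIdeal i g hgi U s)) =
        (Omega.conormal i).presheaf.map (homOfLE (i.preimage_mono le)).op
          (conormalSect i (small i g U) (defectIdeal i g hgi U s)) :=
      congr($((Scheme.Modules.Hom.mapPresheaf ((Scheme.Modules.pullbackPushforwardAdjunction i).unit.app
        (ClSub.idealMod i.ker))).naturality (homOfLE le).op) _)
    rw [hp]
    exact (Affine.resM_resM _ _ _).trans (Affine.resM_resM _ _ _).symm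
  · change retrSect i g hgi (f ⁻¹ᵁ T) (f.app T c) = 0
    have h : defectIdeal i g hgi (f ⁻¹ᵁ T) (f.app T c) = 0 := by
      apply idealSect_injective
      rw [map_zero, idealSect_defectIdeal, defect, sub_eq_zero]
      simp only [← ConcreteCategory.comp_apply, Scheme.Hom.app_eq_appLE, Scheme.Hom.appLE_map,
        Scheme.Hom.appLE_comp_appLE]
      have key : ∀ (q : X ⟶ S) (hq : f = q) (e : small i g (f ⁻¹ᵁ T) ≤ f ⁻¹ᵁ T)
          (e' : small i g (f ⁻¹ᵁ T) ≤ q ⁻¹ᵁ T),
          f.appLE T _ e c = q.appLE T _ e' c := by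
        rintro q rfl e e'; rfl
      exact key _ hgS.symm _ _
    rw [retrSect, h, map_zero, map_zero]

variable {f} {ΩX : X.Modules} {dX : Der f ΩX} (hX : IsUniversal dX)
  {φ : Omega.conormal i ⟶ (Scheme.Modules.pullback i).obj ΩX} (hφ : IsConormalDiff i dX φ)

include hgi hgS hX hφ in
theorem exists_retraction : ∃ r : (Scheme.Modules.pullback i).obj ΩX ⟶ Omega.conormal i,
    φ ≫ r = 𝟙 _ := by
  obtain ⟨D, hD⟩ := exists_retrDer i g hgi f hgS
  let adj := Scheme.Modules.pullbackPushforwardAdjunction i
  let r := (adj.homEquiv ΩX _).symm (univDesc hX D)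
  refine ⟨r, Descend.conormal_hom_ext fun V k => ?_⟩
  rw [Descend.comp_app_conormalSect hφ r, ← homEquiv_app, Equiv.apply_symm_apply, univDesc_app, hD]
  have h : defectIdeal i g hgi V (idealSect i.ker V k) =
      (ClSub.idealMod i.ker).presheaf.map (homOfLE inf_le_left).op k := by
    apply idealSect_injective
    have hn : idealSect i.ker (small i g V)
        ((ClSub.idealMod i.ker).presheaf.map (homOfLE inf_le_left).op k) =
        X.presheaf.map (homOfLE inf_le_left).op (idealSect i.ker V k) :=
      congr($((ClSub.idealModι i.ker).mapPresheaf.naturality (homOfLE inf_le_left).op) k)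
    rw [hn, idealSect_defectIdeal, defect, Descend.app_idealSect, map_zero, sub_zero]
  rw [retrSect, h]
  have hp : conormalSect i (small i g V)
      ((ClSub.idealMod i.ker).presheaf.map (homOfLE inf_le_left).op k) =
      (Omega.conormal i).presheaf.map (homOfLE (i.preimage_mono inf_le_left)).op (conormalSect i V k) :=
    congr($((Scheme.Modules.Hom.mapPresheaf ((Scheme.Modules.pullbackPushforwardAdjunction i).unit.app
      (ClSub.idealMod i.ker))).naturality (homOfLE inf_le_left).op) _)
  rw [hp]
  refine (Affine.resM_resM _ _ _).trans ?_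
  exact congr($((Omega.conormal i).presheaf.map_id _) _)

variable {ΩZ : Z.Modules} {dZ : Der (i ≫ f) ΩZ} (hZ : IsUniversal dZ)
  {c : (Scheme.Modules.pullback i).obj ΩX ⟶ ΩZ} (hc : IsDiffCompat i dX dZ c)

omit [QuasiCompact i] in
include hgi hgS hZ hc in
theorem exists_section : ∃ σ : ΩZ ⟶ (Scheme.Modules.pullback i).obj ΩX, σ ≫ c = 𝟙 _ := by
  let adj := Scheme.Modules.pullbackPushforwardAdjunction i
  let E := derComp dX (adj.homEquiv ΩX _ (𝟙 ((Scheme.Modules.pullback i).obj ΩX)))
  let D₂ := derComp (derPush (f := i ≫ f) (f' := f) g (𝟙 S) (by rw [Category.comp_id, hgS]) E)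
    ((Scheme.Modules.pushforwardComp i g).hom.app _ ≫
      (Scheme.Modules.pushforwardCongr hgi).hom.app _ ≫ (Scheme.Modules.pushforwardId Z).hom.app _)
  refine ⟨univDesc hZ D₂, universal_hom_ext hZ fun W s => ?_⟩
  change c.app W ((univDesc hZ D₂).app W (dZ.app W s)) = dZ.app W s
  rw [univDesc_app]
  have e : W ≤ i ⁻¹ᵁ (g ⁻¹ᵁ W) := fun z hz => by
    change g (i z) ∈ W
    rw [apply_gi i g hgi z]; exact hz
  have h : D₂.app W s = ((Scheme.Modules.pullback i).obj ΩX).presheaf.map (homOfLE e).op
      ((adj.homEquiv ΩX _ (𝟙 _)).app (g ⁻¹ᵁ W) (dX.app (g ⁻¹ᵁ W) (g.app W s))) := rfl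
  rw [h, homEquiv_app]
  have hn : ∀ x, c.app W (((Scheme.Modules.pullback i).obj ΩX).presheaf.map (homOfLE e).op x) =
      ΩZ.presheaf.map (homOfLE e).op (c.app (i ⁻¹ᵁ (g ⁻¹ᵁ W)) x) :=
    fun x => congr($(c.mapPresheaf.naturality (homOfLE e).op) x)
  rw [hn]
  change ΩZ.presheaf.map _ (c.app _ (pullSect i ΩX (g ⁻¹ᵁ W) _)) = _
  rw [hc (g ⁻¹ᵁ W) (g.app W s), ← der_app_map]
  congr 1
  simp only [← ConcreteCategory.comp_apply, Scheme.Hom.app_eq_appLE, Scheme.Hom.appLE_map,
    Scheme.Hom.appLE_comp_appLE]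
  rw [appLE_eq_of_eq hgi _ le_rfl]
  exact congr($(Z.presheaf.map_id _) s)

end Groth.Agent.Lib.Kaehler.Split
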